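import Cfsg.Agent.Lib.Solv.Basic

/-! Sylow subgroups of a subgroup, as subgroups of the ambient group. -/

set_option autoImplicit false
open Pointwise Subgroup

namespace Cfsg.Agent.Solv

variable {G : Type*} [Group G]

/-- `P` is a Sylow `p`-subgroup of the subgroup `K` (both subgroups of `G`). -/
structure IsSylowIn (p : ℕ) (P K : Subgroup G) : Prop where
  le : P ≤ K
  isPGroup : IsPGroup p P
  not_dvd : ¬ p ∣ P.relIndex K

variable {p : ℕ}

theorem relIndex_map_subtype (K : Subgroup G) (P : Subgroup K) :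
    (P.map K.subtype).relIndex K = P.index := by
  rw [relIndex, ← comap_subtype, comap_map_eq_self_of_injective K.subtype_injective]

theorem map_subtype_subgroupOf (K : Subgroup G) (P : Subgroup K) :
    (P.map K.subtype).subgroupOf K = P :=
  comap_map_eq_self_of_injective K.subtype_injective P

theorem subgroupOf_map_subtype_of_le {P K : Subgroup G} (h : P ≤ K) :
    (P.subgroupOf K).map K.subtype = P := by
  rw [subgroupOf_map_subtype, inf_of_le_left h]

theorem isPGroup_subgroupOf {P : Subgroup G} (h : IsPGroup p P) (K : Subgroup G) :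
    IsPGroup p (P.subgroupOf K) := h.comap_subtype

theorem isPGroup_of_subgroupOf {P K : Subgroup G} (hPK : P ≤ K) (h : IsPGroup p (P.subgroupOf K)) :
    IsPGroup p P := h.of_equiv (subgroupOfEquivOfLe hPK)

theorem isPGroup_sup {P Q : Subgroup G} (hP : IsPGroup p P) (hQ : IsPGroup p Q)
    (h : P ≤ normalizer (Q : Set G)) : IsPGroup p (P ⊔ Q : Subgroup G) :=
  hP.to_sup_of_normal_right' hQ h

theorem isSylowIn_map [Finite G] [Fact p.Prime] {K : Subgroup G} (P : Sylow p K) :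
    IsSylowIn p ((P : Subgroup K).map K.subtype) K :=
  ⟨map_subtype_le _, P.isPGroup'.map _, by rw [relIndex_map_subtype]; exact P.not_dvd_index⟩

theorem isSylowIn_top [Finite G] [Fact p.Prime] (P : Sylow p G) :
    IsSylowIn p (P : Subgroup G) ⊤ :=
  ⟨le_top, P.isPGroup', by rw [relIndex_top_right]; exact P.not_dvd_index⟩

theorem isSylowIn_of_le [Finite G] [Fact p.Prime] (P : Sylow p G) {K : Subgroup G}
    (h : (P : Subgroup G) ≤ K) : IsSylowIn p (P : Subgroup G) K :=
  ⟨h, P.isPGroup', fun hd => P.not_dvd_index (hd.trans (relIndex_dvd_index_of_le h))⟩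

namespace IsSylowIn

theorem exists_sylow [Fact p.Prime] {P K : Subgroup G} (h : IsSylowIn p P K) :
    ∃ Q : Sylow p K, (Q : Subgroup K) = P.subgroupOf K :=
  ⟨(isPGroup_subgroupOf h.isPGroup K).toSylow h.not_dvd, rfl⟩

theorem exists_sylow_map [Fact p.Prime] {P K : Subgroup G} (h : IsSylowIn p P K) :
    ∃ Q : Sylow p K, (Q : Subgroup K).map K.subtype = P := by
  obtain ⟨Q, hQ⟩ := h.exists_sylow
  exact ⟨Q, by rw [hQ, subgroupOf_map_subtype_of_le h.le]⟩

theorem exists_sylow_top [Fact p.Prime] {P : Subgroup G} (h : IsSylowIn p P ⊤) :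
    ∃ Q : Sylow p G, (Q : Subgroup G) = P :=
  ⟨h.isPGroup.toSylow (by rw [← relIndex_top_right]; exact h.not_dvd), rfl⟩

theorem exists_conj [Finite G] [Fact p.Prime] {P Q K : Subgroup G} (hP : IsSylowIn p P K)
    (hQ : IsSylowIn p Q K) : ∃ k ∈ K, MulAut.conj k • P = Q := by
  obtain ⟨P', rfl⟩ := hP.exists_sylow_map
  obtain ⟨Q', rfl⟩ := hQ.exists_sylow_map
  obtain ⟨k, rfl⟩ := MulAction.exists_smul_eq K P' Q'
  exact ⟨k, k.2, by rw [Sylow.coe_subgroup_smul, map_conj_smul]; rfl⟩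

theorem conj_smul {P K : Subgroup G} (hP : IsSylowIn p P K) (g : G) :
    IsSylowIn p (MulAut.conj g • P) (MulAut.conj g • K) :=
  ⟨conj_smul_mono g hP.le, isPGroup_conj_smul hP.isPGroup g, by
    rw [relIndex_pointwise_smul]; exact hP.not_dvd⟩

theorem conj_smul_of_mem_normalizer {P K : Subgroup G} (hP : IsSylowIn p P K) {g : G}
    (hg : g ∈ normalizer (K : Set G)) : IsSylowIn p (MulAut.conj g • P) K := by
  have := hP.conj_smul g
  rwa [conj_smul_eq_self_iff.2 hg] at this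

theorem conj_smul_of_mem {P K : Subgroup G} (hP : IsSylowIn p P K) {g : G}
    (hg : g ∈ K) : IsSylowIn p (MulAut.conj g • P) K :=
  hP.conj_smul_of_mem_normalizer (le_normalizer hg)

theorem eq_of_le [Finite G] [Fact p.Prime] {P Q K : Subgroup G} (hP : IsSylowIn p P K)
    (hQ : IsPGroup p Q) (hQK : Q ≤ K) (hPQ : P ≤ Q) : Q = P := by
  obtain ⟨P', hP'⟩ := hP.exists_sylow
  have := P'.is_maximal' (isPGroup_subgroupOf hQ K) (hP' ▸ comap_mono hPQ)
  have h2 := congrArg (Subgroup.map K.subtype) this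
  rwa [hP', subgroupOf_map_subtype_of_le hQK, subgroupOf_map_subtype_of_le hP.le] at h2

theorem card_eq [Finite G] [Fact p.Prime] {P K : Subgroup G} (hP : IsSylowIn p P K) :
    Nat.card P = p ^ (Nat.card K).factorization p := by
  obtain ⟨P', rfl⟩ := hP.exists_sylow_map
  rw [card_subtype, P'.card_eq_multiplicity]

theorem of_le {P K L : Subgroup G} (hP : IsSylowIn p P K) (h1 : P ≤ L) (h2 : L ≤ K) :
    IsSylowIn p P L :=
  ⟨h1, hP.isPGroup, fun hd => hP.not_dvd (hd.trans ⟨_, (relIndex_mul_relIndex P L K h1 h2).symm⟩)⟩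

theorem ne_bot [Finite G] [Fact p.Prime] {P K : Subgroup G} (hP : IsSylowIn p P K)
    (h : p ∣ Nat.card K) : P ≠ ⊥ := by
  rintro rfl
  exact hP.not_dvd (by rwa [relIndex_bot_left])

theorem coprime [Finite G] [hp : Fact p.Prime] {P K : Subgroup G} (hP : IsSylowIn p P K) :
    (Nat.card P).Coprime (P.relIndex K) := by
  rw [hP.card_eq]
  exact Nat.Coprime.pow_left _ ((Nat.Prime.coprime_iff_not_dvd hp.out).2 hP.not_dvd)

/-- a `p`-subgroup of `K` normalised by a Sylow subgroup lies in it. -/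
theorem le_of_le_normalizer [Finite G] [Fact p.Prime] {P U K : Subgroup G} (hP : IsSylowIn p P K)
    (hU : IsPGroup p U) (hUK : U ≤ K) (h : P ≤ normalizer (U : Set G)) : U ≤ P := by
  have := hP.eq_of_le (isPGroup_sup hP.isPGroup hU h) (sup_le hP.le hUK) le_sup_left
  exact this ▸ le_sup_right

/-- a `p`-subgroup of `K` normalising a Sylow subgroup lies in it. -/
theorem le_of_le_normalizer' [Finite G] [Fact p.Prime] {P U K : Subgroup G} (hP : IsSylowIn p P K)
    (hU : IsPGroup p U) (hUK : U ≤ K) (h : U ≤ normalizer (P : Set G)) : U ≤ P := by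
  have := hP.eq_of_le (isPGroup_sup hU hP.isPGroup h) (sup_le hUK hP.le) le_sup_right
  exact this ▸ le_sup_left

/-- Frattini argument, element form. -/
theorem frattini_elt [Finite G] [Fact p.Prime] {P K : Subgroup G} (hP : IsSylowIn p P K) {g : G}
    (hg : g ∈ normalizer (K : Set G)) : ∃ k ∈ K, k⁻¹ * g ∈ normalizer (P : Set G) := by
  obtain ⟨k, hk, h⟩ := hP.exists_conj (hP.conj_smul_of_mem_normalizer hg)
  refine ⟨k, hk, ?_⟩
  rw [← conj_smul_eq_self_iff, ← conj_smul_conj_smul, ← h, conj_inv_smul_conj_smul]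

/-- Frattini argument. -/
theorem frattini [Finite G] [Fact p.Prime] {P K L : Subgroup G} (hP : IsSylowIn p P K)
    (hKL : K ≤ L) (hL : L ≤ normalizer (K : Set G)) : K ⊔ (normalizer (P : Set G) ⊓ L) = L := by
  apply le_antisymm (sup_le hKL inf_le_right)
  intro g hg
  obtain ⟨k, hk, h⟩ := hP.frattini_elt (hL hg)
  have : g = k * (k⁻¹ * g) := by group
  rw [this]
  exact mul_mem (mem_sup_left hk) (mem_sup_right (mem_inf.2 ⟨h, mul_mem (inv_mem (hKL hk)) hg⟩))

theorem frattini_top [Finite G] [Fact p.Prime] {P K : Subgroup G} [K.Normal]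
    (hP : IsSylowIn p P K) : K ⊔ normalizer (P : Set G) = ⊤ := by
  have := hP.frattini (L := ⊤) le_top le_normalizer_of_normal
  rwa [inf_top_eq] at this

/-- intersection of a Sylow subgroup with a normal subgroup. -/
theorem inf_normal [Finite G] [hp : Fact p.Prime] {P K N : Subgroup G} (hP : IsSylowIn p P K)
    (hNK : N ≤ K) (hN : K ≤ normalizer (N : Set G)) : IsSylowIn p (P ⊓ N) N := by
  refine ⟨inf_le_right, hP.isPGroup.to_inf_left, fun hd => hP.not_dvd ?_⟩
  have h1 := card_sup_mul_card_inf (hP.le.trans hN)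
  rw [← card_mul_relIndex (le_sup_left : P ≤ P ⊔ N),
    ← card_mul_relIndex (inf_le_right : P ⊓ N ≤ N), mul_assoc, mul_comm (P.relIndex _)] at h1
  have h2 := Nat.eq_of_mul_eq_mul_left Nat.card_pos (Nat.eq_of_mul_eq_mul_left Nat.card_pos h1)
  rw [← h2] at hd
  exact hd.trans ⟨_, (relIndex_mul_relIndex P _ K le_sup_left (sup_le hP.le hNK)).symm⟩

theorem map [Finite G] [hp : Fact p.Prime] {G' : Type*} [Group G'] (f : G →* G') {P K : Subgroup G}
    (hP : IsSylowIn p P K) : IsSylowIn p (P.map f) (K.map f) := by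
  refine ⟨map_mono hP.le, hP.isPGroup.map f, fun hd => hP.not_dvd ?_⟩
  have h1 : (P.map f).relIndex (K.map f) = ((P.subgroupOf K).map (f.subgroupMap K)).index := by
    rw [relIndex]
    congr 1
    ext ⟨_, y, hy, rfl⟩
    constructor
    · rintro ⟨z, hz, hzy⟩
      exact ⟨⟨z, hP.le hz⟩, hz, Subtype.ext hzy⟩
    · rintro ⟨z, hz, hzy⟩
      exact ⟨z, hz, congrArg Subtype.val hzy⟩
  rw [h1] at hd
  exact hd.trans (index_map_dvd _ (f.subgroupMap_surjective K))

theorem subgroupOf {P K L : Subgroup G} (hP : IsSylowIn p P K) (hKL : K ≤ L) :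
    IsSylowIn p (P.subgroupOf L) (K.subgroupOf L) :=
  ⟨comap_mono hP.le, isPGroup_subgroupOf hP.isPGroup L, by
    rw [relIndex_subgroupOf hKL]; exact hP.not_dvd⟩

theorem normalizer_eq_of_le [Finite G] [Fact p.Prime] {P K L : Subgroup G} (hP : IsSylowIn p P K)
    (hL : normalizer (P : Set G) ⊓ K ≤ L) (hLK : L ≤ K) : normalizer (L : Set G) ⊓ K = L := by
  apply le_antisymm _ (le_inf le_normalizer hLK)
  rintro g ⟨hg, hgK⟩
  have hPL : P ≤ L := (le_inf le_normalizer hP.le).trans hL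
  obtain ⟨k, hk, h⟩ := (hP.of_le hPL hLK).frattini_elt hg
  have := hL (mem_inf.2 ⟨h, mul_mem (inv_mem (hLK hk)) hgK⟩)
  exact (mul_mem_cancel_left (inv_mem hk)).1 this

end IsSylowIn

theorem exists_isSylowIn_ge [Finite G] [Fact p.Prime] {U K : Subgroup G} (hU : IsPGroup p U)
    (hUK : U ≤ K) : ∃ P, IsSylowIn p P K ∧ U ≤ P := by
  obtain ⟨Q, hQ⟩ := (isPGroup_subgroupOf hU K).exists_le_sylow
  refine ⟨_, isSylowIn_map Q, ?_⟩
  rw [← subgroupOf_map_subtype_of_le hUK]
  exact map_mono hQ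

theorem exists_isSylowIn [Finite G] (p : ℕ) [Fact p.Prime] (K : Subgroup G) :
    ∃ P, IsSylowIn p P K :=
  (exists_isSylowIn_ge (IsPGroup.of_bot (p := p)) (bot_le : ⊥ ≤ K)).imp fun _ h => h.1

theorem IsSylowIn.exists_le_conj [Finite G] [Fact p.Prime] {P U K : Subgroup G}
    (hP : IsSylowIn p P K) (hU : IsPGroup p U) (hUK : U ≤ K) :
    ∃ k ∈ K, U ≤ MulAut.conj k • P := by
  obtain ⟨Q, hQ, hUQ⟩ := exists_isSylowIn_ge hU hUK
  obtain ⟨k, hk, rfl⟩ := hP.exists_conj hQ
  exact ⟨k, hk, hUQ⟩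

theorem isSylowIn_of_card [Finite G] [hp : Fact p.Prime] {P K : Subgroup G} (hPK : P ≤ K)
    (h : Nat.card P = p ^ (Nat.card K).factorization p) : IsSylowIn p P K := by
  have hP : IsPGroup p P := IsPGroup.of_card h
  obtain ⟨Q, hQ, hPQ⟩ := exists_isSylowIn_ge hP hPK
  rwa [eq_of_le_of_card_le hPQ (by rw [hQ.card_eq, h])]

theorem isSylowIn_of_maximal [Finite G] [Fact p.Prime] {P K : Subgroup G} (hPK : P ≤ K)
    (hP : IsPGroup p P) (h : ∀ Q : Subgroup G, IsPGroup p Q → Q ≤ K → P ≤ Q → Q = P) : IsSylowIn p P K := by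
  obtain ⟨Q, hQ, hPQ⟩ := exists_isSylowIn_ge hP hPK
  rwa [← h Q hQ.isPGroup hQ.le hPQ]

/-- normalisers grow in nilpotent subgroups. -/
theorem lt_normalizer_inf_of_nilpotent {U P : Subgroup G} (hP : Group.IsNilpotent P) (h : U < P) :
    U < normalizer (U : Set G) ⊓ P := by
  have h1 := Group.normalizerCondition_of_isNilpotent (G := P) (U.subgroupOf P)
    (lt_top_iff_ne_top.2 fun h2 => h.not_ge (subgroupOf_eq_top.1 h2))
  obtain ⟨x, hx, hxU⟩ := SetLike.exists_of_lt h1
  refine lt_of_le_of_ne (le_inf le_normalizer h.le) fun h3 => hxU ?_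
  rw [← subgroupOf_normalizer_eq h.le] at hx
  have : (x : G) ∈ normalizer (U : Set G) ⊓ P := mem_inf.2 ⟨hx, x.2⟩
  rw [← h3] at this
  exact this

theorem lt_normalizer_inf_of_isPGroup [Finite G] [Fact p.Prime] {U P : Subgroup G}
    (hP : IsPGroup p P) (h : U < P) : U < normalizer (U : Set G) ⊓ P :=
  lt_normalizer_inf_of_nilpotent hP.isNilpotent h

/-- a `p`-subgroup of `K` that is Sylow in its normaliser in `K` is Sylow in `K`. -/
theorem IsSylowIn.of_normalizer [Finite G] [Fact p.Prime] {U K : Subgroup G} (hUK : U ≤ K)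
    (hU : IsSylowIn p U (normalizer (U : Set G) ⊓ K)) : IsSylowIn p U K := by
  obtain ⟨Q, hQ, hUQ⟩ := exists_isSylowIn_ge hU.isPGroup hUK
  rcases hUQ.lt_or_eq with h | h
  · have h1 := lt_normalizer_inf_of_isPGroup hQ.isPGroup h
    exact absurd (hU.eq_of_le hQ.isPGroup.to_inf_right (inf_le_inf_left _ hQ.le) h1.le) h1.ne'
  · rwa [h]

theorem isPGroup_of_isSylowIn_self [Finite G] [Fact p.Prime] {K : Subgroup G}
    (h : IsPGroup p K) : IsSylowIn p K K :=
  ⟨le_rfl, h, by rw [relIndex_self]; exact (Fact.out : p.Prime).not_dvd_one⟩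

/-- the Sylow subgroups (any choice, one for each prime divisor) generate. -/
theorem le_of_forall_isSylowIn [Finite G] {K L : Subgroup G}
    (h : ∀ p : ℕ, p.Prime → p ∣ Nat.card K → ∃ P, IsSylowIn p P K ∧ P ≤ L) : K ≤ L := by
  rw [← relIndex_eq_one]
  by_contra hne
  obtain ⟨p, hp, hd⟩ := Nat.exists_prime_and_dvd hne
  obtain ⟨P, hP, hPL⟩ := h p hp (hd.trans (relIndex_dvd_card L K))
  exact hP.not_dvd (hd.trans (relIndex_dvd_of_le_left K hPL))

theorem coprime_card_of_isPGroup [Finite G] [hp : Fact p.Prime] {P : Subgroup G} (hP : IsPGroup p P)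
    {n : ℕ} (h : ¬ p ∣ n) : (Nat.card P).Coprime n := by
  obtain ⟨k, hk⟩ := IsPGroup.iff_card.1 hP
  rw [hk]
  exact Nat.Coprime.pow_left _ ((Nat.Prime.coprime_iff_not_dvd hp.out).2 h)

theorem coprime_card_of_isPGroup' [Finite G] [hp : Fact p.Prime] {P : Subgroup G} (hP : IsPGroup p P)
    {n : ℕ} (h : n.Coprime p) : n.Coprime (Nat.card P) := by
  obtain ⟨k, hk⟩ := IsPGroup.iff_card.1 hP
  rw [hk]
  exact Nat.Coprime.pow_right _ h

theorem dvd_card_of_isPGroup [Finite G] [hp : Fact p.Prime] {P : Subgroup G} (hP : IsPGroup p P)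
    (h : P ≠ ⊥) : p ∣ Nat.card P :=
  hP.card_eq_or_dvd.resolve_left fun h1 => h (card_eq_one.1 h1)

theorem eq_of_isPGroup_of_dvd [Finite G] [hp : Fact p.Prime] {P : Subgroup G} (hP : IsPGroup p P)
    {q : ℕ} (hq : q.Prime) (h : q ∣ Nat.card P) : q = p := by
  obtain ⟨k, hk⟩ := IsPGroup.iff_card.1 hP
  rw [hk] at h
  exact (Nat.prime_dvd_prime_iff_eq hq hp.out).1 (hq.dvd_of_dvd_pow h)

theorem isPGroup_of_forall_prime_dvd [Finite G] [hp : Fact p.Prime]
    (h : ∀ q : ℕ, q.Prime → q ∣ Nat.card G → q = p) : IsPGroup p G :=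
  IsPGroup.of_card (Nat.eq_prime_pow_of_unique_prime_dvd Nat.card_pos.ne' fun hq hd => h _ hq hd)

theorem eq_bot_of_isPGroup_of_not_dvd [Finite G] [hp : Fact p.Prime] {P : Subgroup G}
    (hP : IsPGroup p P) (h : ¬ p ∣ Nat.card P) : P = ⊥ := by
  by_contra hne
  exact h (dvd_card_of_isPGroup hP hne)

end Cfsg.Agent.Solv
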