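import Cfsg.Agent.Lib.Solv.SZ
import Cfsg.Agent.Lib.Solv.SylowIn

/-! Coprime action (internal form: `A` normalises `K` inside an ambient finite group). -/

set_option autoImplicit false
open Pointwise Subgroup
open scoped commutatorElement

namespace Cfsg.Agent.Solv

variable {G : Type*} [Group G] [Finite G]

/-- fixed cosets contain fixed points. Only `|N|` has to be coprime to `|A|`. -/
theorem coprime_fixed_coset {A N : Subgroup G} (hNA : A ≤ normalizer (N : Set G))
    (hcop : (Nat.card A).Coprime (Nat.card N)) (hs : Group.IsSolvable A ∨ Group.IsSolvable N)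
    {k : G} (hk : k ∈ normalizer (N : Set G)) (hfix : ∀ a ∈ A, a * k * a⁻¹ * k⁻¹ ∈ N) :
    ∃ n ∈ N, n * k ∈ centralizer (A : Set G) := by
  have h1 : MulAut.conj k • A ≤ N ⊔ A := by
    rw [conj_smul_le_iff]
    intro a ha
    have h := hfix a⁻¹ (inv_mem ha)
    have : k * a * k⁻¹ = a * (a⁻¹ * k * a⁻¹⁻¹ * k⁻¹) := by group
    rw [this]
    exact mul_mem (mem_sup_right ha) (mem_sup_left h)
  obtain ⟨n, hn, h2⟩ := sz_le_conj hNA hcop hs
    (inf_eq_bot_of_coprime' (by rw [card_conj_smul]; exact hcop.symm)) h1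
  refine ⟨n⁻¹, inv_mem hn, ?_⟩
  rw [mem_centralizer_iff]
  intro a ha
  have h3 : a * (n⁻¹ * k) * a⁻¹ * (n⁻¹ * k)⁻¹ ∈ N ⊓ A := by
    refine mem_inf.2 ⟨?_, ?_⟩
    · have : a * (n⁻¹ * k) * a⁻¹ * (n⁻¹ * k)⁻¹ = (a * n⁻¹ * a⁻¹) * (a * k * a⁻¹ * k⁻¹) * n := by group
      rw [this]
      exact mul_mem (mul_mem (conj_mem_of_mem_normalizer (hNA ha) (inv_mem hn)) (hfix a ha)) hn
    · have h4 := mem_conj_smul.1 (h2 (conj_mem_conj_smul k (inv_mem ha)))
      have : a * (n⁻¹ * k) * a⁻¹ * (n⁻¹ * k)⁻¹ = a * (n⁻¹ * (k * a⁻¹ * k⁻¹) * n) := by group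
      rw [this]
      exact mul_mem ha h4
  rw [inf_eq_bot_of_coprime' hcop.symm, mem_bot] at h3
  calc a * (n⁻¹ * k) = a * (n⁻¹ * k) * a⁻¹ * (n⁻¹ * k)⁻¹ * (n⁻¹ * k * a) := by group
    _ = n⁻¹ * k * a := by rw [h3, one_mul]

/-- If `[K, A] ≤ N` with `N ⊴ K` invariant and of order coprime to `|A|`, then `K = N C_K(A)`. -/
theorem coprime_sup_centralizer_of_commutator_le {A K N : Subgroup G} (hNK : N ≤ K)
    (hKN : K ≤ normalizer (N : Set G)) (hNA : A ≤ normalizer (N : Set G))
    (hcop : (Nat.card A).Coprime (Nat.card N)) (hs : Group.IsSolvable A ∨ Group.IsSolvable N)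
    (h : ⁅K, A⁆ ≤ N) : N ⊔ (K ⊓ centralizer (A : Set G)) = K := by
  apply le_antisymm (sup_le hNK inf_le_left)
  intro k hk
  obtain ⟨n, hn, hc⟩ := coprime_fixed_coset hNA hcop hs (hKN hk) (fun a ha => by
    rw [commutator_comm] at h
    exact h (commutator_mem_commutator ha hk))
  have : k = n⁻¹ * (n * k) := by group
  rw [this]
  exact mul_mem (mem_sup_left (inv_mem hn)) (mem_sup_right (mem_inf.2 ⟨mul_mem (hNK hn) hk, hc⟩))

omit [Finite G] in
theorem commutator_le_left_of_le_normalizer {A K : Subgroup G} (hAK : A ≤ normalizer (K : Set G)) :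
    ⁅K, A⁆ ≤ K := le_normalizer_iff_commutator_le_left.1 hAK

/-- `K = [K, A] C_K(A)`. -/
theorem coprime_commutator_sup_centralizer {A K : Subgroup G} (hAK : A ≤ normalizer (K : Set G))
    (hcop : (Nat.card A).Coprime (Nat.card K)) (hs : Group.IsSolvable A ∨ Group.IsSolvable K) :
    ⁅K, A⁆ ⊔ (K ⊓ centralizer (A : Set G)) = K :=
  have h := commutator_le_left_of_le_normalizer hAK
  coprime_sup_centralizer_of_commutator_le h (normalizer_commutator_ge_left K A)
    (normalizer_commutator_ge_right K A) (hcop.coprime_dvd_right (card_dvd_of_le h))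
    (hs.imp_right (isSolvable_of_le h)) le_rfl

omit [Finite G] in
/-- if `K = N C` with `C` centralising `A` and `N ⊴ K` then `[K, A] = [N, A]`. -/
theorem commutator_eq_of_sup_centralizer {A K N : Subgroup G}
    (hKN : K ≤ normalizer (N : Set G)) (h : N ⊔ (K ⊓ centralizer (A : Set G)) = K) :
    ⁅K, A⁆ = ⁅N, A⁆ := by
  have hNK : N ≤ K := h ▸ le_sup_left
  apply le_antisymm _ (commutator_mono hNK le_rfl)
  rw [commutator_le]
  intro k hk a ha
  rw [← h] at hk
  obtain ⟨n, hn, c, hc, rfl⟩ := (mem_sup_of_le_normalizer' (inf_le_left.trans hKN)).1 hk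
  have h1 : a * c = c * a := (mem_centralizer_iff.1 (mem_inf.1 hc).2) a ha
  have : ⁅n * c, a⁆ = ⁅n, a⁆ := by
    simp only [commutatorElement_def]
    calc n * c * a * (n * c)⁻¹ * a⁻¹ = n * (c * a) * c⁻¹ * n⁻¹ * a⁻¹ := by group
      _ = n * a * n⁻¹ * a⁻¹ := by rw [← h1]; group
  rw [this]
  exact commutator_mem_commutator hn ha

/-- `[K, A, A] = [K, A]`. -/
theorem coprime_commutator_commutator {A K : Subgroup G} (hAK : A ≤ normalizer (K : Set G))
    (hcop : (Nat.card A).Coprime (Nat.card K)) (hs : Group.IsSolvable A ∨ Group.IsSolvable K) :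
    ⁅⁅K, A⁆, A⁆ = ⁅K, A⁆ :=
  (commutator_eq_of_sup_centralizer (normalizer_commutator_ge_left K A)
    (coprime_commutator_sup_centralizer hAK hcop hs)).symm

/-- a coprime action that is trivial on a normal subgroup `N` and on `K/N` is trivial. No
solvability is needed, and only `|N|` has to be coprime to `|A|`. -/
theorem coprime_le_centralizer_of_commutator_le {A K N : Subgroup G}
    (hcop : (Nat.card A).Coprime (Nat.card N)) (h1 : ⁅K, A⁆ ≤ N)
    (h2 : A ≤ centralizer (N : Set G)) : A ≤ centralizer (K : Set G) := by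
  intro a ha
  rw [mem_centralizer_iff]
  intro k hk
  have hn : k * a * k⁻¹ * a⁻¹ ∈ N := h1 (commutator_mem_commutator hk ha)
  set n := k * a * k⁻¹ * a⁻¹ with hn'
  have hc : Commute n a := (mem_centralizer_iff.1 (h2 ha)) n hn
  have h3 : k * a * k⁻¹ = n * a := by rw [hn']; group
  have h4 : n ^ Nat.card A = 1 := by
    have h5 : (k * a * k⁻¹) ^ Nat.card A = 1 := by
      rw [conj_pow]
      have : a ^ Nat.card A = 1 := congrArg Subtype.val (pow_card_eq_one' (x := (⟨a, ha⟩ : A)))
      rw [this]; group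
    rw [h3, hc.mul_pow] at h5
    have : a ^ Nat.card A = 1 := congrArg Subtype.val (pow_card_eq_one' (x := (⟨a, ha⟩ : A)))
    rwa [this, mul_one] at h5
  have h6 : n ^ Nat.card N = 1 := congrArg Subtype.val (pow_card_eq_one' (x := (⟨n, hn⟩ : N)))
  have h7 : n = 1 := by
    have := pow_gcd_eq_one.2 ⟨h4, h6⟩
    rwa [hcop, pow_one] at this
  rw [h7, one_mul] at h3
  calc k * a = k * a * k⁻¹ * k := by group
    _ = a * k := by rw [h3]

/-- quadratic coprime action is trivial. -/
theorem coprime_le_centralizer_of_quadratic {A K : Subgroup G} (hAK : A ≤ normalizer (K : Set G))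
    (hcop : (Nat.card A).Coprime (Nat.card K)) (h : ⁅⁅K, A⁆, A⁆ = ⊥) :
    A ≤ centralizer (K : Set G) :=
  coprime_le_centralizer_of_commutator_le
    (hcop.coprime_dvd_right (card_dvd_of_le (commutator_le_left_of_le_normalizer hAK))) le_rfl
    (by rw [commutator_comm, commutator_eq_bot_iff_le_centralizer] at h; exact h)

/-- existence of invariant Sylow subgroups. -/
theorem coprime_exists_sylowIn {A K : Subgroup G} (hAK : A ≤ normalizer (K : Set G))
    (hcop : (Nat.card A).Coprime (Nat.card K)) (hs : Group.IsSolvable A ∨ Group.IsSolvable K)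
    (p : ℕ) [Fact p.Prime] : ∃ P, IsSylowIn p P K ∧ A ≤ normalizer (P : Set G) := by
  obtain ⟨P, hP⟩ := exists_isSylowIn p K
  obtain ⟨k, hk, h⟩ := glauberman_exists (S := normalizer (P : Set G)) hAK hcop hs
    (fun a ha => hP.frattini_elt (hAK ha))
  exact ⟨_, hP.conj_smul_of_mem hk, by rwa [normalizer_conj_smul]⟩

/-- conjugate invariant subgroups are conjugate under the centraliser. -/
theorem coprime_conj_of_conj {A K P : Subgroup G} (hAK : A ≤ normalizer (K : Set G))
    (hcop : (Nat.card A).Coprime (Nat.card K)) (hs : Group.IsSolvable A ∨ Group.IsSolvable K)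
    (hP : A ≤ normalizer (P : Set G)) {k : G} (hk : k ∈ K)
    (hQ : A ≤ normalizer ((MulAut.conj k • P : Subgroup G) : Set G)) :
    ∃ c ∈ K ⊓ centralizer (A : Set G), MulAut.conj c • P = MulAut.conj k • P := by
  rw [normalizer_conj_smul] at hQ
  obtain ⟨c, hc, h⟩ := glauberman_conj hAK hcop hs hP hk hQ
  refine ⟨c, hc, ?_⟩
  have : c = k * (k⁻¹ * c) := by group
  rw [this, ← conj_smul_conj_smul, conj_smul_eq_self_iff.2 (mem_inf.1 h).2]

/-- conjugacy of invariant Sylow subgroups. -/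
theorem coprime_sylowIn_conj {A K : Subgroup G} (hAK : A ≤ normalizer (K : Set G))
    (hcop : (Nat.card A).Coprime (Nat.card K)) (hs : Group.IsSolvable A ∨ Group.IsSolvable K)
    {p : ℕ} [Fact p.Prime] {P Q : Subgroup G} (hP : IsSylowIn p P K) (hQ : IsSylowIn p Q K)
    (hPA : A ≤ normalizer (P : Set G)) (hQA : A ≤ normalizer (Q : Set G)) :
    ∃ c ∈ K ⊓ centralizer (A : Set G), MulAut.conj c • P = Q := by
  obtain ⟨k, hk, rfl⟩ := hP.exists_conj hQ
  exact coprime_conj_of_conj hAK hcop hs hPA hk hQA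

omit [Finite G] in
theorem le_normalizer_normalizer {A U : Subgroup G} (h : A ≤ normalizer (U : Set G)) :
    A ≤ normalizer (normalizer (U : Set G) : Set G) := h.trans le_normalizer

/-- invariant `p`-subgroups lie in invariant Sylow subgroups. -/
theorem coprime_exists_sylowIn_ge {A K : Subgroup G} (hAK : A ≤ normalizer (K : Set G))
    (hcop : (Nat.card A).Coprime (Nat.card K)) (hs : Group.IsSolvable A ∨ Group.IsSolvable K)
    {p : ℕ} [Fact p.Prime] {U : Subgroup G} (hUK : U ≤ K) (hU : IsPGroup p U)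
    (hUA : A ≤ normalizer (U : Set G)) :
    ∃ P, IsSylowIn p P K ∧ U ≤ P ∧ A ≤ normalizer (P : Set G) := by
  obtain ⟨M, hUM, ⟨hMK, hM, hMA⟩, hmax⟩ := exists_maximal_ge
    (P := fun M : Subgroup G => M ≤ K ∧ IsPGroup p M ∧ A ≤ normalizer (M : Set G)) ⟨hUK, hU, hUA⟩
  refine ⟨M, IsSylowIn.of_normalizer hMK ?_, hUM, hMA⟩
  obtain ⟨P, hP, hPA⟩ := coprime_exists_sylowIn (K := normalizer (M : Set G) ⊓ K)
    (le_normalizer_inf (le_normalizer_normalizer hMA) hAK)
    (hcop.coprime_dvd_right (card_dvd_of_le inf_le_right))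
    (hs.imp_right (isSolvable_of_le inf_le_right)) p
  have hMP : M ≤ P := hP.le_of_le_normalizer hM (le_inf le_normalizer hMK) (hP.le.trans inf_le_left)
  rwa [← hmax P ⟨hP.le.trans inf_le_right, hP.isPGroup, hPA⟩ hMP] at hP ⊢
  
/-- fixed points in a product of invariant subgroups. -/
theorem coprime_fixed_mul {A X Y : Subgroup G} (hXA : A ≤ normalizer (X : Set G))
    (hYA : A ≤ normalizer (Y : Set G))
    (hcop : (Nat.card A).Coprime (Nat.card (X ⊓ Y : Subgroup G)))
    (hs : Group.IsSolvable A ∨ Group.IsSolvable (X ⊓ Y : Subgroup G))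
    {x y : G} (hx : x ∈ X) (hy : y ∈ Y) (hk : x * y ∈ centralizer (A : Set G)) :
    ∃ x' ∈ X ⊓ centralizer (A : Set G), ∃ y' ∈ Y ⊓ centralizer (A : Set G), x * y = x' * y' := by
  -- `y A y⁻¹ = x⁻¹ A x` lies in `(X ⊓ Y) A`
  have hD := le_normalizer_inf hXA hYA
  have h0 : ∀ a ∈ A, a * y * a⁻¹ * y⁻¹ ∈ X ⊓ Y := by
    intro a ha
    refine mem_inf.2 ⟨?_, mul_mem (conj_mem_of_mem_normalizer (hYA ha) hy) (inv_mem hy)⟩
    have h1 : a * (x * y) = x * y * a := mem_centralizer_iff.1 hk a ha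
    have : a * y * a⁻¹ * y⁻¹ = (a * x⁻¹ * a⁻¹) * x := by
      calc a * y * a⁻¹ * y⁻¹ = a * x⁻¹ * a⁻¹ * (a * (x * y)) * a⁻¹ * y⁻¹ := by group
        _ = (a * x⁻¹ * a⁻¹) * x := by rw [h1]; group
    rw [this]
    exact mul_mem (conj_mem_of_mem_normalizer (hXA ha) (inv_mem hx)) hx
  have h1 : MulAut.conj y • A ≤ (X ⊓ Y) ⊔ A := by
    rw [conj_smul_le_iff]
    intro a ha
    have h := h0 a⁻¹ (inv_mem ha)
    have : y * a * y⁻¹ = a * (a⁻¹ * y * a⁻¹⁻¹ * y⁻¹) := by group
    rw [this]
    exact mul_mem (mem_sup_right ha) (mem_sup_left h)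
  obtain ⟨n, hn, h2⟩ := sz_le_conj hD hcop hs
    (inf_eq_bot_of_coprime' (by rw [card_conj_smul]; exact hcop.symm)) h1
  have h3 : n⁻¹ * y ∈ centralizer (A : Set G) := by
    rw [mem_centralizer_iff]
    intro a ha
    have h3 : a * (n⁻¹ * y) * a⁻¹ * (n⁻¹ * y)⁻¹ ∈ (X ⊓ Y) ⊓ A := by
      refine mem_inf.2 ⟨?_, ?_⟩
      · have : a * (n⁻¹ * y) * a⁻¹ * (n⁻¹ * y)⁻¹ = (a * n⁻¹ * a⁻¹) * (a * y * a⁻¹ * y⁻¹) * n := by
          group
        rw [this]
        exact mul_mem (mul_mem (conj_mem_of_mem_normalizer (hD ha) (inv_mem hn)) (h0 a ha)) hn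
      · have h4 := mem_conj_smul.1 (h2 (conj_mem_conj_smul y (inv_mem ha)))
        have : a * (n⁻¹ * y) * a⁻¹ * (n⁻¹ * y)⁻¹ = a * (n⁻¹ * (y * a⁻¹ * y⁻¹) * n) := by group
        rw [this]
        exact mul_mem ha h4
    rw [inf_eq_bot_of_coprime' hcop.symm, mem_bot] at h3
    calc a * (n⁻¹ * y) = a * (n⁻¹ * y) * a⁻¹ * (n⁻¹ * y)⁻¹ * (n⁻¹ * y * a) := by group
      _ = n⁻¹ * y * a := by rw [h3, one_mul]
  refine ⟨x * n, mem_inf.2 ⟨mul_mem hx (mem_inf.1 hn).1, ?_⟩, n⁻¹ * y,
    mem_inf.2 ⟨mul_mem (inv_mem (mem_inf.1 hn).2) hy, h3⟩, by group⟩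
  have : x * n = x * y * (n⁻¹ * y)⁻¹ := by group
  rw [this]
  exact mul_mem hk (inv_mem h3)

/-- `C_{K/N}(A)` is the image of `C_K(A)` (for `N` normal in the ambient group). -/
theorem coprime_map_mk_inf_centralizer {A K N : Subgroup G} [N.Normal] (hNK : N ≤ K)
    (hcop : (Nat.card A).Coprime (Nat.card N)) (hs : Group.IsSolvable A ∨ Group.IsSolvable N) :
    (K ⊓ centralizer (A : Set G)).map (QuotientGroup.mk' N) =
      K.map (QuotientGroup.mk' N) ⊓
        centralizer ((A.map (QuotientGroup.mk' N) : Subgroup (G ⧸ N)) : Set (G ⧸ N)) := by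
  apply le_antisymm
  · rintro _ ⟨k, hk, rfl⟩
    refine mem_inf.2 ⟨mem_map_of_mem _ (mem_inf.1 hk).1, ?_⟩
    rw [mem_centralizer_iff]
    rintro _ ⟨a, ha, rfl⟩
    rw [← map_mul, ← map_mul, mem_centralizer_iff.1 (mem_inf.1 hk).2 a ha]
  · rintro _ ⟨⟨k, hk, rfl⟩, h⟩
    obtain ⟨n, hn, hc⟩ := coprime_fixed_coset (k := k) le_normalizer_of_normal hcop hs
      (le_normalizer_of_normal (mem_top k)) (fun a ha => by
        have := mem_centralizer_iff.1 h _ (mem_map_of_mem _ ha)
        rw [← QuotientGroup.eq_one_iff, ← QuotientGroup.mk'_apply]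
        simp only [map_mul, map_inv]
        rw [this]; group)
    refine ⟨n * k, mem_inf.2 ⟨mul_mem (hNK hn) hk, hc⟩, ?_⟩
    rw [map_mul, QuotientGroup.mk'_apply, (QuotientGroup.eq_one_iff n).2 hn, one_mul]

/-- `C_{G/N}(A)` is the image of `C_G(A)`. -/
theorem coprime_map_mk_centralizer {A N : Subgroup G} [N.Normal]
    (hcop : (Nat.card A).Coprime (Nat.card N)) (hs : Group.IsSolvable A ∨ Group.IsSolvable N) :
    (centralizer (A : Set G)).map (QuotientGroup.mk' N) =
        centralizer ((A.map (QuotientGroup.mk' N) : Subgroup (G ⧸ N)) : Set (G ⧸ N)) := by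
  have := coprime_map_mk_inf_centralizer (K := ⊤) le_top hcop hs
  rwa [top_inf_eq, map_top_of_surjective _ (QuotientGroup.mk'_surjective N), top_inf_eq] at this

/-- `N_{G/N}(A)` is the image of `N_G(A)`. -/
theorem coprime_map_mk_normalizer {A N : Subgroup G} [N.Normal]
    (hcop : (Nat.card A).Coprime (Nat.card N)) (hs : Group.IsSolvable A ∨ Group.IsSolvable N) :
    (normalizer (A : Set G)).map (QuotientGroup.mk' N) =
        normalizer ((A.map (QuotientGroup.mk' N) : Subgroup (G ⧸ N)) : Set (G ⧸ N)) := by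
  apply le_antisymm (le_normalizer_map _)
  intro g hg
  obtain ⟨g, rfl⟩ := QuotientGroup.mk'_surjective N g
  rw [← conj_smul_eq_self_iff, ← map_conj_smul] at hg
  have h1 : MulAut.conj g • A ≤ N ⊔ A := by
    rw [sup_comm]; exact (map_mk_le_map_mk_iff N).1 hg.le
  obtain ⟨n, hn, h2⟩ := sz_le_conj le_normalizer_of_normal hcop hs
    (inf_eq_bot_of_coprime' (by rw [card_conj_smul]; exact hcop.symm)) h1
  refine ⟨n⁻¹ * g, ?_, ?_⟩
  · rw [SetLike.mem_coe, ← conj_smul_eq_self_iff, ← conj_smul_conj_smul,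
      eq_of_le_of_card_le h2 (by rw [card_conj_smul, card_conj_smul]), conj_inv_smul_conj_smul]
  · rw [map_mul, QuotientGroup.mk'_apply, (QuotientGroup.eq_one_iff n⁻¹).2 (inv_mem hn), one_mul]

/-- abelian case: `C_V(A) ⊓ [V, A] = 1`. -/
theorem coprime_abelian_inf_eq_bot {A V : Subgroup G} (hV : IsMulCommutative V)
    (hAV : A ≤ normalizer (V : Set G)) (hcop : (Nat.card A).Coprime (Nat.card V)) :
    (V ⊓ centralizer (A : Set G)) ⊓ ⁅V, A⁆ = ⊥ := by
  classical
  let _ : CommGroup V := { (inferInstance : Group V) with mul_comm := hV.1.1 }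
  have := Fintype.ofFinite A
  let φ : A →* MulAut V := V.normalizerMonoidHom.comp (inclusion hAV)
  have hφ : ∀ (a : A) (v : V), ((φ a v : V) : G) = a * v * a⁻¹ := fun _ _ => rfl
  let T : V →* V := ∏ a : A, (φ a).toMonoidHom
  have hT : ∀ v, T v = ∏ a : A, φ a v := fun v => by simp [T, MonoidHom.finsetProd_apply]
  have h1 : ⁅V, A⁆ ≤ T.ker.map V.subtype := by
    rw [commutator_le]
    intro v hv a ha
    refine ⟨⟨v, hv⟩ * (φ ⟨a, ha⟩ ⟨v, hv⟩)⁻¹, ?_, ?_⟩
    · rw [SetLike.mem_coe, MonoidHom.mem_ker, map_mul, map_inv, mul_inv_eq_one, hT, hT]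
      refine Fintype.prod_equiv (Equiv.mulRight (⟨a, ha⟩ : A)⁻¹) _ _ fun b => ?_
      simp only [Equiv.coe_mulRight]
      rw [← MulAut.mul_apply, ← map_mul, inv_mul_cancel_right]
    · simp [hφ, commutatorElement_def, mul_assoc]
  rw [eq_bot_iff]
  rintro c ⟨⟨hcV, hc⟩, hc2⟩
  obtain ⟨c, hc3, rfl⟩ := h1 hc2
  rw [SetLike.mem_coe, MonoidHom.mem_ker, hT] at hc3
  have h2 : ∀ a : A, φ a c = c := fun a => Subtype.ext (by
    rw [hφ, show (a : G) * c = c * a from mem_centralizer_iff.1 hc a a.2]; simp)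
  simp only [h2, Finset.prod_const, Finset.card_univ, ← Nat.card_eq_fintype_card] at hc3
  have := pow_gcd_eq_one.2 ⟨hc3, pow_card_eq_one'⟩
  rw [hcop, pow_one] at this
  rw [this]; exact one_mem _

/-- a coprime action on an abelian group fixing the elements of prime order is trivial. -/
theorem coprime_abelian_le_centralizer {A V : Subgroup G} (hV : IsMulCommutative V)
    (hAV : A ≤ normalizer (V : Set G)) (hcop : (Nat.card A).Coprime (Nat.card V))
    (hΩ : ∀ v ∈ V, (orderOf v).Prime → ∀ a ∈ A, a * v = v * a) :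
    A ≤ centralizer (V : Set G) := by
  rw [← commutator_eq_bot_iff_le_centralizer, commutator_comm]
  by_contra hne
  obtain ⟨p, hp, hd⟩ := exists_prime_dvd_card hne
  have := Fact.mk hp
  obtain ⟨x, hx⟩ := exists_prime_orderOf_dvd_card' p hd
  have hxV : (x : G) ∈ V := commutator_le_left_of_le_normalizer hAV x.2
  have hx' : orderOf (x : G) = p := by rw [orderOf_coe, hx]
  have : (x : G) ∈ (V ⊓ centralizer (A : Set G)) ⊓ ⁅V, A⁆ :=
    mem_inf.2 ⟨mem_inf.2 ⟨hxV, mem_centralizer_iff.2 (hΩ x hxV (hx' ▸ hp))⟩, x.2⟩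
  rw [coprime_abelian_inf_eq_bot hV hAV hcop, mem_bot] at this
  rw [this, orderOf_one] at hx'
  exact hp.one_lt.ne hx'

omit [Finite G] in
theorem zpowers_le_centralizer_iff {a : G} {K : Subgroup G} :
    zpowers a ≤ centralizer (K : Set G) ↔ a ∈ centralizer (K : Set G) := zpowers_le

omit [Finite G] in
theorem isSolvable_zpowers (a : G) : Group.IsSolvable (zpowers a) :=
  isSolvable_of_isMulCommutative inferInstance

/-- trivial action on the Frattini quotient, coprime on the Frattini subgroup. -/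
theorem coprime_frattini_le_centralizer {A K : Subgroup G}
    (hcop : (Nat.card A).Coprime (Nat.card (frattini K)))
    (h : ⁅K, A⁆ ≤ (frattini K).map K.subtype) (hAK : A ≤ normalizer (K : Set G)) :
    A ≤ centralizer (K : Set G) := by
  have hn := normalizer_le_normalizer_map_of_characteristic K (frattini K)
  have h1 := coprime_sup_centralizer_of_commutator_le (map_subtype_le (frattini K))
    (le_normalizer.trans hn) (hAK.trans hn) (by rwa [card_subtype])
    (Or.inr (isSolvable_map _ (have := frattini_nilpotent (G := K); inferInstance))) h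
  have h2 : (K ⊓ centralizer (A : Set G)).subgroupOf K = ⊤ := by
    apply frattini_nongenerating
    apply map_injective K.subtype_injective
    rw [Subgroup.map_sup, subgroupOf_map_subtype_of_le inf_le_left, sup_comm, h1,
      ← MonoidHom.range_eq_map, range_subtype]
  rw [subgroupOf_eq_top] at h2
  exact le_centralizer_iff.1 (h2.trans inf_le_right)

/-- if `A` acts coprimely on the nilpotent group `U` and centralises `C ≤ U` with
`C_U(C) ≤ C`-type condition ... general lemma: `A` centralises `C` and `[N_U(C), A] ≤ C`. -/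
theorem coprime_le_centralizer_of_nilpotent {A U : Subgroup G} (hU : Group.IsNilpotent U)
    (hcop : (Nat.card A).Coprime (Nat.card U))
    (h : ⁅normalizer ((U ⊓ centralizer (A : Set G) : Subgroup G) : Set G) ⊓ U, A⁆ ≤
      U ⊓ centralizer (A : Set G)) : A ≤ centralizer (U : Set G) := by
  rw [le_centralizer_iff]
  by_contra hne
  have hlt : U ⊓ centralizer (A : Set G) < U :=
    lt_of_le_of_ne inf_le_left fun h => hne (h ▸ inf_le_right)
  have h1 := lt_normalizer_inf_of_nilpotent hU hlt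
  have h2 := coprime_le_centralizer_of_commutator_le
    (hcop.coprime_dvd_right (card_dvd_of_le inf_le_left)) h (le_centralizer_iff.1 inf_le_right)
  exact h1.not_ge (le_inf inf_le_right (le_centralizer_iff.1 h2))

/-- If `A` acts coprimely on the nilpotent group `U` and `C = C_U(A)` contains `C_U(C)`, then the
action is trivial. -/
theorem coprime_le_centralizer_of_self_centralizing {A U : Subgroup G} (hU : Group.IsNilpotent U)
    (hAU : A ≤ normalizer (U : Set G)) (hcop : (Nat.card A).Coprime (Nat.card U))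
    (h : U ⊓ centralizer ((U ⊓ centralizer (A : Set G) : Subgroup G) : Set G) ≤
      centralizer (A : Set G)) : A ≤ centralizer (U : Set G) := by
  apply coprime_le_centralizer_of_nilpotent hU hcop
  set C := U ⊓ centralizer (A : Set G) with hC
  have hCA : A ≤ centralizer (C : Set G) := le_centralizer_iff.1 inf_le_right
  have h1 : ⁅normalizer (C : Set G) ⊓ U, A⁆ ≤ U :=
    (commutator_mono inf_le_right le_rfl).trans (commutator_le_left_of_le_normalizer hAU)
  have h2 : ⁅normalizer (C : Set G) ⊓ U, A⁆ ≤ centralizer (C : Set G) := by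
    rw [← commutator_eq_bot_iff_le_centralizer]
    apply commutator_commutator_eq_bot_of_rotate
    · rw [commutator_eq_bot_iff_le_centralizer.2 hCA, commutator_bot_left]
    · rw [eq_bot_iff, ← commutator_eq_bot_iff_le_centralizer.2 (le_centralizer_iff.1 hCA)]
      exact commutator_mono (commutator_le_left_of_le_normalizer inf_le_left) le_rfl
  exact le_inf h1 ((le_inf h1 h2).trans h)

omit [Finite G] in
theorem eq_bot_of_le_commutator_of_nilpotent {L U P : Subgroup G} (hL : Group.IsNilpotent L)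
    (hU : U ≤ L) (hP : P ≤ L) (h : U ≤ ⁅U, P⁆) : U = ⊥ := by
  obtain ⟨n, hn⟩ := (isNilpotent_iff_lowerCentralSeries L).1 hL
  have : ∀ n, U ≤ L.lowerCentralSeries n := by
    intro n
    induction n with
    | zero => exact hU
    | succ n ih => exact h.trans (commutator_mono ih hP)
  exact eq_bot_iff.2 (hn ▸ this n)

omit [Finite G] in
theorem commutator_lt_of_nilpotent {L U P : Subgroup G} (hL : Group.IsNilpotent L)
    (hU : U ≤ L) (hP : P ≤ L) (hPU : P ≤ normalizer (U : Set G)) (h : U ≠ ⊥) : ⁅U, P⁆ < U :=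
  lt_of_le_of_ne (commutator_le_left_of_le_normalizer hPU)
    fun h1 => h (eq_bot_of_le_commutator_of_nilpotent hL hU hP h1.ge)

/-- Thompson's `P × Q` lemma, nilpotent version. -/
theorem thompson_pxq_nilpotent {P Q U : Subgroup G} (hPU' : Group.IsNilpotent (P ⊔ U : Subgroup G))
    (hQ : (Nat.card Q).Coprime (Nat.card U)) (hPQ : P ≤ centralizer (Q : Set G))
    (hPU : P ≤ normalizer (U : Set G)) (hQU : Q ≤ normalizer (U : Set G))
    (hC : U ⊓ centralizer (P : Set G) ≤ centralizer (Q : Set G)) : Q ≤ centralizer (U : Set G) := by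
  induction U using (wellFounded_lt (α := Subgroup G)).induction with
  | _ U ih =>
  by_cases hb : U = ⊥
  · subst hb
    exact le_centralizer_iff.1 bot_le
  have hlt := commutator_lt_of_nilpotent hPU' le_sup_right le_sup_left hPU hb
  have hQP : Q ≤ normalizer (P : Set G) :=
    (le_centralizer_iff.1 hPQ).trans (centralizer_le_normalizer _)
  have h1 := ih _ hlt (isNilpotent_of_le (sup_le_sup_left hlt.le P) hPU')
    (hQ.coprime_dvd_right (card_dvd_of_le hlt.le)) (normalizer_commutator_ge_right U P)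
    (le_normalizer_commutator hQU hQP) ((inf_le_inf_right _ hlt.le).trans hC)
  apply coprime_le_centralizer_of_quadratic hQU hQ
  rw [commutator_eq_bot_iff_le_centralizer]
  refine (le_inf (commutator_le_left_of_le_normalizer hQU) ?_).trans hC
  rw [← commutator_eq_bot_iff_le_centralizer, commutator_comm U Q]
  apply commutator_commutator_eq_bot_of_rotate
  · exact commutator_eq_bot_iff_le_centralizer.2 (le_centralizer_iff.1 h1)
  · rw [commutator_eq_bot_iff_le_centralizer.2 hPQ, commutator_bot_left]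

/-- Thompson's `P × Q` lemma. -/
theorem thompson_pxq {p : ℕ} [Fact p.Prime] {P Q U : Subgroup G} (hP : IsPGroup p P)
    (hQ : (Nat.card Q).Coprime p) (hU : IsPGroup p U) (hPQ : P ≤ centralizer (Q : Set G))
    (hPU : P ≤ normalizer (U : Set G)) (hQU : Q ≤ normalizer (U : Set G))
    (hC : U ⊓ centralizer (P : Set G) ≤ centralizer (Q : Set G)) : Q ≤ centralizer (U : Set G) :=
  thompson_pxq_nilpotent (isPGroup_sup hP hU hPU).isNilpotent (coprime_card_of_isPGroup' hU hQ)
    hPQ hPU hQU hC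

/-- Glauberman's lemma, existence of a fixed point. -/
theorem glauberman_fixed_point {X : Type*} [MulAction G X] {A K : Subgroup G}
    (hAK : A ≤ normalizer (K : Set G))
    (hcop : (Nat.card A).Coprime (Nat.card K)) (hs : Group.IsSolvable A ∨ Group.IsSolvable K)
    (x : X) (h : ∀ a ∈ A, ∃ k ∈ K, k • x = a • x) : ∃ k ∈ K, ∀ a ∈ A, a • k • x = k • x := by
  obtain ⟨k, hk, h1⟩ := glauberman_exists (S := MulAction.stabilizer G x) hAK hcop hs (fun a ha => by
    obtain ⟨k, hk, h⟩ := h a ha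
    exact ⟨k, hk, by rw [MulAction.mem_stabilizer_iff, mul_smul, ← h, inv_smul_smul]⟩)
  refine ⟨k, hk, fun a ha => ?_⟩
  have := mem_conj_smul.1 (h1 ha)
  rw [MulAction.mem_stabilizer_iff, mul_smul, mul_smul, inv_smul_eq_iff] at this
  exact this

/-- Glauberman's lemma, conjugacy of fixed points. -/
theorem glauberman_fixed_point_conj {X : Type*} [MulAction G X] {A K : Subgroup G}
    (hAK : A ≤ normalizer (K : Set G))
    (hcop : (Nat.card A).Coprime (Nat.card K)) (hs : Group.IsSolvable A ∨ Group.IsSolvable K)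
    {x : X} (hx : ∀ a ∈ A, a • x = x) {k : G} (hk : k ∈ K) (hy : ∀ a ∈ A, a • k • x = k • x) :
    ∃ c ∈ K ⊓ centralizer (A : Set G), c • x = k • x := by
  obtain ⟨c, hc, h⟩ := glauberman_conj (S := MulAction.stabilizer G x) hAK hcop hs hx hk
    (fun a ha => by
      rw [mem_conj_smul, MulAction.mem_stabilizer_iff, mul_smul, mul_smul, hy a ha, inv_smul_smul])
  refine ⟨c, hc, ?_⟩
  have := (mem_inf.1 h).2
  rwa [MulAction.mem_stabilizer_iff, mul_smul, inv_smul_eq_iff] at this

end Cfsg.Agent.Solv
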