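import Cfsg.Agent.Lib.Solv.Frattini

/-! Partitions, generation by centralisers, fixed-point-free actions. -/

set_option autoImplicit false
open Pointwise Subgroup

namespace Cfsg.Agent.Solv

section Abstract

variable {E : Type*} [Group E]

open Classical in
theorem prod_partition [Fintype E] {M : Type*} [CommMonoid M] {ι : Type*} (s : Finset ι)
    (B : ι → Subgroup E) (hpart : ∀ a : E, a ≠ 1 → ∃! i, i ∈ s ∧ a ∈ B i) (f : E → M) :
    (∏ i ∈ s, ∏ b with b ∈ B i, f b) * f 1 = f 1 ^ s.card * ∏ b, f b := by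
  have h1 : (∏ i ∈ s, ∏ b with b ∈ B i, f b) = ∏ b, f b ^ (s.filter fun i => b ∈ B i).card := by
    simp_rw [Finset.prod_filter]
    rw [Finset.prod_comm]
    refine Finset.prod_congr rfl fun b _ => ?_
    rw [← Finset.prod_filter, Finset.prod_const]
  rw [h1, ← Finset.mul_prod_erase _ _ (Finset.mem_univ (1 : E)),
    ← Finset.mul_prod_erase _ f (Finset.mem_univ (1 : E))]
  have h2 : ∀ b ∈ Finset.univ.erase (1 : E), f b ^ (s.filter fun i => b ∈ B i).card = f b := by
    intro b hb
    obtain ⟨i, hi, hu⟩ := hpart b (Finset.mem_erase.1 hb).1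
    rw [Finset.card_eq_one.2 ⟨i, ?_⟩, pow_one]
    ext j
    simp only [Finset.mem_filter, Finset.mem_singleton]
    exact ⟨hu j, fun h => h ▸ hi⟩
  rw [Finset.prod_congr rfl h2, Finset.filter_true_of_mem fun i _ => one_mem _]
  ac_rfl

theorem sum_card_partition [Finite E] {ι : Type*} (s : Finset ι)
    (B : ι → Subgroup E) (hpart : ∀ a : E, a ≠ 1 → ∃! i, i ∈ s ∧ a ∈ B i) :
    (∑ i ∈ s, Nat.card (B i)) + 1 = s.card + Nat.card E := by
  classical
  have := Fintype.ofFinite E
  have h := prod_partition s B hpart (fun _ => Multiplicative.ofAdd (1 : ℕ))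
  apply_fun Multiplicative.toAdd at h
  simp only [Finset.prod_const, toAdd_mul, toAdd_prod, toAdd_pow, toAdd_ofAdd, smul_eq_mul, mul_one,
    Finset.card_univ] at h
  rw [Nat.card_eq_fintype_card, ← h]
  congr 1
  refine Finset.sum_congr rfl fun i _ => ?_
  rw [Nat.card_eq_fintype_card, Fintype.card_subtype]

open Classical in
theorem trace_fixed [Fintype E] {V : Type*} [CommGroup V] (φ : E →* MulAut V) (B : Subgroup E)
    (v : V) {c : E} (hc : c ∈ B) : φ c (∏ b with b ∈ B, φ b v) = ∏ b with b ∈ B, φ b v := by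
  rw [map_prod]
  refine Finset.prod_bij (fun b _ => c * b) (fun b hb => ?_) (fun _ _ _ _ h => mul_left_cancel h)
    (fun b hb => ⟨c⁻¹ * b, ?_, by simp⟩) fun b _ => by rw [map_mul, MulAut.mul_apply]
  · simp only [Finset.mem_filter, Finset.mem_univ, true_and] at hb ⊢
    exact mul_mem hc hb
  · simp only [Finset.mem_filter, Finset.mem_univ, true_and] at hb ⊢
    exact mul_mem (inv_mem hc) hb

/-- the partition lemma for actions on abelian groups. -/
theorem pow_mem_of_partition [Finite E] {V : Type*} [CommGroup V] (φ : E →* MulAut V)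
    {ι : Type*} {s : Finset ι} (hs : s.Nonempty) (B : ι → Subgroup E)
    (hpart : ∀ a : E, a ≠ 1 → ∃! i, i ∈ s ∧ a ∈ B i) {L : Subgroup V}
    (hL : ∀ i ∈ s, ∀ v, (∀ b ∈ B i, φ b v = v) → v ∈ L) (v : V) : v ^ (s.card - 1) ∈ L := by
  classical
  have := Fintype.ofFinite E
  have h := prod_partition s B hpart (fun e => φ e v)
  simp only [map_one, MulAut.one_apply] at h
  obtain ⟨i, hi⟩ := hs
  have h1 : (∏ i ∈ s, ∏ b with b ∈ B i, φ b v) ∈ L :=
    prod_mem fun j hj => hL j hj _ fun b hb => trace_fixed φ _ v hb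
  have h2 : (∏ b, φ b v) ∈ L := by
    refine hL i hi _ fun b _ => ?_
    have := trace_fixed φ ⊤ v (mem_top b)
    simpa using this
  have h3 : s.card = s.card - 1 + 1 := (Nat.sub_add_cancel (Finset.card_pos.2 ⟨i, hi⟩)).symm
  rw [h3, pow_succ, mul_right_comm, mul_left_inj] at h
  rw [eq_mul_inv_of_mul_eq h.symm]
  exact mul_mem h1 (inv_mem h2)

theorem mem_of_pow_mem_of_coprime {V : Type*} [Group V] {L : Subgroup V} {v : V} {n : ℕ}
    (h : v ^ n ∈ L) (hcop : n.Coprime (Nat.card V)) : v ∈ L := by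
  obtain ⟨m, hm⟩ := exists_pow_eq_self_of_coprime (hcop.coprime_dvd_right (orderOf_dvd_natCard v))
  rw [← hm]; exact pow_mem h m

theorem card_ker_pow_le {A : Type*} [CommGroup A] [Finite A]
    (h : ∀ p : ℕ, p.Prime → Nat.card (powMonoidHom p : A →* A).ker ≤ p) (n : ℕ) (hn : 0 < n) :
    Nat.card (powMonoidHom n : A →* A).ker ≤ n := by
  induction n using Nat.recOnMul with
  | zero => exact absurd hn (lt_irrefl 0)
  | one => simp
  | prime p hp => exact h p hp
  | mul a b iha ihb =>
    have ha : 0 < a := Nat.pos_of_mul_pos_right hn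
    have hb : 0 < b := Nat.pos_of_mul_pos_left hn
    set K := (powMonoidHom (a * b) : A →* A).ker
    let f : K →* A := (powMonoidHom a : A →* A).comp K.subtype
    have h1 : f.range ≤ (powMonoidHom b : A →* A).ker := by
      rintro _ ⟨x, rfl⟩
      have := x.2
      rw [MonoidHom.mem_ker] at this ⊢
      simpa [f, pow_mul] using this
    have h2 : Nat.card f.ker ≤ a := by
      refine le_trans ?_ (iha ha)
      refine Nat.card_le_card_of_injective (fun x => ⟨x.1.1, x.2⟩) fun x y hxy => ?_
      exact Subtype.ext (Subtype.ext (Subtype.mk.inj hxy))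
    rw [← f.ker.card_mul_index, index_ker]
    exact Nat.mul_le_mul h2 ((card_le_of_le h1).trans (ihb hb))

theorem exists_elementary_sq_of_not_isCyclic {A : Type*} [Group A] [Finite A]
    (hA : IsMulCommutative A) (hnc : ¬ IsCyclic A) :
    ∃ p : ℕ, p.Prime ∧ ∃ E : Subgroup A, Nat.card E = p ^ 2 ∧ ∀ x ∈ E, x ^ p = 1 := by
  classical
  let _ : CommGroup A := { (inferInstance : Group A) with mul_comm := hA.1.1 }
  have := Fintype.ofFinite A
  by_contra hcon
  apply hnc
  refine isCyclic_of_card_pow_eq_one_le fun n hn => le_trans (le_of_eq ?_) (card_ker_pow_le (A := A) ?_ n hn)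
  · rw [Nat.card_eq_fintype_card, Fintype.card_subtype]
    simp [MonoidHom.mem_ker]
  · intro p hp
    have := Fact.mk hp
    by_contra hlt
    set K := (powMonoidHom p : A →* A).ker
    have hK : IsPGroup p K := isPGroup_of_pow_eq_one fun x hx => hx
    obtain ⟨k, hk⟩ := IsPGroup.iff_card.1 hK
    have h2 : 2 ≤ k := by
      by_contra h
      apply hlt
      rw [hk]
      calc p ^ k ≤ p ^ 1 := Nat.pow_le_pow_right hp.pos (by omega)
        _ = p := pow_one p
    obtain ⟨E, hE⟩ := Sylow.exists_subgroup_card_pow_prime (G := K) p (n := 2)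
      (hk ▸ pow_dvd_pow p h2)
    refine hcon ⟨p, hp, E.map K.subtype, by rw [card_map_of_injective K.subtype_injective, hE], ?_⟩
    rintro _ ⟨x, -, rfl⟩
    exact x.2

theorem eq_of_card_prime_of_mem {p : ℕ} (hp : p.Prime) {B : Subgroup E} (hB : Nat.card B = p)
    {a : E} (ha : a ∈ B) (h1 : a ≠ 1) : B = zpowers a := by
  have : Finite B := Nat.finite_of_card_ne_zero (hB ▸ hp.ne_zero)
  have hle : zpowers a ≤ B := zpowers_le.2 ha
  rcases (Nat.dvd_prime hp).1 (hB ▸ card_dvd_of_le hle) with h | h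
  · exact absurd (zpowers_eq_bot.1 (card_eq_one.1 h)) h1
  · exact (eq_of_le_of_card_ge hle (by rw [h, hB])).symm

/-- an elementary abelian group of order `p ^ 2` acting coprimely on an abelian group. -/
theorem eq_top_of_elementary_sq [Finite E] {V : Type*} [CommGroup V] (φ : E →* MulAut V)
    {p : ℕ} (hp : p.Prime) (hE : Nat.card E = p ^ 2) (hexp : ∀ x : E, x ^ p = 1)
    (hcop : p.Coprime (Nat.card V)) {L : Subgroup V}
    (hL : ∀ a : E, a ≠ 1 → ∀ v, φ a v = v → v ∈ L) : L = ⊤ := by
  classical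
  have := Fact.mk hp
  have := Fintype.ofFinite (Subgroup E)
  let s : Finset (Subgroup E) := Finset.univ.filter fun B => Nat.card B = p
  have hpart : ∀ a : E, a ≠ 1 → ∃! B, B ∈ s ∧ a ∈ id B := fun a ha =>
    ⟨zpowers a, ⟨by simpa [s] using orderOf_eq_prime (hexp a) ha, mem_zpowers a⟩,
      fun B hB => eq_of_card_prime_of_mem hp (by simpa [s] using hB.1) hB.2 ha⟩
  have h1 := sum_card_partition s id hpart
  rw [Finset.sum_congr rfl (g := fun _ => p) (fun B hB => by simpa [s] using hB), hE] at h1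
  simp only [Finset.sum_const, smul_eq_mul] at h1
  have h2 : s.card = p + 1 := by
    obtain ⟨q, rfl⟩ : ∃ q, p = q + 1 := ⟨p - 1, by have := hp.pos; omega⟩
    have hq : 0 < q := by have := hp.two_le; omega
    apply Nat.eq_of_mul_eq_mul_right hq
    nlinarith
  rw [eq_top_iff]
  intro v _
  have h3 := pow_mem_of_partition φ (Finset.card_pos.1 (by omega)) id hpart (L := L) (fun B hB w hw => by
    have hB' : Nat.card B = p := by simpa [s] using hB
    obtain ⟨a, ha, ha1⟩ := exists_ne_one_of_ne_bot (H := B)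
      (fun h => by rw [h, card_bot] at hB'; exact hp.one_lt.ne hB')
    exact hL a ha1 w (hw a ha)) v
  rw [h2, Nat.add_sub_cancel] at h3
  exact mem_of_pow_mem_of_coprime h3 hcop

theorem eq_top_of_not_isCyclic [Finite E] (hE : IsMulCommutative E) (hnc : ¬ IsCyclic E)
    {V : Type*} [CommGroup V] (φ : E →* MulAut V) (hcop : (Nat.card E).Coprime (Nat.card V))
    {L : Subgroup V} (hL : ∀ a : E, a ≠ 1 → ∀ v, φ a v = v → v ∈ L) : L = ⊤ := by
  obtain ⟨p, hp, F, hF, hexp⟩ := exists_elementary_sq_of_not_isCyclic hE hnc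
  refine eq_top_of_elementary_sq (φ.comp F.subtype) hp hF (fun x => Subtype.ext (hexp x x.2))
    (hcop.coprime_dvd_left ((dvd_pow_self p two_ne_zero).trans (hF ▸ F.card_subgroup_dvd_card)))
    fun a ha v hv => hL a (fun h => ha (Subtype.ext h)) v hv

end Abstract

variable {G : Type*} [Group G]

/-- conjugation action of the normaliser on the abelianisation. -/
def abConj (K : Subgroup G) : normalizer (K : Set G) →* MulAut (Abelianization K) where
  toFun g := (K.normalizerMonoidHom g).abelianizationCongr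
  map_one' := by ext x; induction x using QuotientGroup.induction_on; rw [map_one]; rfl
  map_mul' a b := by
    ext x; induction x using QuotientGroup.induction_on; rw [map_mul]; rfl

theorem abConj_of {K : Subgroup G} (g : normalizer (K : Set G)) (k : K) :
    abConj K g (Abelianization.of k) = Abelianization.of (K.normalizerMonoidHom g k) := rfl

theorem of_eq_of_iff {K : Subgroup G} {x y : K} :
    Abelianization.of x = Abelianization.of y ↔ (x : G) * (y : G)⁻¹ ∈ ⁅K, K⁆ := by
  rw [← mul_inv_eq_one, ← map_inv, ← map_mul, ← MonoidHom.mem_ker, Abelianization.ker_of,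
    ← map_subtype_commutator, ← mem_map_iff_mem K.subtype_injective]
  rfl

theorem le_of_map_of_eq_top [Finite G] {K L : Subgroup G} (hK : Group.IsNilpotent K)
    (h : (L.subgroupOf K).map Abelianization.of = ⊤) : K ≤ L := by
  have h1 : L ⊓ K = K := by
    refine eq_of_sup_map_frattini inf_le_right ?_
    intro k hk
    obtain ⟨l, hl, hlk⟩ := (h ▸ mem_top (Abelianization.of (⟨k, hk⟩ : K)) :
      Abelianization.of (⟨k, hk⟩ : K) ∈ (L.subgroupOf K).map Abelianization.of)
    have h2 := commutator_le_map_frattini hK (of_eq_of_iff.1 hlk.symm)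
    have : k = (k * (l : G)⁻¹) * l := by simp
    rw [this]
    exact mul_mem (mem_sup_right h2) (mem_sup_left (mem_inf.2 ⟨hl, l.2⟩))
  exact h1 ▸ inf_le_left

/-- fixed points on the abelianisation lift under coprime action. -/
theorem exists_of_abConj_fixed [Finite G] {K B : Subgroup G} (hB : B ≤ normalizer (K : Set G))
    (hcop : (Nat.card B).Coprime (Nat.card K)) (hs : Group.IsSolvable B ∨ Group.IsSolvable K)
    {v : Abelianization K} (hv : ∀ b (hb : b ∈ B), abConj K ⟨b, hB hb⟩ v = v) :
    ∃ k : K, (k : G) ∈ centralizer (B : Set G) ∧ Abelianization.of k = v := by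
  induction v using QuotientGroup.induction_on with | H k => ?_
  have hKK : ⁅K, K⁆ ≤ K := commutator_le_left_of_le_normalizer le_normalizer
  obtain ⟨n, hn, h⟩ := coprime_fixed_coset (A := B) (N := ⁅K, K⁆) (k := k)
    (le_normalizer_commutator hB hB) (hcop.coprime_dvd_right (card_dvd_of_le hKK))
    (hs.imp_right (isSolvable_of_le hKK))
    (le_normalizer_commutator le_normalizer le_normalizer k.2)
    (fun a ha => of_eq_of_iff.1 (hv a ha))
  refine ⟨⟨n, hKK hn⟩ * k, h, of_eq_of_iff.2 ?_⟩
  simpa using hn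

/-- generation by centralisers (relative form). -/
theorem le_of_centralizer_le [Finite G] {A D K L : Subgroup G} (hA : IsMulCommutative A)
    (hD : D ≤ centralizer (K : Set G)) (hnc : ∀ a ∈ A, ¬ A ≤ D ⊔ zpowers a)
    (hAK : A ≤ normalizer (K : Set G)) (hcop : (Nat.card A).Coprime (Nat.card K))
    (hL : ∀ a ∈ A, a ∉ D → K ⊓ centralizer {a} ≤ L) : K ≤ L := by
  refine le_of_forall_isSylowIn fun q hq _ => ?_
  have := Fact.mk hq
  obtain ⟨Q, hQ, hAQ⟩ := coprime_exists_sylowIn hAK hcop (.inl (isSolvable_of_isMulCommutative hA)) q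
  refine ⟨Q, hQ, le_of_map_of_eq_top hQ.isPGroup.isNilpotent ?_⟩
  have hcop' : (Nat.card A).Coprime (Nat.card Q) := hcop.coprime_dvd_right (card_dvd_of_le hQ.le)
  let _ : CommGroup A := { (inferInstance : Group A) with mul_comm := hA.1.1 }
  let φ : A ⧸ D.subgroupOf A →* MulAut (Abelianization Q) :=
    QuotientGroup.lift _ ((abConj Q).comp (inclusion hAQ)) fun d hd => by
      ext x
      induction x using QuotientGroup.induction_on with | H k => ?_
      refine congrArg Abelianization.of (Subtype.ext ?_)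
      show (d : G) * k * (d : G)⁻¹ = k
      rw [← mem_centralizer_iff.1 (hD (mem_subgroupOf.1 hd)) k (hQ.le k.2)]; simp
  refine eq_top_of_not_isCyclic (E := A ⧸ D.subgroupOf A) ⟨⟨mul_comm⟩⟩ (fun hc => ?_) φ
    ((hcop'.coprime_dvd_left (D.subgroupOf A).card_quotient_dvd_card).coprime_dvd_right
      (commutator Q).card_quotient_dvd_card) fun a ha v hv => ?_
  · obtain ⟨a, ha⟩ := hc.exists_generator
    induction a using QuotientGroup.induction_on with | H a => ?_
    refine hnc a a.2 fun b hb => ?_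
    obtain ⟨n, hn⟩ := ha (QuotientGroup.mk ⟨b, hb⟩)
    simp only at hn
    rw [← QuotientGroup.mk_zpow, QuotientGroup.eq] at hn
    have : b = (a : G) ^ n * ((a ^ n)⁻¹ * ⟨b, hb⟩ : A) := by simp
    rw [this]
    exact mul_mem (mem_sup_right (zpow_mem (mem_zpowers _) n)) (mem_sup_left hn)
  · induction a using QuotientGroup.induction_on with | H a => ?_
    have hz : zpowers (a : G) ≤ A := zpowers_le.2 a.2
    obtain ⟨k, hk, rfl⟩ := exists_of_abConj_fixed (B := zpowers (a : G)) (hz.trans hAQ)
      (hcop'.coprime_dvd_left (card_dvd_of_le hz)) (.inl (isSolvable_zpowers _)) (v := v) (by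
        rintro _ ⟨n, rfl⟩
        have h1 : abConj Q ⟨a, hAQ a.2⟩ ∈ MulAction.stabilizer (MulAut (Abelianization Q)) v := hv
        have h2 := zpow_mem h1 n
        rw [← map_zpow] at h2
        exact h2)
    refine mem_map_of_mem _ (hL a a.2 (fun h => ha ((QuotientGroup.eq_one_iff _).2 h))
      (mem_inf.2 ⟨hQ.le k.2, ?_⟩))
    exact centralizer_le (Set.singleton_subset_iff.2 (mem_zpowers _)) hk

theorem isCyclic_iff_exists_le_zpowers {A : Subgroup G} :
    IsCyclic A ↔ ∃ a ∈ A, A ≤ zpowers a := by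
  rw [Subgroup.isCyclic_iff_exists_zpowers_eq_top]
  exact ⟨fun ⟨a, ha⟩ => ⟨a, ha ▸ mem_zpowers a, ha.ge⟩,
    fun ⟨a, ha, h⟩ => ⟨a, le_antisymm (zpowers_le.2 ha) h⟩⟩

/-- generation by centralisers. -/
theorem le_of_forall_centralizer_le [Finite G] {A K L : Subgroup G} (hA : IsMulCommutative A)
    (hnc : ¬ IsCyclic A) (hAK : A ≤ normalizer (K : Set G))
    (hcop : (Nat.card A).Coprime (Nat.card K))
    (hL : ∀ a ∈ A, a ≠ 1 → K ⊓ centralizer {a} ≤ L) : K ≤ L :=
  le_of_centralizer_le (D := ⊥) hA bot_le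
    (fun a ha h => hnc (isCyclic_iff_exists_le_zpowers.2 ⟨a, ha, by rwa [bot_sup_eq] at h⟩))
    hAK hcop fun a ha h => hL a ha (by simpa using h)

/-- generation by centralisers of cocyclic subgroups. -/
theorem le_of_forall_cocyclic [Finite G] {A K L : Subgroup G} (hA : IsMulCommutative A)
    (hAK : A ≤ normalizer (K : Set G)) (hcop : (Nat.card A).Coprime (Nat.card K))
    (hL : ∀ B ≤ A, ∀ a ∈ A, B ⊔ zpowers a = A → K ⊓ centralizer (B : Set G) ≤ L) : K ≤ L := by
  by_contra hne
  obtain ⟨D, -, ⟨hDA, hD⟩, hmax⟩ := exists_maximal_ge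
    (P := fun D : Subgroup G => D ≤ A ∧ ¬ K ⊓ centralizer (D : Set G) ≤ L) (N := ⊥)
    ⟨bot_le, fun h => hne fun k hk => h (mem_inf.2 ⟨hk, mem_centralizer_iff.2 fun x hx => by
      rw [mem_bot.1 hx]; simp⟩)⟩
  apply hD
  have hAD : A ≤ normalizer (D : Set G) := by
    refine le_trans ?_ (centralizer_le_normalizer _)
    exact fun a ha => mem_centralizer_iff.2 fun d hd => isMulCommutative_iff.1 hA d (hDA hd) a ha
  refine le_of_centralizer_le (D := D) hA (le_centralizer_iff.1 inf_le_right)
    (fun a ha h => hD (hL D hDA a ha (le_antisymm (sup_le hDA (zpowers_le.2 ha)) h)))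
    (le_normalizer_inf hAK (le_normalizer_centralizer hAD))
    (hcop.coprime_dvd_right (card_dvd_of_le inf_le_left)) fun a ha haD => ?_
  by_contra h
  have := hmax (D ⊔ zpowers a) ⟨sup_le hDA (zpowers_le.2 ha), fun h2 => h (le_trans ?_ h2)⟩ le_sup_left
  · exact haD (this ▸ mem_sup_right (mem_zpowers a))
  · refine le_inf (inf_le_left.trans inf_le_left) (le_centralizer_iff.1 (sup_le ?_ ?_))
    · exact le_centralizer_iff.1 (inf_le_left.trans inf_le_right)
    · rw [zpowers_le, mem_centralizer_iff]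
      intro x hx
      exact (mem_centralizer_iff.1 (mem_inf.1 hx).2 a rfl).symm

end Cfsg.Agent.Solv
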