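import Cfsg.Agent.Lib.Solv.Schmidt

/-! Core-free maximal subgroups, Gaschütz' theorems, miscellaneous lemmas. -/

set_option autoImplicit false
open Pointwise Subgroup commutatorElement

namespace Cfsg.Agent.Solv

universe u
variable {G : Type*} [Group G]

theorem eq_bot_of_normal_le_of_core {U N : Subgroup G} (hcore : U.normalCore = ⊥) [N.Normal]
    (h : N ≤ U) : N = ⊥ := le_bot_iff.1 (hcore ▸ normal_le_normalCore.2 h)

theorem sup_eq_top_of_core {U N : Subgroup G} (hU : IsCoatom U) (hcore : U.normalCore = ⊥) [N.Normal]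
    (hN : N ≠ ⊥) : N ⊔ U = ⊤ :=
  sup_comm U N ▸ sup_eq_top_of_not_le_coatom hU fun e => hN (eq_bot_of_normal_le_of_core hcore e)

theorem centralizer_inf_eq_bot_of_core {U N : Subgroup G} (hU : IsCoatom U) (hcore : U.normalCore = ⊥)
    [N.Normal] (hN : N ≠ ⊥) : centralizer (N : Set G) ⊓ U = ⊥ := by
  have : (centralizer (N : Set G) ⊓ U).Normal := normal_iff_top_le_normalizer.2
    (sup_eq_top_of_core hU hcore hN ▸ sup_le ((le_centralizer_iff.1 inf_le_left).trans
      (centralizer_le_normalizer _)) (le_normalizer_inf le_normalizer_of_normal' le_normalizer))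
  exact eq_bot_of_normal_le_of_core hcore inf_le_right

theorem eq_centralizer_of_core {U N K : Subgroup G} (hU : IsCoatom U) (hcore : U.normalCore = ⊥)
    [N.Normal] (hN : N ≠ ⊥) [K.Normal] (hK : K ≠ ⊥) (h : K ≤ centralizer (N : Set G)) :
    K = centralizer (N : Set G) := by
  have := dedekind h (le_normalizer_of_normal' : U ≤ _)
  rwa [sup_eq_top_of_core hU hcore hK, top_inf_eq, inf_comm, centralizer_inf_eq_bot_of_core hU hcore hN,
    sup_bot_eq, eq_comm] at this

theorem normalizer_eq_of_core {U D : Subgroup G} (hU : IsCoatom U) (hcore : U.normalCore = ⊥)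
    (hD : D ≤ U) (h0 : D ≠ ⊥) (hn : U ≤ normalizer (D : Set G)) : normalizer (D : Set G) = U := by
  rcases hn.eq_or_lt with e | e
  · exact e.symm
  · have := normalizer_eq_top_iff.1 (hU.2 _ e)
    exact absurd (eq_bot_of_normal_le_of_core hcore hD) h0

theorem nonempty_equiv_map_of_inf_ker {G' : Type*} [Group G'] (f : G →* G') {D : Subgroup G}
    (h : D ⊓ f.ker = ⊥) : Nonempty (D ≃* D.map f) :=
  ⟨MulEquiv.ofBijective (f.subgroupMap D) ⟨(injective_iff_map_eq_one _).2 fun x hx =>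
    Subtype.ext (mem_bot.1 (h ▸ mem_inf.2 ⟨x.2, congrArg Subtype.val hx⟩)), f.subgroupMap_surjective D⟩⟩

theorem nonempty_equiv_of_sup_eq {A B D : Subgroup G} [A.Normal] (h1 : B ⊓ A = ⊥) (h2 : D ⊓ A = ⊥)
    (h : B ⊔ A = D ⊔ A) : Nonempty (B ≃* D) := by
  obtain ⟨e1⟩ := nonempty_equiv_map_of_inf_ker (QuotientGroup.mk' A) (D := B) (by rwa [QuotientGroup.ker_mk'])
  obtain ⟨e2⟩ := nonempty_equiv_map_of_inf_ker (QuotientGroup.mk' A) (D := D) (by rwa [QuotientGroup.ker_mk'])
  have : B.map (QuotientGroup.mk' A) = D.map (QuotientGroup.mk' A) :=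
    le_antisymm ((map_mk_le_map_mk_iff A).2 (h ▸ le_sup_left)) ((map_mk_le_map_mk_iff A).2 (h ▸ le_sup_left))
  exact ⟨e1.trans ((MulEquiv.subgroupCongr this).trans e2.symm)⟩

theorem card_modEq_card_inf_centralizer [Finite G] {q : ℕ} [Fact q.Prime] {Q K : Subgroup G}
    (hQ : IsPGroup q Q) (hn : Q ≤ normalizer (K : Set G)) :
    Nat.card K ≡ Nat.card (K ⊓ centralizer (Q : Set G) : Subgroup G) [MOD q] := by
  let _ : MulAction Q K := MulAction.compHom K (K.normalizerMonoidHom.comp (inclusion hn))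
  have h := hQ.card_modEq_card_fixedPoints K
  have e : MulAction.fixedPoints Q K ≃ (K ⊓ centralizer (Q : Set G) : Subgroup G) :=
    ⟨fun x => ⟨x.1.1, x.1.2, mem_centralizer_iff.2 fun a ha =>
      mul_inv_eq_iff_eq_mul.1 (congrArg Subtype.val (x.2 ⟨a, ha⟩))⟩,
    fun x => ⟨⟨x.1, x.2.1⟩, fun a => Subtype.ext (mul_inv_eq_iff_eq_mul.2 (mem_centralizer_iff.1 x.2.2 a a.2))⟩,
    fun _ => rfl, fun _ => rfl⟩
  rwa [Nat.card_congr e] at h

theorem exists_le_sup_zpowers_of_isCyclic_quotient {K N : Subgroup G} [(N.subgroupOf K).Normal]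
    (h : IsCyclic (K ⧸ N.subgroupOf K)) : ∃ k ∈ K, K ≤ N ⊔ zpowers k := by
  obtain ⟨a, ha⟩ := h.exists_generator
  obtain ⟨a, rfl⟩ := QuotientGroup.mk_surjective a
  refine ⟨a, a.2, fun x hx => ?_⟩
  obtain ⟨n, hn⟩ := mem_zpowers_iff.1 (ha (⟨x, hx⟩ : K))
  have h1 : ((a : G) ^ n)⁻¹ * x ∈ N :=
    (QuotientGroup.eq (s := N.subgroupOf K)).1 ((QuotientGroup.mk_zpow _ a n).trans hn)
  simpa using mul_mem (mem_sup_right (zpow_mem_zpowers (a : G) n)) (mem_sup_left h1)

theorem fitting_not_le_frattini [Finite G] [Nontrivial G] [Group.IsSolvable G] :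
    ¬ fittingSubgroup G ≤ frattini G := fun h => by
  have h1 := fitting_quotient_of_le_frattini (le_refl (frattini G))
  rw [(map_mk_eq_bot_iff _).2 h] at h1
  have : Nontrivial (G ⧸ frattini G) := QuotientGroup.nontrivial_iff.2 frattini_ne_top
  exact fitting_ne_bot_of_solvable_normal (N := ⊤) inferInstance (top_ne_bot_iff.2 this) (by rw [h1, inf_bot_eq])

section Gaschutz
open scoped IsMulCommutative

variable {K : Subgroup G} [K.Normal]

theorem exists_crossed_of_complement {U A : Subgroup G} (hAK : A ⊓ K = ⊥) (hKA : K ⊔ A = U) :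
    ∃ κ : G → K, (∀ u ∈ U, (κ u : G)⁻¹ * u ∈ A) ∧
      (∀ u ∈ U, ∀ v ∈ U, κ (u * v) = κ u * MulAut.conjNormal ((κ u : G)⁻¹ * u) (κ v)) ∧
      ∀ (k : K) (a : G), a ∈ A → κ (k * a) = k := by
  classical
  have h1 : ∀ u : G, ∃ k : K, u ∈ U → (k : G)⁻¹ * u ∈ A := fun u => by
    by_cases hu : u ∈ U
    · obtain ⟨k, hk, a, ha, rfl⟩ := (mem_sup_of_le_normalizer' le_normalizer_of_normal').1 (hKA ▸ hu)
      exact ⟨⟨k, hk⟩, fun _ => by simpa using ha⟩
    · exact ⟨1, fun h => absurd h hu⟩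
  choose κ hκ using h1
  have h2 : ∀ (k : K) (a : G), a ∈ A → κ (k * a) = k := fun k a ha => by
    have h3 := hκ _ (hKA ▸ mul_mem (mem_sup_left k.2) (mem_sup_right ha))
    have h4 : (κ (k * a) : G)⁻¹ * k ∈ A ⊓ K := mem_inf.2
      ⟨by simpa [mul_assoc] using mul_mem h3 (inv_mem ha), mul_mem (inv_mem (κ _).2) k.2⟩
    rw [hAK, mem_bot, inv_mul_eq_one] at h4
    exact Subtype.ext h4
  refine ⟨κ, fun u hu => hκ u hu, fun u hu v hv => ?_, h2⟩
  rw [← h2 (κ u * MulAut.conjNormal ((κ u : G)⁻¹ * u) (κ v)) _ (mul_mem (hκ u hu) (hκ v hv))]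
  congr 1
  simp only [coe_mul, MulAut.conjNormal_apply]; group

theorem conjNormal_coe_mul [IsMulCommutative K] (k : K) (g : G) (x : K) :
    MulAut.conjNormal ((k : G) * g) x = MulAut.conjNormal g x := by
  rw [map_mul, MulAut.mul_apply, MulAut.conjNormal_val, MulAut.conj_apply, mul_inv_cancel_comm]

theorem gaschutz_exists [Finite G] [IsMulCommutative K] {U A : Subgroup G} (hKU : K ≤ U)
    (hcop : (Nat.card K).Coprime U.index) (hAK : A ⊓ K = ⊥) (hKA : K ⊔ A = U) :
    ∃ H : Subgroup G, IsComplement' K H := by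
  classical
  obtain ⟨κ, -, h1, h2⟩ := exists_crossed_of_complement hAK hKA
  simp only [← coe_inv, conjNormal_coe_mul] at h1
  have := Fintype.ofFinite (G ⧸ U)
  have hm : ∀ (g : G) (q : G ⧸ U), (g • q).out⁻¹ * g * q.out ∈ U := fun g q => by
    rw [mul_assoc, ← QuotientGroup.eq, QuotientGroup.out_eq', ← smul_eq_mul, MulAction.Quotient.coe_smul_out]
  let θ : G → K := fun g => ∏ q : G ⧸ U, MulAut.conjNormal (g • q).out (κ ((g • q).out⁻¹ * g * q.out))
  have h3 : ∀ g h, θ (g * h) = θ g * MulAut.conjNormal g (θ h) := fun g h => by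
    simp only [θ, map_prod]
    rw [← (MulAction.toPerm h).prod_comp Finset.univ (fun q : G ⧸ U => MulAut.conjNormal (g • q).out
      (κ ((g • q).out⁻¹ * g * q.out))) (by simp), ← Finset.prod_mul_distrib]
    refine Finset.prod_congr rfl fun q _ => ?_
    have := h1 _ (hm g (h • q)) _ (hm h q)
    rw [show (g • h • q).out⁻¹ * g * (h • q).out * ((h • q).out⁻¹ * h * q.out) =
      (g • h • q).out⁻¹ * (g * h) * q.out by group] at this
    rw [mul_smul, this, map_mul, MulAction.toPerm_apply, ← MulAut.mul_apply, ← MulAut.mul_apply,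
      ← map_mul, ← map_mul]
    congr 3; group
  have h4 : ∀ k : K, θ k = k ^ U.index := fun k => by
    rw [index, Nat.card_eq_fintype_card, ← Finset.card_univ, ← Finset.prod_const]
    refine Finset.prod_congr rfl fun q _ => ?_
    have h5 : (k : G) • q = q := by
      rw [← q.out_eq, MulAction.Quotient.smul_mk, QuotientGroup.eq]
      simpa [mul_assoc] using hKU (‹K.Normal›.conj_mem' _ (inv_mem k.2) q.out)
    have h6 := h2 ⟨_, ‹K.Normal›.conj_mem' _ k.2 q.out⟩ 1 (one_mem A)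
    rw [mul_one] at h6
    rw [h5, h6]
    exact Subtype.ext (by simp [mul_assoc])
  have h5 : θ 1 = 1 := by simpa using h4 1
  let H : Subgroup G :=
    { carrier := {g | θ g = 1}
      one_mem' := h5
      mul_mem' := fun {a b} (ha : θ a = 1) (hb : θ b = 1) => show θ (a * b) = 1 by
        rw [h3, ha, hb, map_one, mul_one]
      inv_mem' := fun {a} (ha : θ a = 1) => show θ a⁻¹ = 1 by
        have := h3 a⁻¹ a
        rwa [inv_mul_cancel, h5, ha, map_one, mul_one, eq_comm] at this }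
  have h6 := (powCoprime hcop).bijective
  refine ⟨H, isComplement'_of_inf_eq_bot_of_sup_eq_top (eq_bot_iff_forall _ |>.2 fun x hx => ?_)
    (eq_top_iff.2 fun g _ => ?_)⟩
  · have h7 : θ (⟨x, hx.1⟩ : K) = 1 := hx.2
    rw [h4] at h7
    exact congrArg Subtype.val (h6.1 (a₁ := ⟨x, hx.1⟩) (a₂ := 1) (by simpa using h7))
  · obtain ⟨k, hk⟩ := h6.2 (θ g)⁻¹
    have h7 : (k : G) * g ∈ H := show θ _ = 1 by
      rw [h3, h4, MulAut.conjNormal_val, MulAut.conj_apply, mul_inv_cancel_comm]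
      exact mul_eq_one_iff_eq_inv.2 hk
    simpa using mul_mem (mem_sup_left (inv_mem k.2)) (mem_sup_right h7)

theorem gaschutz_conj [Finite G] [IsMulCommutative K] {U H₀ H₁ : Subgroup G} (hKU : K ≤ U)
    (hcop : (Nat.card K).Coprime U.index) (h₀ : IsComplement' K H₀) (h₁ : IsComplement' K H₁)
    (hU : H₀ ⊓ U = H₁ ⊓ U) : ∃ g ∈ K, MulAut.conj g • H₀ = H₁ := by
  classical
  obtain ⟨κ, a1, a2, -⟩ := exists_crossed_of_complement (inf_comm K H₀ ▸ IsComplement'.inf_eq_bot h₀) h₀.sup_eq_top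
  obtain ⟨μ, b1, b2, b3⟩ := exists_crossed_of_complement (inf_comm K H₁ ▸ IsComplement'.inf_eq_bot h₁) h₁.sup_eq_top
  simp only [← coe_inv, conjNormal_coe_mul, mem_top, forall_const] at a2 b2
  have := Fintype.ofFinite (G ⧸ U)
  let δ : G → K := fun g => κ g * (μ g)⁻¹
  have h3 : ∀ g h, δ (g * h) = δ g * MulAut.conjNormal g (δ h) := fun g h => by
    simp only [δ, a2, b2, map_mul, map_inv, mul_inv, mul_mul_mul_comm]
  have h4 : ∀ u ∈ U, δ u = 1 := fun u hu => by
    have h5 : (κ u : G)⁻¹ * u ∈ H₁ ⊓ U := hU ▸ mem_inf.2 ⟨a1 u trivial, mul_mem (inv_mem (hKU (κ u).2)) hu⟩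
    have := b3 (κ u) _ h5.1
    rw [mul_inv_cancel_left] at this
    simp [δ, this]
  have h5 : ∀ g, ∏ q : G ⧸ U, δ q.out = δ g ^ U.index * MulAut.conjNormal g (∏ q : G ⧸ U, δ q.out) := fun g => by
    rw [index, Nat.card_eq_fintype_card, ← Finset.card_univ, ← Finset.prod_const, map_prod,
      ← Finset.prod_mul_distrib, ← (MulAction.toPerm g).prod_comp Finset.univ _ (by simp)]
    refine Finset.prod_congr rfl fun q _ => ?_
    have h6 : (g * q.out)⁻¹ * (g • q).out ∈ U := by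
      rw [← QuotientGroup.eq, QuotientGroup.out_eq', ← smul_eq_mul, MulAction.Quotient.coe_smul_out]
    rw [← h3, MulAction.toPerm_apply, ← mul_inv_cancel_left (g * q.out) (g • q).out, h3, h4 _ h6, map_one, mul_one]
  have h6 := (powCoprime hcop).bijective
  obtain ⟨d, hd⟩ := h6.2 (∏ q : G ⧸ U, δ q.out)
  refine ⟨d, d.2, (eq_of_le_of_card_le (fun g hg => ?_) ?_).symm⟩
  · have h7 : d = δ g * MulAut.conjNormal g d := h6.1 (by
      have := h5 g
      rw [← hd] at this
      simpa [mul_pow] using this)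
    have h8 := b3 1 g hg
    simp only [coe_one, one_mul] at h8
    simp only [δ, h8, inv_one, mul_one] at h7
    have h9 := congrArg Subtype.val h7
    simp only [coe_mul, MulAut.conjNormal_apply] at h9
    rw [mem_conj_smul]
    convert a1 g trivial using 1
    rw [show (κ g : G) = d * (g * d * g⁻¹)⁻¹ from eq_mul_inv_of_mul_eq h9.symm]
    have h10 := Solv.isMulCommutative_iff.1 ‹_› _ d.2 _ (inv_mem (‹K.Normal›.conj_mem _ d.2 g))
    rw [h10]; group
  · rw [card_conj_smul, IsComplement'.card_eq_index h₀, IsComplement'.card_eq_index h₁]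

end Gaschutz

end Cfsg.Agent.Solv
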