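import Cfsg.Agent.Lib.Solv.Cores

/-! The Frattini subgroup. -/

set_option autoImplicit false
open Pointwise Subgroup

namespace Cfsg.Agent.Solv

variable {G : Type*} [Group G]

theorem mem_frattini_iff {x : G} : x ∈ frattini G ↔ ∀ M : Subgroup G, IsCoatom M → x ∈ M := by
  simp [frattini, Order.radical, mem_iInf]

theorem le_frattini_iff {H : Subgroup G} :
    H ≤ frattini G ↔ ∀ M : Subgroup G, IsCoatom M → H ≤ M :=
  ⟨fun h _ hM => h.trans (frattini_le_coatom hM),
    fun h _ hx => mem_frattini_iff.2 fun M hM => h M hM hx⟩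

theorem eq_top_of_sup_le_frattini [Finite G] {K N : Subgroup G} (hN : N ≤ frattini G)
    (h : K ⊔ N = ⊤) : K = ⊤ :=
  frattini_nongenerating (eq_top_iff.2 (h ▸ sup_le_sup_left hN K))

/-- internal non-generation: if `L ≤ H` and `L ⊔ Φ(H) = H` then `L = H`. -/
theorem eq_of_sup_map_frattini [Finite G] {L H : Subgroup G} (hL : L ≤ H)
    (h : H ≤ L ⊔ (frattini H).map H.subtype) : L = H := by
  have h2 : L.subgroupOf H = ⊤ := by
    apply frattini_nongenerating
    apply map_injective H.subtype_injective
    rw [Subgroup.map_sup, subgroupOf_map_subtype_of_le hL, ← MonoidHom.range_eq_map, range_subtype]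
    exact le_antisymm (sup_le hL (map_subtype_le _)) h
  exact le_antisymm hL (subgroupOf_eq_top.1 h2)

theorem map_frattini_le_of_lt [Finite G] {L H : Subgroup G} (hL : L < H)
    (hmax : ∀ K, L < K → K ≤ H → K = H) : (frattini H).map H.subtype ≤ L := by
  by_contra hne
  have := hmax (L ⊔ (frattini H).map H.subtype) (left_lt_sup.2 hne)
    (sup_le hL.le (map_subtype_le _))
  exact hL.ne (eq_of_sup_map_frattini hL.le this.ge)

theorem sup_eq_top_of_not_le_coatom {M N : Subgroup G} (hM : IsCoatom M) (h : ¬ N ≤ M) :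
    M ⊔ N = ⊤ := hM.2 _ (left_lt_sup.2 h)

/-- `Φ(H) ≤ Φ(G)` whenever `Φ(H)` is normal in `G`; more generally for normal `N ≤ Φ(H)`. -/
theorem le_frattini_of_normal_le_map_frattini [Finite G] {N H : Subgroup G} [N.Normal]
    (h : N ≤ (frattini H).map H.subtype) : N ≤ frattini G := by
  rw [le_frattini_iff]
  intro M hM
  by_contra hne
  have hNH : N ≤ H := h.trans (map_subtype_le _)
  have h1 := dedekind (B := M) hNH le_normalizer_of_normal
  rw [sup_comm N M, sup_eq_top_of_not_le_coatom hM hne, top_inf_eq] at h1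
  have h2 : M ⊓ H = H := eq_of_sup_map_frattini inf_le_right (by
    conv_lhs => rw [h1]
    rw [sup_comm]
    exact sup_le_sup_left h _)
  exact hne (hNH.trans (inf_eq_right.1 h2))

theorem map_frattini_le_frattini [Finite G] (H : Subgroup G) [H.Normal] :
    (frattini H).map H.subtype ≤ frattini G := le_frattini_of_normal_le_map_frattini le_rfl

theorem map_frattini_le {G' : Type*} [Group G'] {f : G →* G'} (hf : Function.Surjective f) :
    (frattini G).map f ≤ frattini G' :=
  map_le_iff_le_comap.2 (frattini_le_comap_frattini_of_surjective hf)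

theorem isCoatom_map_mk {N M : Subgroup G} [N.Normal] (hM : IsCoatom M) (h : N ≤ M) :
    IsCoatom (M.map (QuotientGroup.mk' N)) := by
  have e : (M.map (QuotientGroup.mk' N)).comap (QuotientGroup.mk' N) = M := by
    rw [comap_map_mk, sup_of_le_left h]
  refine ⟨fun h1 => hM.1 (by rw [← e, h1, comap_top]), fun K hK => ?_⟩
  have h2 : M < K.comap (QuotientGroup.mk' N) :=
    lt_of_le_of_ne (map_le_iff_le_comap.1 hK.le) fun h3 => hK.ne (by rw [h3, map_comap_mk])
  rw [← map_comap_mk N K, hM.2 _ h2, map_top_of_surjective _ (QuotientGroup.mk'_surjective N)]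

theorem frattini_quotient_of_le {N : Subgroup G} [N.Normal] (h : N ≤ frattini G) :
    frattini (G ⧸ N) = (frattini G).map (QuotientGroup.mk' N) := by
  refine le_antisymm ?_ (map_frattini_le (QuotientGroup.mk'_surjective N))
  rw [← map_comap_mk N (frattini (G ⧸ N))]
  refine map_mono (le_frattini_iff.2 fun M hM => ?_)
  have hNM := h.trans (frattini_le_coatom hM)
  have := comap_mono (f := QuotientGroup.mk' N) (frattini_le_coatom (isCoatom_map_mk hM hNM))
  rwa [comap_map_mk, sup_of_le_left hNM] at this

theorem frattini_quotient_frattini : frattini (G ⧸ frattini G) = ⊥ := by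
  rw [frattini_quotient_of_le le_rfl, map_mk_eq_bot_iff]

/-- Gaschütz: `A ⊴ G`, `B ≤ Φ(G)` normal, `AB/B` nilpotent implies `A` nilpotent. -/
theorem isNilpotent_of_map_mk_of_le_frattini [Finite G] {A B : Subgroup G} [A.Normal] [B.Normal]
    (hB : B ≤ frattini G) (h : Group.IsNilpotent (A.map (QuotientGroup.mk' B))) :
    Group.IsNilpotent A := by
  refine isNilpotent_of_le (le_sup_left : A ≤ A ⊔ B) (isNilpotent_of_forall_sylowIn fun p hp _ => ?_)
  have := Fact.mk hp
  obtain ⟨P, hP⟩ := exists_isSylowIn p (A ⊔ B)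
  refine ⟨P, hP, le_top.trans (eq_top_of_sup_le_frattini hB ?_).ge⟩
  have h1 := hP.map (QuotientGroup.mk' B)
  rw [Subgroup.map_sup, (map_mk_eq_bot_iff B).2 le_rfl, sup_bot_eq] at h1
  have h2 := h1.normal_of_nilpotent h
  have h3 : (P ⊔ B).Normal := by rw [← comap_map_mk]; infer_instance
  have h4 := (hP.of_le le_sup_left (sup_le hP.le le_sup_right)).frattini_top
  rw [eq_top_iff, ← h4]
  exact sup_le (sup_le (le_normalizer.trans le_sup_left) le_sup_right) le_sup_left

theorem map_top_mk (N : Subgroup G) [N.Normal] : (⊤ : Subgroup G).map (QuotientGroup.mk' N) = ⊤ :=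
  map_top_of_surjective _ (QuotientGroup.mk'_surjective N)

theorem isNilpotent_of_quotient_le_frattini [Finite G] {B : Subgroup G} [B.Normal]
    (hB : B ≤ frattini G) (h : Group.IsNilpotent (G ⧸ B)) : Group.IsNilpotent G :=
  Group.isNilpotent_top.1 (isNilpotent_of_map_mk_of_le_frattini hB
    (by rw [map_top_mk]; infer_instance))

theorem fitting_quotient_of_le_frattini [Finite G] {B : Subgroup G} [B.Normal]
    (hB : B ≤ frattini G) :
    fittingSubgroup (G ⧸ B) = (fittingSubgroup G).map (QuotientGroup.mk' B) := by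
  refine le_antisymm ?_ (map_fitting_le (QuotientGroup.mk'_surjective B))
  rw [← map_comap_mk B (fittingSubgroup (G ⧸ B))]
  refine map_mono (le_fitting (isNilpotent_of_map_mk_of_le_frattini hB ?_))
  rw [map_comap_mk]; exact isNilpotent_fitting _

/-- the quotient `A / B` as the image of `A` in `G / B`. -/
noncomputable def quotientSubgroupOfEquivMap (A B : Subgroup G) [B.Normal] :
    A ⧸ B.subgroupOf A ≃* A.map (QuotientGroup.mk' B) :=
  (QuotientGroup.quotientMulEquivOfEq (by
    ext x
    rw [MonoidHom.mem_ker, mem_subgroupOf, ← QuotientGroup.eq_one_iff, Subtype.ext_iff]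
    rfl)).trans (QuotientGroup.quotientKerEquivOfSurjective _
      ((QuotientGroup.mk' B).subgroupMap_surjective A))

theorem dvd_index_frattini [Finite G] {p : ℕ} (hp : p.Prime) (h : p ∣ Nat.card G) :
    p ∣ (frattini G).index := by
  by_contra hne
  have := Fact.mk hp
  obtain ⟨P, hP⟩ := exists_isSylowIn p (frattini G)
  have hn := hP.normal_of_nilpotent frattini_nilpotent
  have hPi : ¬ p ∣ P.index := by
    rw [← relIndex_mul_index hP.le]
    exact fun h => ((Nat.Prime.dvd_mul hp).1 h).elim hP.not_dvd hne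
  obtain ⟨H, hH⟩ := exists_right_complement'_of_coprime (coprime_card_of_isPGroup hP.isPGroup hPi)
  have h1 : H = ⊤ := eq_top_of_sup_le_frattini hP.le (by rw [sup_comm, hH.sup_eq_top])
  rw [h1, isComplement'_top_right] at hH
  rw [hH, index_bot] at hPi
  exact hPi h

/-! ### maximal subgroups that are normal -/

theorem eq_bot_or_eq_top_of_coatom_normal {M : Subgroup G} [M.Normal] (hM : IsCoatom M)
    (K : Subgroup (G ⧸ M)) : K = ⊥ ∨ K = ⊤ := by
  rcases (le_comap_mk M K).lt_or_eq with h | h
  · right
    rw [← map_comap_mk M K, hM.2 _ h, map_top_mk]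
  · left
    rw [← map_comap_mk M K, ← h, map_mk_eq_bot_iff]

theorem index_prime_of_coatom_normal [Finite G] {M : Subgroup G} [M.Normal] (hM : IsCoatom M) :
    M.index.Prime := by
  obtain ⟨p, hp, hd⟩ := Nat.exists_prime_and_dvd (mt index_eq_one.1 hM.1)
  have := Fact.mk hp
  obtain ⟨x, hx⟩ := exists_prime_orderOf_dvd_card' (G := G ⧸ M) p hd
  rcases eq_bot_or_eq_top_of_coatom_normal hM (zpowers x) with h | h
  · rw [zpowers_eq_bot] at h
    rw [h, orderOf_one] at hx
    exact absurd hx hp.one_lt.ne
  · rw [index_eq_card, ← card_top, ← h, Nat.card_zpowers, hx]; exact hp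

theorem isCoatom_of_index_prime {M : Subgroup G} (h : M.index.Prime) : IsCoatom M := by
  refine ⟨fun h1 => h.one_lt.ne' (index_eq_one.2 h1), fun K hK => ?_⟩
  rcases (Nat.dvd_prime h).1 (index_dvd_of_le hK.le) with h1 | h1
  · exact index_eq_one.1 h1
  · have := relIndex_mul_index hK.le
    rw [h1] at this
    exact absurd (relIndex_eq_one.1 (Nat.eq_of_mul_eq_mul_right h.pos (this.trans (one_mul _).symm)))
      hK.not_ge

theorem commutator_le_of_index_prime {M : Subgroup G} [M.Normal] (hM : M.index.Prime) :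
    commutator G ≤ M := by
  have := Fact.mk hM
  have : IsCyclic (G ⧸ M) := isCyclic_of_prime_card (p := M.index) rfl
  exact Normal.quotient_commutative_iff_commutator_le.1 inferInstance

theorem coatom_normal_of_nilpotent [Group.IsNilpotent G] {M : Subgroup G} (hM : IsCoatom M) :
    M.Normal :=
  normalizer_eq_top_iff.1
    (hM.2 _ (Group.normalizerCondition_of_isNilpotent M (lt_top_iff_ne_top.2 hM.1)))

theorem commutator_le_frattini [Finite G] [Group.IsNilpotent G] : commutator G ≤ frattini G :=
  le_frattini_iff.2 fun _ hM =>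
    have := coatom_normal_of_nilpotent hM
    commutator_le_of_index_prime (index_prime_of_coatom_normal hM)

theorem isNilpotent_of_commutator_le_frattini [Finite G] (h : commutator G ≤ frattini G) :
    Group.IsNilpotent G := by
  refine isNilpotent_of_quotient_le_frattini le_rfl ?_
  have := Normal.quotient_commutative_iff_commutator_le.2 h
  let _ : CommGroup (G ⧸ frattini G) :=
    { (inferInstance : Group (G ⧸ frattini G)) with mul_comm := this.1.1 }
  infer_instance

variable {p : ℕ}

theorem index_eq_of_coatom_of_isPGroup [Finite G] [hp : Fact p.Prime] (hG : IsPGroup p G)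
    {M : Subgroup G} (hM : IsCoatom M) : M.index = p := by
  have := hG.isNilpotent
  have := coatom_normal_of_nilpotent hM
  have h1 := index_prime_of_coatom_normal hM
  obtain ⟨k, hk⟩ := IsPGroup.iff_card.1 hG
  exact (Nat.prime_dvd_prime_iff_eq h1 hp.out).1 (h1.dvd_of_dvd_pow (hk ▸ M.index_dvd_card))

theorem pow_mem_frattini [Finite G] [Fact p.Prime] (hG : IsPGroup p G) (x : G) :
    x ^ p ∈ frattini G :=
  mem_frattini_iff.2 fun M hM => by
    have := hG.isNilpotent
    have := coatom_normal_of_nilpotent hM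
    rw [← index_eq_of_coatom_of_isPGroup hG hM]
    exact pow_index_mem M x

theorem commutator_le_frattini_of_isPGroup [Finite G] [Fact p.Prime] (hG : IsPGroup p G) :
    commutator G ≤ frattini G :=
  have := hG.isNilpotent
  commutator_le_frattini

/-- an "elementary abelian modulo `N`" group: an element outside `N` lies outside a maximal
subgroup containing `N`. -/
theorem frattini_le_of_commutator_le_of_pow_mem [Finite G] [hp : Fact p.Prime] {N : Subgroup G}
    (hc : commutator G ≤ N) (hpow : ∀ x : G, x ^ p ∈ N) : frattini G ≤ N := by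
  intro x hx
  by_contra hxN
  obtain ⟨M, hNM, hxM, hmax⟩ := exists_maximal_ge (P := fun M : Subgroup G => x ∉ M) hxN
  have hMn : M.Normal := Normal.of_commutator_le G (hc.trans hNM)
  refine hxM (mem_frattini_iff.1 hx M ⟨fun h => hxM (h ▸ mem_top x), fun K hK => ?_⟩)
  -- every element outside `M` generates `x` modulo `M`, and conversely
  have key : ∀ y ∉ M, Nat.card (M ⊔ zpowers y : Subgroup G) = p * Nat.card M := by
    intro y hy
    rw [sup_comm, ← comap_map_mk, card_comap_mk, MonoidHom.map_zpowers, Nat.card_zpowers]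
    congr 1
    apply orderOf_eq_prime
    · rw [← map_pow]; exact (QuotientGroup.eq_one_iff _).2 (hNM (hpow y))
    · exact fun h => hy ((QuotientGroup.eq_one_iff _).1 h)
  have hxK : ∀ L, M < L → x ∈ L := fun L hL => by
    by_contra h
    exact hL.ne' (hmax L h hL.le)
  rw [eq_top_iff]
  intro y _
  by_cases hy : y ∈ M
  · exact hK.le hy
  have h1 : M ⊔ zpowers x ≤ M ⊔ zpowers y :=
    sup_le le_sup_left (zpowers_le.2 (hxK _ (left_lt_sup.2 fun h => hy (zpowers_le.1 h))))
  have h2 := eq_of_le_of_card_le h1 (by rw [key x hxM, key y hy])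
  exact (sup_le hK.le (zpowers_le.2 (hxK K hK)) : M ⊔ zpowers x ≤ K)
    (h2 ▸ mem_sup_right (mem_zpowers y))

theorem frattini_eq_bot_of_elementary [Finite G] [Fact p.Prime] (hc : IsMulCommutative G)
    (hpow : ∀ x : G, x ^ p = 1) : frattini G = ⊥ :=
  eq_bot_iff.2 (frattini_le_of_commutator_le_of_pow_mem (p := p) (commutator_eq_bot G).le
    fun x => by rw [hpow]; exact one_mem _)

/-- internal version: for a `p`-subgroup `P`, commutators and `p`-th powers lie in `Φ(P)`. -/
theorem commutator_le_map_frattini [Finite G] {P : Subgroup G} (hP : Group.IsNilpotent P) :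
    ⁅P, P⁆ ≤ (frattini P).map P.subtype := by
  rw [← map_subtype_commutator]; exact map_mono commutator_le_frattini

theorem pow_mem_map_frattini [Finite G] [Fact p.Prime] {P : Subgroup G} (hP : IsPGroup p P)
    {x : G} (hx : x ∈ P) : x ^ p ∈ (frattini P).map P.subtype :=
  ⟨⟨x, hx⟩ ^ p, pow_mem_frattini hP _, rfl⟩

theorem map_frattini_le_of_commutator_le_of_pow_mem [Finite G] [Fact p.Prime] {P N : Subgroup G}
    (hc : ⁅P, P⁆ ≤ N) (hpow : ∀ x ∈ P, x ^ p ∈ N) : (frattini P).map P.subtype ≤ N := by
  rw [map_le_iff_le_comap]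
  refine frattini_le_of_commutator_le_of_pow_mem (p := p) ?_ fun x => hpow x x.2
  rwa [← map_le_iff_le_comap, map_subtype_commutator]

/-- for `p`-groups the Frattini subgroup is monotone. -/
theorem map_frattini_mono [Finite G] [Fact p.Prime] {P Q : Subgroup G} (hQ : IsPGroup p Q)
    (h : P ≤ Q) : (frattini P).map P.subtype ≤ (frattini Q).map Q.subtype :=
  map_frattini_le_of_commutator_le_of_pow_mem (p := p)
    ((commutator_mono h h).trans (commutator_le_map_frattini hQ.isNilpotent))
    fun _ hx => pow_mem_map_frattini hQ (h hx)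

theorem map_frattini_lt [Finite G] {P : Subgroup G} (h : P ≠ ⊥) :
    (frattini P).map P.subtype < P :=
  lt_of_le_of_ne (map_subtype_le _) fun h1 =>
    h (eq_of_sup_map_frattini bot_le (by rw [bot_sup_eq, h1])).symm

theorem frattini_ne_top [Finite G] [Nontrivial G] : frattini G ≠ ⊤ := fun h =>
  bot_ne_top (frattini_nongenerating (K := (⊥ : Subgroup G)) (by rw [h, bot_sup_eq]))

/-- for `p`-groups, images of Frattini subgroups are Frattini subgroups. -/
theorem map_frattini_eq_of_isPGroup [Finite G] [Fact p.Prime] (hG : IsPGroup p G) {G' : Type*}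
    [Group G'] {f : G →* G'} (hf : Function.Surjective f) : (frattini G).map f = frattini G' := by
  have : Finite G' := Finite.of_surjective f hf
  refine le_antisymm (map_frattini_le hf) (frattini_le_of_commutator_le_of_pow_mem (p := p) ?_ ?_)
  · rw [_root_.commutator_def, ← map_top_of_surjective f hf, ← Subgroup.map_commutator]
    exact map_mono (commutator_le_frattini_of_isPGroup hG)
  · intro x
    obtain ⟨y, rfl⟩ := hf x
    exact ⟨y ^ p, pow_mem_frattini hG y, map_pow f y p⟩

/-! ### complements -/

theorem normal_inf_of_sup_eq_top {A H : Subgroup G} [A.Normal] (hA : IsMulCommutative A)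
    (h : H ⊔ A = ⊤) : (H ⊓ A).Normal := by
  rw [← normalizer_eq_top_iff, eq_top_iff, ← h]
  refine sup_le (le_normalizer_inf le_normalizer le_normalizer_of_normal) ?_
  exact (le_centralizer_iff.1 (inf_le_right.trans (le_centralizer_iff_isMulCommutative.2 hA))).trans
    (centralizer_le_normalizer _)

theorem inf_le_map_frattini_of_minimal [Finite G] {A H : Subgroup G} [A.Normal] (h : H ⊔ A = ⊤)
    (hmin : ∀ K : Subgroup G, K ⊔ A = ⊤ → K ≤ H → K = H) : H ⊓ A ≤ (frattini H).map H.subtype := by
  rw [← subgroupOf_map_subtype_of_le (inf_le_left : H ⊓ A ≤ H)]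
  refine map_mono (le_frattini_iff.2 fun M hM => ?_)
  by_contra hne
  have h1 := congrArg (Subgroup.map H.subtype) (sup_eq_top_of_not_le_coatom hM hne)
  rw [Subgroup.map_sup, subgroupOf_map_subtype_of_le inf_le_left, ← MonoidHom.range_eq_map,
    range_subtype] at h1
  have h2 := hmin (M.map H.subtype) (by
    rw [eq_top_iff, ← h]
    refine sup_le ?_ le_sup_right
    conv_lhs => rw [← h1]
    exact sup_le_sup_left inf_le_right _) (map_subtype_le M)
  apply hM.1
  apply map_injective H.subtype_injective
  rw [h2, ← MonoidHom.range_eq_map, range_subtype]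

/-- an abelian normal subgroup meeting `Φ(G)` trivially has a complement. -/
theorem exists_complement_of_inf_frattini_eq_bot [Finite G] (A : Subgroup G) [A.Normal]
    (hA : IsMulCommutative A) (h : A ⊓ frattini G = ⊥) : ∃ H : Subgroup G, IsComplement' A H := by
  obtain ⟨H, -, hH, hmin⟩ := exists_minimal_le (P := fun H : Subgroup G => H ⊔ A = ⊤) (N := ⊤)
    (top_sup_eq A)
  have := normal_inf_of_sup_eq_top hA hH
  have h1 := le_frattini_of_normal_le_map_frattini (inf_le_map_frattini_of_minimal hH hmin)
  refine ⟨H, isComplement'_of_inf_eq_bot_of_sup_eq_top ?_ (by rwa [sup_comm])⟩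
  rw [eq_bot_iff, ← h, inf_comm]
  exact le_inf inf_le_right h1

theorem isComplement'_of_minimal_normal_of_coatom {N M : Subgroup G} [N.Normal]
    (hN : IsMulCommutative N) (hmin : ∀ K : Subgroup G, K.Normal → K ≤ N → K = ⊥ ∨ K = N)
    (hM : IsCoatom M) (h : ¬ N ≤ M) : IsComplement' N M := by
  have h1 := sup_eq_top_of_not_le_coatom hM h
  refine isComplement'_of_inf_eq_bot_of_sup_eq_top ?_ (by rwa [sup_comm])
  rw [inf_comm]
  exact (hmin _ (normal_inf_of_sup_eq_top hN h1) inf_le_right).resolve_right
    fun h2 => h (inf_eq_right.1 h2)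

theorem isCoatom_of_isComplement'_minimal_normal {N M : Subgroup G} [N.Normal]
    (hN : IsMulCommutative N) (hb : N ≠ ⊥)
    (hmin : ∀ K : Subgroup G, K.Normal → K ≤ N → K = ⊥ ∨ K = N)
    (hM : IsComplement' N M) : IsCoatom M := by
  refine ⟨fun h => hb (isComplement'_top_right.1 (h ▸ hM)), fun K hK => ?_⟩
  have h1 : K ⊔ N = ⊤ := eq_top_iff.2 (by
    rw [← hM.sup_eq_top, sup_comm]; exact sup_le_sup_right hK.le N)
  have h2 := dedekind' (B := N) hK.le le_normalizer_of_normal
  rw [sup_comm M N, hM.sup_eq_top, top_inf_eq, inf_comm] at h2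
  rcases hmin _ (normal_inf_of_sup_eq_top hN h1) inf_le_right with h | h
  · rw [h, sup_bot_eq] at h2; exact absurd h2 hK.ne'
  · rwa [sup_of_le_left (inf_eq_right.1 h)] at h1

theorem isMulCommutative_fitting_of_frattini_eq_bot [Finite G] (h : frattini G = ⊥) :
    IsMulCommutative (fittingSubgroup G) := by
  rw [← commutator_self_eq_bot_iff, eq_bot_iff, ← h]
  exact (commutator_le_map_frattini (isNilpotent_fitting G)).trans (map_frattini_le_frattini _)

end Cfsg.Agent.Solv
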