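import Cfsg.Agent.Lib.Solv.Frob
import Cfsg.Agent.Lib.Transfer.Cyc2

/-! `p`-groups with a cyclic subgroup of index `p`; normal subgroups of `p`-groups. -/

set_option autoImplicit false
open Pointwise Subgroup

namespace Cfsg.Agent.Solv

variable {G : Type*} [Group G]

/-! ### class two formulas -/

theorem pow_mul_of_comm {x y c : G} (hy : Commute y c) (h : y * x = x * y * c) (n : ℕ) :
    y ^ n * x = x * y ^ n * c ^ n := by
  induction n with
  | zero => simp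
  | succ n ih =>
    calc y ^ (n + 1) * x = y * (y ^ n * x) := by rw [pow_succ']; group
      _ = (y * x) * y ^ n * c ^ n := by rw [ih]; group
      _ = x * y * (c * y ^ n) * c ^ n := by rw [h]; group
      _ = _ := by rw [← (hy.pow_left n).eq, pow_succ', pow_succ']; group

theorem mul_pow_of_comm {x y c : G} (hx : Commute x c) (hy : Commute y c) (h : y * x = x * y * c)
    (n : ℕ) : (x * y) ^ n = x ^ n * y ^ n * c ^ n.choose 2 := by
  induction n with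
  | zero => simp
  | succ n ih =>
    rw [pow_succ, ih, Nat.choose_succ_succ' n 1, Nat.choose_one_right]
    calc x ^ n * y ^ n * c ^ n.choose 2 * (x * y)
        = x ^ n * y ^ n * (c ^ n.choose 2 * (x * y)) := by group
      _ = x ^ n * (y ^ n * x) * y * c ^ n.choose 2 := by
        rw [← ((hx.mul_left hy).pow_right _).eq]; group
      _ = x ^ n * x * y ^ n * (c ^ n * y) * c ^ n.choose 2 := by rw [pow_mul_of_comm hy h]; group
      _ = _ := by rw [← (hy.pow_right n).eq, pow_succ, pow_succ, pow_add]; group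

theorem mul_pow_prime_of_comm {p : ℕ} (hp : p.Prime) (hp2 : p ≠ 2) {x y c : G} (hx : Commute x c)
    (hy : Commute y c) (h : y * x = x * y * c) (hc : c ^ p = 1) : (x * y) ^ p = x ^ p * y ^ p := by
  obtain ⟨k, hk⟩ := hp.dvd_choose_self (k := 2) two_ne_zero (lt_of_le_of_ne hp.two_le hp2.symm)
  rw [mul_pow_of_comm hx hy h, hk, pow_mul, hc, one_pow, mul_one]

theorem pow_conj_eq_zpow {a b : G} {r : ℤ} (h : b * a * b⁻¹ = a ^ r) (n : ℕ) :
    b ^ n * a * (b ^ n)⁻¹ = a ^ (r ^ n) := by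
  induction n with
  | zero => simp
  | succ n ih =>
    calc b ^ (n + 1) * a * (b ^ (n + 1))⁻¹ = b * (b ^ n * a * (b ^ n)⁻¹) * b⁻¹ := by
          rw [pow_succ']; group
      _ = _ := by rw [ih, ← conj_zpow, h, ← zpow_mul, pow_succ']

theorem pow_modEq_one_of_conj {a b : G} {r : ℤ} (h : b * a * b⁻¹ = a ^ r) {n : ℕ}
    (hb : Commute (b ^ n) a) : (orderOf a : ℤ) ∣ r ^ n - 1 := by
  have h1 := pow_conj_eq_zpow h n
  rw [hb.eq, mul_inv_cancel_right] at h1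
  rw [orderOf_dvd_iff_zpow_eq_one, zpow_sub, ← h1, zpow_one, mul_inv_cancel]

theorem commute_of_mem_zpowers {a x : G} (h : x ∈ zpowers a) : Commute x a := by
  obtain ⟨k, rfl⟩ := h
  exact (Commute.refl a).zpow_left k

theorem Commute.of_mem_zpowers {a b x y : G} (h : Commute a b) (hx : x ∈ zpowers a)
    (hy : y ∈ zpowers b) : Commute x y := by
  obtain ⟨k, rfl⟩ := hx
  obtain ⟨l, rfl⟩ := hy
  exact h.zpow_zpow k l

theorem prime_dvd_sub_one_of_dvd {p : ℕ} (hp : p.Prime) {r : ℤ} (h : (p : ℤ) ∣ r ^ p - 1) :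
    (p : ℤ) ∣ r - 1 := by
  have := Fact.mk hp
  rw [← ZMod.intCast_zmod_eq_zero_iff_dvd] at h ⊢
  push_cast at h ⊢
  rwa [ZMod.pow_card] at h

theorem pow_dvd_sub_one_of_odd {p m : ℕ} (hp : p.Prime) (hp2 : p ≠ 2) {r : ℤ}
    (h : (p : ℤ) ^ (m + 1) ∣ r ^ p - 1) : (p : ℤ) ^ m ∣ r - 1 := by
  have h1 : (p : ℤ) ∣ r - 1 := prime_dvd_sub_one_of_dvd hp ((dvd_pow_self _ m.succ_ne_zero).trans h)
  have h2 : ¬ (p : ℤ) ∣ r := fun h2 => by
    have := (dvd_sub h2 h1)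
    rw [sub_sub_cancel] at this
    exact hp.one_lt.ne' (by exact_mod_cast Int.eq_one_of_dvd_one (by positivity) this)
  have h3 := Int.emultiplicity_pow_sub_pow hp (hp.odd_of_ne_two hp2) h1 h2 p
  rw [one_pow, hp.emultiplicity_self] at h3
  rw [pow_dvd_iff_le_emultiplicity] at h ⊢
  rw [h3, Nat.cast_add, Nat.cast_one] at h
  exact (ENat.add_le_add_iff_right ENat.one_ne_top).1 h

theorem two_pow_dvd_or {m : ℕ} {r : ℤ} (h : (2 : ℤ) ^ (m + 1) ∣ r ^ 2 - 1) :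
    (2 : ℤ) ^ m ∣ r - 1 ∨ (2 : ℤ) ^ m ∣ r + 1 := by
  rcases m with _ | m
  · simp
  have h1 : (2 : ℤ) ∣ r - 1 := prime_dvd_sub_one_of_dvd Nat.prime_two
    ((dvd_pow_self _ (Nat.succ_ne_zero _)).trans h)
  obtain ⟨k, hk⟩ := h1
  have hr : r = 2 * k + 1 := by omega
  subst hr
  rw [show (2 * k + 1) ^ 2 - 1 = 2 * 2 * (k * (k + 1)) by ring,
    show (2 : ℤ) ^ (m + 1 + 1) = 2 * 2 * 2 ^ m by ring, mul_dvd_mul_iff_left (by norm_num)] at h
  rcases Int.even_or_odd' k with ⟨j, rfl | rfl⟩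
  · left
    have : IsCoprime ((2 : ℤ) ^ m) (2 * j + 1) := IsCoprime.pow_left ⟨-j, 1, by ring⟩
    rw [hk, pow_succ']
    exact mul_dvd_mul_left _ (this.dvd_of_dvd_mul_right h)
  · right
    have : IsCoprime ((2 : ℤ) ^ m) (2 * j + 1) := IsCoprime.pow_left ⟨-j, 1, by ring⟩
    rw [show 2 * (2 * j + 1) + 1 + 1 = 2 * (2 * j + 1 + 1) by ring, pow_succ']
    exact mul_dvd_mul_left _ (this.dvd_of_dvd_mul_left h)

/-! ### the modular situation -/

/-- `b` acts on `⟨a⟩` by multiplying with elements of `⟨z⟩`, `z` central of exponent `p`. -/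
theorem exists_comm_of_modular [Finite G] {a b z : G} (haz : Commute a z) (hbz : Commute b z)
    (h : b * a * b⁻¹ * a⁻¹ ∈ zpowers z) {x y : G} (hx : x ∈ zpowers a) (hy : y ∈ zpowers b) :
    ∃ c ∈ zpowers z, y * x = x * y * c := by
  have key : ∀ {a b : G}, Commute b z → (∃ c ∈ zpowers z, b * a = a * b * c) →
      ∀ y ∈ zpowers b, ∃ c ∈ zpowers z, a * y = y * a * c := by
    rintro a b hbz ⟨c, hc, h⟩ y hy
    obtain ⟨n, rfl⟩ := mem_powers_iff_mem_zpowers.2 hy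
    refine ⟨(c ^ n)⁻¹, inv_mem (pow_mem hc n), ?_⟩
    simp only [pow_mul_of_comm (Commute.of_mem_zpowers hbz (mem_zpowers b) hc) h n,
      mul_inv_cancel_right]
  refine key haz (key hbz ⟨_, h, ?_⟩ y hy) x hx
  rw [(Commute.of_mem_zpowers (haz.mul_left hbz) (mem_zpowers _) h).eq]
  group

theorem modular_of_dvd {p m : ℕ} {a b : G} (ha : orderOf a = p ^ (m + 1)) {r : ℤ}
    (h : b * a * b⁻¹ = a ^ r) (h1 : (p : ℤ) ∣ r - 1) (h2 : (p : ℤ) ^ m ∣ r - 1) :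
    Commute b (a ^ p ^ m) ∧ b * a * b⁻¹ * a⁻¹ ∈ zpowers (a ^ p ^ m) := by
  constructor
  · rw [Commute, SemiconjBy, ← mul_inv_eq_iff_eq_mul, ← conj_pow, h, ← zpow_natCast, ← zpow_mul,
      ← zpow_natCast, zpow_eq_zpow_iff_modEq, ha, Int.modEq_comm, Int.modEq_iff_dvd]
    push_cast
    rw [← sub_one_mul, pow_succ']
    exact mul_dvd_mul_right h1 _
  · obtain ⟨k, hk⟩ := h2
    refine ⟨k, ?_⟩
    simp only [h, ← zpow_natCast, ← zpow_mul, ← zpow_sub_one]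
    rw [hk]; push_cast; rfl

theorem modular_of_odd {p m : ℕ} (hp : p.Prime) (hp2 : p ≠ 2) {a b : G}
    (ha : orderOf a = p ^ (m + 1)) (hn : b * a * b⁻¹ ∈ zpowers a) (hb : Commute (b ^ p) a) :
    Commute b (a ^ p ^ m) ∧ b * a * b⁻¹ * a⁻¹ ∈ zpowers (a ^ p ^ m) := by
  obtain ⟨r, hr⟩ := hn
  have h := pow_modEq_one_of_conj hr.symm hb
  rw [ha] at h
  push_cast at h
  exact modular_of_dvd ha hr.symm
    (prime_dvd_sub_one_of_dvd hp ((dvd_pow_self _ m.succ_ne_zero).trans h))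
    (pow_dvd_sub_one_of_odd hp hp2 h)

theorem pow_pow_pow_eq_one {p m : ℕ} {a : G} (ha : orderOf a = p ^ (m + 1)) :
    (a ^ p ^ m) ^ p = 1 := by rw [← pow_mul, ← pow_succ, ← ha, pow_orderOf_eq_one]

theorem pow_eq_one_of_mem_zpowers {z c : G} {n : ℕ} (hz : z ^ n = 1) (hc : c ∈ zpowers z) :
    c ^ n = 1 := by
  obtain ⟨k, rfl⟩ := hc
  simp only [← zpow_natCast, ← zpow_mul] at hz ⊢
  rw [mul_comm, zpow_mul, hz, one_zpow]

theorem mul_pow_of_odd [Finite G] {p m : ℕ} (hp : p.Prime) (hp2 : p ≠ 2) {a b : G}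
    (ha : orderOf a = p ^ (m + 1)) (hn : b * a * b⁻¹ ∈ zpowers a) (hb : Commute (b ^ p) a)
    {x y : G} (hx : x ∈ zpowers a) (hy : y ∈ zpowers b) : (x * y) ^ p = x ^ p * y ^ p := by
  obtain ⟨h1, h2⟩ := modular_of_odd hp hp2 ha hn hb
  have h0 : Commute a (a ^ p ^ m) := Commute.self_pow _ _
  obtain ⟨c, hc, h⟩ := exists_comm_of_modular h0 h1 h2 hx hy
  exact mul_pow_prime_of_comm hp hp2 (Commute.of_mem_zpowers h0 hx hc)
    (Commute.of_mem_zpowers h1 hy hc) h (pow_eq_one_of_mem_zpowers (pow_pow_pow_eq_one ha) hc)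

theorem mem_zpowers_pow_of_pow_eq_one {p m : ℕ} (hp : p.Prime) {a x : G}
    (ha : orderOf a = p ^ (m + 1)) (hx : x ∈ zpowers a) (h : x ^ p = 1) :
    x ∈ zpowers (a ^ p ^ m) := by
  obtain ⟨k, rfl⟩ := hx
  simp only [← zpow_natCast, ← zpow_mul, ← orderOf_dvd_iff_zpow_eq_one, ha] at h
  push_cast at h
  rw [pow_succ, mul_dvd_mul_iff_right (by exact_mod_cast hp.ne_zero)] at h
  obtain ⟨l, rfl⟩ := h
  exact ⟨l, by simp only [← zpow_natCast, ← zpow_mul]; push_cast; rfl⟩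

theorem exists_pow_eq_or_mem [Finite G] {p m : ℕ} (hp : p.Prime) {a x : G} (ha : orderOf a = p ^ m)
    (hx : x ∈ zpowers a) : (∃ y ∈ zpowers a, y ^ p = x) ∨ a ∈ zpowers x := by
  obtain ⟨s, rfl⟩ := mem_powers_iff_mem_zpowers.2 hx
  by_cases hs : p ∣ s
  · obtain ⟨u, rfl⟩ := hs
    exact .inl ⟨a ^ u, pow_mem (mem_zpowers a) u, by rw [← pow_mul, mul_comm]⟩
  · obtain ⟨k, hk⟩ := exists_pow_eq_self_of_coprime (x := a) (n := s)
      (ha ▸ ((hp.coprime_iff_not_dvd.2 hs).symm.pow_right m))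
    exact .inr ⟨k, by simpa using hk⟩

theorem mem_normalizer_zpowers [Finite G] {a b : G} (h : b * a * b⁻¹ ∈ zpowers a) :
    b ∈ normalizer (zpowers a : Set G) := Transfer.mem_normalizer_zpowers h

/-- odd `p`: a noncyclic extension of a cyclic group by a group of order `p` splits. -/
theorem exists_pow_eq_one_of_odd [Finite G] {p m : ℕ} (hp : p.Prime) (hp2 : p ≠ 2) {a b : G}
    (ha : orderOf a = p ^ (m + 1)) (hn : b * a * b⁻¹ ∈ zpowers a) (hb : b ^ p ∈ zpowers a)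
    (hab : a ∉ zpowers b) : ∃ x ∈ zpowers a, (x * b) ^ p = 1 := by
  rcases exists_pow_eq_or_mem hp ha hb with ⟨y, hy, h⟩ | h
  · refine ⟨y⁻¹, inv_mem hy, ?_⟩
    rw [mul_pow_of_odd hp hp2 ha hn (commute_of_mem_zpowers hb) (inv_mem hy) (mem_zpowers b),
      inv_pow, h, inv_mul_cancel]
  · exact absurd (zpowers_le.2 (pow_mem (mem_zpowers b) p) h) hab

theorem card_zpowers_sup_zpowers [Finite G] {a b : G} (h : Commute a b)
    (hd : zpowers a ⊓ zpowers b = ⊥) :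
    Nat.card (zpowers a ⊔ zpowers b : Subgroup G) = orderOf a * orderOf b := by
  rw [card_sup_of_disjoint _ hd, Nat.card_zpowers, Nat.card_zpowers]
  exact (zpowers_le.2 (mem_normalizer_zpowers (by rw [h.eq]; simp)))

theorem isMulCommutative_zpowers_sup {a b : G} (h : Commute a b) :
    IsMulCommutative (zpowers a ⊔ zpowers b : Subgroup G) := by
  rw [← Transfer.closure_pair_eq]
  refine isMulCommutative_closure ?_
  rintro x (rfl | rfl) y (rfl | rfl)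
  exacts [rfl, h.eq, h.symm.eq, rfl]

theorem zpowers_inf_eq_bot_of_prime [Finite G] {p : ℕ} (hp : p.Prime) {H : Subgroup G} {b : G}
    (hb : b ^ p = 1) (h : b ∉ H) : H ⊓ zpowers b = ⊥ := by
  have := Fact.mk hp
  rw [eq_bot_iff_forall]
  intro x hx
  by_contra h1
  have hb1 : b ≠ 1 := fun e => h (e ▸ one_mem H)
  have := eq_of_card_prime_of_mem hp (B := zpowers b)
    (by rw [Nat.card_zpowers, orderOf_eq_prime hb hb1]) (mem_inf.1 hx).2 h1
  exact h (zpowers_le.2 (mem_inf.1 hx).1 (this ▸ mem_zpowers b))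

/-- in a nilpotent group a maximal subgroup of a subgroup is normalised. -/
theorem le_normalizer_of_relIndex_prime [Finite G] {p : ℕ} [hp : Fact p.Prime] {B C : Subgroup G}
    (hB : IsPGroup p B) (hCB : C ≤ B) (hi : C.relIndex B = p) : B ≤ normalizer (C : Set G) := by
  have := hB.isNilpotent
  rw [← normal_subgroupOf_iff_le_normalizer hCB]
  exact coatom_normal_of_nilpotent (isCoatom_of_index_prime (hi ▸ hp.out :))

theorem sup_zpowers_eq_of_relIndex_prime {B C : Subgroup G}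
    (hCB : C ≤ B) (hi : (C.relIndex B).Prime) {b : G} (hb : b ∈ B) (hbC : b ∉ C) :
    C ⊔ zpowers b = B := by
  have h1 := isCoatom_of_index_prime (M := C.subgroupOf B) hi
  have h2 := h1.2 ((C ⊔ zpowers b).subgroupOf B) (lt_of_le_of_ne (subgroupOf_mono _ le_sup_left)
    fun h => hbC (by
      have : (⟨b, hb⟩ : B) ∈ (C ⊔ zpowers b).subgroupOf B := mem_sup_right (mem_zpowers b)
      rw [← h] at this; exact this))
  exact le_antisymm (sup_le hCB (zpowers_le.2 hb)) (subgroupOf_eq_top.1 h2)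

theorem pow_relIndex_mem {B C : Subgroup G} (hCB : C ≤ B) (hn : B ≤ normalizer (C : Set G)) {b : G}
    (hb : b ∈ B) : b ^ C.relIndex B ∈ C := by
  have := (normal_subgroupOf_iff_le_normalizer hCB).2 hn
  exact pow_index_mem (C.subgroupOf B) ⟨b, hb⟩

theorem exists_orderOf_eq_pow [Finite G] {p : ℕ} [Fact p.Prime] {B : Subgroup G} (hB : IsPGroup p B)
    {a : G} (ha : a ∈ B) : ∃ m, orderOf a = p ^ m := by
  obtain ⟨m, hm⟩ := IsPGroup.iff_orderOf.1 hB ⟨a, ha⟩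
  exact ⟨m, by rw [← hm, ← orderOf_coe]⟩

/-- generators of a noncyclic `p`-group with a cyclic subgroup of index `p`. -/
theorem exists_gens_of_cyclic_index [Finite G] {p : ℕ} [hp : Fact p.Prime] {B C : Subgroup G}
    (hB : IsPGroup p B) (hCB : C ≤ B) (hC : IsCyclic C) (hi : C.relIndex B = p)
    (hnc : ¬ IsCyclic B) : ∃ (a b : G) (m : ℕ), C = zpowers a ∧ orderOf a = p ^ (m + 1) ∧ b ∈ B ∧
      b ∉ zpowers a ∧ b * a * b⁻¹ ∈ zpowers a ∧ b ^ p ∈ zpowers a ∧ a ∉ zpowers b ∧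
      B = zpowers a ⊔ zpowers b := by
  obtain ⟨a, rfl⟩ := (Subgroup.isCyclic_iff_exists_zpowers_eq_top C).1 hC
  have hn := le_normalizer_of_relIndex_prime hB hCB hi
  obtain ⟨b, hb, hbC⟩ : ∃ b ∈ B, b ∉ zpowers a := by
    by_contra h
    push Not at h
    rw [relIndex_eq_one.2 h] at hi
    exact hp.out.one_lt.ne hi
  have hs := sup_zpowers_eq_of_relIndex_prime hCB (hi ▸ hp.out) hb hbC
  have hab : a ∉ zpowers b := fun h => hnc (isCyclic_iff_exists_le_zpowers.2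
    ⟨b, hb, hs ▸ sup_le (zpowers_le.2 h) le_rfl⟩)
  obtain ⟨m, hm⟩ := exists_orderOf_eq_pow hB (hCB (mem_zpowers a))
  rcases m with _ | m
  · rw [pow_zero, orderOf_eq_one_iff] at hm
    exact absurd (hm ▸ one_mem _) hab
  exact ⟨a, b, m, rfl, hm, hb, hbC, conj_mem_of_mem_normalizer (hn hb) (mem_zpowers a),
    hi ▸ pow_relIndex_mem hCB hn hb, hab, hs.symm⟩

theorem exists_gens_of_cyclic_index_odd [Finite G] {p : ℕ} [hp : Fact p.Prime] (hp2 : p ≠ 2)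
    {B C : Subgroup G} (hB : IsPGroup p B) (hCB : C ≤ B) (hC : IsCyclic C) (hi : C.relIndex B = p)
    (hnc : ¬ IsCyclic B) : ∃ (a b : G) (m : ℕ), C = zpowers a ∧ orderOf a = p ^ (m + 1) ∧ b ∈ B ∧
      b ∉ zpowers a ∧ b * a * b⁻¹ ∈ zpowers a ∧ b ^ p = 1 ∧ B = zpowers a ⊔ zpowers b := by
  obtain ⟨a, b, m, rfl, ha, hb, hba, hn, hbp, hab, hs⟩ :=
    exists_gens_of_cyclic_index hB hCB hC hi hnc
  obtain ⟨x, hx, h⟩ := exists_pow_eq_one_of_odd hp.out hp2 ha hn hbp hab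
  have h1 : x * b ∉ zpowers a := fun h => hba ((mul_mem_cancel_left hx).1 h)
  have h2 : x * b ∈ B := mul_mem (hCB hx) hb
  refine ⟨a, x * b, m, rfl, ha, h2, h1, ?_, h,
    (sup_zpowers_eq_of_relIndex_prime hCB (hi ▸ hp.out) h2 h1).symm⟩
  rw [show x * b * a * (x * b)⁻¹ = x * (b * a * b⁻¹) * x⁻¹ by group]
  exact mul_mem (mul_mem hx hn) (inv_mem hx)

/-- `Ω₁` in the modular situation. -/
theorem omega_of_modular [Finite G] {p m : ℕ} (hp : p.Prime) {a b : G}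
    (ha : orderOf a = p ^ (m + 1)) (hba : b ∉ zpowers a) (hn : b * a * b⁻¹ ∈ zpowers a)
    (hb : b ^ p = 1) (hz : Commute b (a ^ p ^ m))
    (hpow : ∀ x ∈ zpowers a, ∀ y ∈ zpowers b, (x * y) ^ p = 1 → x ^ p = 1) :
    ∃ E : Subgroup G, Nat.card E = p ^ 2 ∧ IsMulCommutative E ∧
      ∀ x, x ∈ E ↔ x ∈ zpowers a ⊔ zpowers b ∧ x ^ p = 1 := by
  have := Fact.mk hp
  have hz1 := pow_pow_pow_eq_one ha
  have hza : zpowers (a ^ p ^ m) ≤ zpowers a := zpowers_le.2 (pow_mem (mem_zpowers a) _)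
  refine ⟨zpowers (a ^ p ^ m) ⊔ zpowers b, ?_, isMulCommutative_zpowers_sup hz.symm, fun x => ?_⟩
  · rw [card_zpowers_sup_zpowers hz.symm (zpowers_inf_eq_bot_of_prime hp hb fun h => hba (hza h)),
      orderOf_eq_prime hb (fun h => hba (h ▸ one_mem _)), orderOf_pow_of_dvd (pow_ne_zero _ hp.ne_zero)
        (ha ▸ pow_dvd_pow p m.le_succ), ha, pow_succ', Nat.mul_div_cancel _ (pow_pos hp.pos m), pow_two]
  · have hb' : zpowers b ≤ normalizer (zpowers a : Set G) := zpowers_le.2 (mem_normalizer_zpowers hn)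
    have hb'' : zpowers b ≤ normalizer (zpowers (a ^ p ^ m) : Set G) :=
      zpowers_le.2 (mem_normalizer_zpowers (by rw [hz.eq]; simp))
    rw [mem_sup_of_le_normalizer' hb', mem_sup_of_le_normalizer' hb'']
    constructor
    · rintro ⟨u, hu, v, hv, rfl⟩
      refine ⟨⟨u, hza hu, v, hv, rfl⟩, ?_⟩
      rw [(Commute.of_mem_zpowers hz.symm hu hv).mul_pow, pow_eq_one_of_mem_zpowers hz1 hu,
        pow_eq_one_of_mem_zpowers hb hv, one_mul]
    · rintro ⟨⟨u, hu, v, hv, rfl⟩, h⟩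
      exact ⟨u, mem_zpowers_pow_of_pow_eq_one hp ha hu (hpow u hu v hv h), v, hv, rfl⟩

theorem omega_of_cyclic_index_odd [Finite G] {p : ℕ} [hp : Fact p.Prime] (hp2 : p ≠ 2)
    {B C : Subgroup G} (hB : IsPGroup p B) (hCB : C ≤ B) (hC : IsCyclic C) (hi : C.relIndex B = p)
    (hnc : ¬ IsCyclic B) : ∃ E : Subgroup G, Nat.card E = p ^ 2 ∧ IsMulCommutative E ∧
      ∀ x, x ∈ E ↔ x ∈ B ∧ x ^ p = 1 := by
  obtain ⟨a, b, m, rfl, ha, -, hba, hn, hb, rfl⟩ := exists_gens_of_cyclic_index_odd hp2 hB hCB hC hi hnc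
  have hc : Commute (b ^ p) a := by rw [hb]; exact Commute.one_left a
  refine omega_of_modular hp.out ha hba hn hb (modular_of_odd hp.out hp2 ha hn hc).1
    fun x hx y hy h => ?_
  rwa [mul_pow_of_odd hp.out hp2 ha hn hc hx hy, pow_eq_one_of_mem_zpowers hb hy, mul_one] at h

/-! ### `p = 2` -/

theorem conj_cases_two {m : ℕ} {a b : G} (ha : orderOf a = 2 ^ (m + 1))
    (hn : b * a * b⁻¹ ∈ zpowers a) (hb : Commute (b ^ 2) a) :
    Commute b a ∨ b * a * b⁻¹ = a⁻¹ ∨ (2 ≤ m ∧ b * a * b⁻¹ = a ^ (1 + 2 ^ m)) ∨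
      (2 ≤ m ∧ b * a * b⁻¹ = a ^ (2 ^ m - 1)) := by
  obtain ⟨r, hr⟩ := hn
  simp only at hr
  have h := pow_modEq_one_of_conj hr.symm hb
  rw [ha] at h
  push_cast at h
  have e1 : (2 : ℤ) ^ (m + 1) ∣ r - 1 → Commute b a := fun h => by
    rw [Commute, SemiconjBy, ← mul_inv_eq_iff_eq_mul, ← hr]
    conv_rhs => rw [← zpow_one a]
    rw [zpow_eq_zpow_iff_modEq, ha, Int.modEq_comm, Int.modEq_iff_dvd]
    exact_mod_cast h
  have e2 : (2 : ℤ) ^ (m + 1) ∣ r + 1 → b * a * b⁻¹ = a⁻¹ := fun h => by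
    rw [← hr, ← zpow_neg_one, zpow_eq_zpow_iff_modEq, ha, Int.modEq_comm, Int.modEq_iff_dvd]
    simpa using h
  have h2 : (2 : ℤ) ∣ r - 1 := prime_dvd_sub_one_of_dvd Nat.prime_two
    ((dvd_pow_self _ (Nat.succ_ne_zero _)).trans h)
  rcases m with _ | _ | m
  · exact .inl (e1 (by simpa using h2))
  · have : (4 : ℤ) ∣ r - 1 ∨ (4 : ℤ) ∣ r + 1 := by omega
    exact this.imp (fun h => e1 (by simpa using h)) fun h => .inl (e2 (by simpa using h))
  rcases two_pow_dvd_or h with ⟨k, hk⟩ | ⟨k, hk⟩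
  · rcases Int.even_or_odd' k with ⟨j, rfl | rfl⟩
    · exact .inl (e1 ⟨j, by rw [hk]; ring⟩)
    · refine .inr (.inr (.inl ⟨by omega, ?_⟩))
      rw [← hr, ← zpow_natCast, zpow_eq_zpow_iff_modEq, ha, Int.modEq_comm, Int.modEq_iff_dvd]
      exact ⟨j, by push_cast; linear_combination hk⟩
  · rcases Int.even_or_odd' k with ⟨j, rfl | rfl⟩
    · exact .inr (.inl (e2 ⟨j, by rw [hk]; ring⟩))
    · refine .inr (.inr (.inr ⟨by omega, ?_⟩))
      rw [← hr, ← zpow_natCast, zpow_eq_zpow_iff_modEq, ha, Int.modEq_comm, Int.modEq_iff_dvd]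
      exact ⟨j, by rw [Nat.cast_sub Nat.one_le_two_pow]; push_cast; linear_combination hk⟩

theorem eq_one_or_eq_of_sq {m : ℕ} {a x : G} (ha : orderOf a = 2 ^ (m + 1)) (hx : x ∈ zpowers a)
    (h : x ^ 2 = 1) : x = 1 ∨ x = a ^ 2 ^ m :=
  (Transfer.mem_zpowers_iff_of_sq (by rw [← pow_two, pow_pow_pow_eq_one ha])).1
    (mem_zpowers_pow_of_pow_eq_one Nat.prime_two ha hx h)

theorem mul_sq_of_conj {a b : G} {r : ℤ} (h : b * a * b⁻¹ = a ^ r) (t : ℤ) :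
    (a ^ t * b) ^ 2 = a ^ (t * (r + 1)) * b ^ 2 := by
  calc (a ^ t * b) ^ 2 = a ^ t * (b * a ^ t * b⁻¹) * b ^ 2 := by rw [pow_two, pow_two]; group
    _ = _ := by rw [Transfer.conj_zpow_eq h, ← zpow_add]; congr 2; ring

/-- classification of nonabelian `2`-groups with a cyclic subgroup of index two. -/
theorem exists_normal_form_two [Finite G] {m : ℕ} {a b : G} (ha : orderOf a = 2 ^ (m + 1))
    (hn : b * a * b⁻¹ ∈ zpowers a) (hb : b ^ 2 ∈ zpowers a) (hc : ¬ Commute b a) :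
    ∃ x ∈ zpowers a, ((x * b) ^ 2 = 1 ∧ b * a * b⁻¹ = a⁻¹) ∨
      ((x * b) ^ 2 = a ^ 2 ^ m ∧ b * a * b⁻¹ = a⁻¹) ∨
      (2 ≤ m ∧ (x * b) ^ 2 = 1 ∧ b * a * b⁻¹ = a ^ (1 + 2 ^ m)) ∨
      (2 ≤ m ∧ (x * b) ^ 2 = 1 ∧ b * a * b⁻¹ = a ^ (2 ^ m - 1)) := by
  obtain ⟨s, hs⟩ := id hb
  simp only at hs
  have hbb : b * b ^ 2 * b⁻¹ = b ^ 2 := by group
  rcases conj_cases_two ha hn (commute_of_mem_zpowers hb) with h | h | ⟨hm, h⟩ | ⟨hm, h⟩
  · exact absurd h hc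
  · refine ⟨1, one_mem _, ?_⟩
    rw [one_mul]
    rw [Transfer.inverts_of_mem_zpowers h hb, inv_eq_iff_mul_eq_one, ← pow_two] at hbb
    exact (eq_one_or_eq_of_sq ha hb hbb).imp (fun e => ⟨e, h⟩) fun e => .inl ⟨e, h⟩
  · obtain ⟨k, rfl⟩ := Nat.exists_eq_add_of_le' hm
    have hs2 : (2 : ℤ) ∣ s := by
      by_contra h2
      apply hc
      have h3 : a ∈ zpowers (a ^ s) := by
        rw [mem_zpowers_zpow_iff, ha, ← Int.isCoprime_iff_gcd_eq_one]
        push_cast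
        obtain ⟨j, rfl⟩ : ∃ j, s = 2 * j + 1 := ⟨s / 2, by omega⟩
        exact IsCoprime.pow_right ⟨1, -j, by ring⟩
      rw [hs] at h3
      exact (commute_of_mem_zpowers (zpowers_le.2 (pow_mem (mem_zpowers b) 2) h3)).symm
    obtain ⟨u, rfl⟩ := hs2
    obtain ⟨v, w, hvw⟩ : IsCoprime ((1 : ℤ) + 2 ^ (k + 1)) (2 ^ (k + 2)) :=
      IsCoprime.pow_right ⟨1, -2 ^ k, by ring⟩
    refine ⟨a ^ (-u * v), zpow_mem (mem_zpowers a) _, .inr (.inr (.inl ⟨hm, ?_, h⟩))⟩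
    rw [← zpow_natCast] at h
    rw [mul_sq_of_conj h, ← hs, ← zpow_add, ← orderOf_dvd_iff_zpow_eq_one, ha]
    exact ⟨u * w, by push_cast; linear_combination (-2 * u) * hvw⟩
  · obtain ⟨k, rfl⟩ := Nat.exists_eq_add_of_le' hm
    have h' := h
    rw [← zpow_natCast, Nat.cast_sub Nat.one_le_two_pow] at h'
    have h1 : (b ^ 2) ^ 2 = 1 := by
      rw [← hs, Transfer.conj_zpow_eq h', zpow_eq_zpow_iff_modEq, ha, Int.modEq_iff_dvd] at hbb
      rw [← hs, ← zpow_natCast, ← zpow_mul, ← orderOf_dvd_iff_zpow_eq_one, ha]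
      have : IsCoprime ((2 : ℤ) ^ (k + 2 + 1)) (1 - 2 ^ (k + 1)) :=
        IsCoprime.pow_left ⟨2 ^ k, 1, by ring⟩
      push_cast at hbb ⊢
      refine this.dvd_of_dvd_mul_right ?_
      obtain ⟨c, hc⟩ := hbb
      exact ⟨c, by rw [← hc]; ring⟩
    rcases eq_one_or_eq_of_sq ha hb h1 with e | e
    · exact ⟨1, one_mem _, .inr (.inr (.inr ⟨hm, by rwa [one_mul], h⟩))⟩
    · refine ⟨a ^ (1 : ℤ), zpow_mem (mem_zpowers a) _, .inr (.inr (.inr ⟨hm, ?_, h⟩))⟩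
      rw [mul_sq_of_conj h', e, ← zpow_natCast, ← zpow_add, ← orderOf_dvd_iff_zpow_eq_one, ha]
      exact ⟨1, by push_cast; ring⟩

theorem omega_of_modular_two [Finite G] {m : ℕ} (hm : 2 ≤ m) {a b : G}
    (ha : orderOf a = 2 ^ (m + 1)) (hba : b ∉ zpowers a) (h : b * a * b⁻¹ = a ^ (1 + 2 ^ m))
    (hb : b ^ 2 = 1) : ∃ E : Subgroup G, Nat.card E = 2 ^ 2 ∧ IsMulCommutative E ∧
      ∀ x, x ∈ E ↔ x ∈ zpowers a ⊔ zpowers b ∧ x ^ 2 = 1 := by
  obtain ⟨k, rfl⟩ := Nat.exists_eq_add_of_le' hm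
  have h' := h
  rw [← zpow_natCast] at h'
  refine omega_of_modular Nat.prime_two ha hba (h ▸ pow_mem (mem_zpowers a) _) hb
    (modular_of_dvd ha h' ⟨2 ^ (k + 1), by push_cast; ring⟩ ⟨1, by push_cast; ring⟩).1 ?_
  rintro _ ⟨t, rfl⟩ y hy h1
  rcases (Transfer.mem_zpowers_iff_of_sq (by rwa [← pow_two])).1 hy with rfl | rfl
  · simpa using h1
  simp only at h1 ⊢
  rw [mul_sq_of_conj h', hb, mul_one, ← orderOf_dvd_iff_zpow_eq_one, ha] at h1
  rw [← zpow_natCast, ← zpow_mul, ← orderOf_dvd_iff_zpow_eq_one, ha]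
  have : IsCoprime ((2 : ℤ) ^ (k + 2 + 1)) (1 + 2 ^ (k + 1)) :=
    IsCoprime.pow_left ⟨-2 ^ k, 1, by ring⟩
  push_cast at h1 ⊢
  refine this.dvd_of_dvd_mul_right ?_
  obtain ⟨c, hc⟩ := h1
  exact ⟨c, by rw [← hc]; ring⟩

end Cfsg.Agent.Solv
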