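import Mathlib.GroupTheory.SchurZassenhaus
import Mathlib.GroupTheory.Frattini
import Mathlib.GroupTheory.Nilpotent
import Mathlib.GroupTheory.IsSubnormal
import Mathlib.Tactic.Group

/-! Basic toolkit: conjugation of subgroups, orders of joins, minimal normal subgroups,
induction on the order. -/

set_option autoImplicit false
open Pointwise Subgroup

namespace Cfsg.Agent.Solv

universe u
variable {G : Type*} [Group G]

/-! ### conjugation -/

theorem mem_conj_smul {H : Subgroup G} {g x : G} :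
    x ∈ MulAut.conj g • H ↔ g⁻¹ * x * g ∈ H := by
  rw [Subgroup.mem_pointwise_smul_iff_inv_smul_mem]
  simp [MulAut.smul_def]

theorem conj_mem_conj_smul {H : Subgroup G} (g : G) {x : G} (hx : x ∈ H) :
    g * x * g⁻¹ ∈ MulAut.conj g • H := by
  rw [mem_conj_smul]; simpa [mul_assoc] using hx

theorem conj_smul_eq_map (g : G) (H : Subgroup G) :
    MulAut.conj g • H = H.map (MulAut.conj g).toMonoidHom := rfl

theorem mem_map_conj {H : Subgroup G} {g x : G} :
    x ∈ H.map (MulAut.conj g).toMonoidHom ↔ g⁻¹ * x * g ∈ H := mem_conj_smul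

theorem card_conj_smul (g : G) (H : Subgroup G) :
    Nat.card (MulAut.conj g • H : Subgroup G) = Nat.card H :=
  (Nat.card_congr (Subgroup.equivSMul (MulAut.conj g) H).toEquiv).symm

theorem index_conj_smul (g : G) (H : Subgroup G) :
    (MulAut.conj g • H : Subgroup G).index = H.index :=
  Subgroup.index_map_equiv H (MulAut.conj g)

theorem conj_smul_eq_self_iff {g : G} {H : Subgroup G} :
    MulAut.conj g • H = H ↔ g ∈ normalizer (H : Set G) :=
  Subgroup.conjAct_pointwise_smul_iff

theorem conj_smul_conj_smul (g h : G) (H : Subgroup G) :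
    MulAut.conj g • MulAut.conj h • H = MulAut.conj (g * h) • H := by
  rw [map_mul, mul_smul]

theorem conj_one_smul (H : Subgroup G) : MulAut.conj (1 : G) • H = H := by
  rw [map_one, one_smul]

theorem conj_inv_smul_conj_smul (g : G) (H : Subgroup G) :
    MulAut.conj g⁻¹ • MulAut.conj g • H = H := by
  rw [conj_smul_conj_smul, inv_mul_cancel, conj_one_smul]

theorem conj_smul_conj_inv_smul (g : G) (H : Subgroup G) :
    MulAut.conj g • MulAut.conj g⁻¹ • H = H := by
  rw [conj_smul_conj_smul, mul_inv_cancel, conj_one_smul]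

theorem conj_smul_mono (g : G) {H K : Subgroup G} (h : H ≤ K) :
    MulAut.conj g • H ≤ MulAut.conj g • K :=
  Subgroup.pointwise_smul_le_pointwise_smul_iff.2 h

theorem conj_smul_le_iff {g : G} {H K : Subgroup G} :
    MulAut.conj g • H ≤ K ↔ ∀ x ∈ H, g * x * g⁻¹ ∈ K := by
  constructor
  · intro h x hx; exact h (conj_mem_conj_smul g hx)
  · intro h x hx
    have := h _ (mem_conj_smul.1 hx)
    simpa [mul_assoc] using this

theorem le_conj_smul_iff {g : G} {H K : Subgroup G} :
    H ≤ MulAut.conj g • K ↔ ∀ x ∈ H, g⁻¹ * x * g ∈ K :=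
  ⟨fun h _ hx => mem_conj_smul.1 (h hx), fun h _ hx => mem_conj_smul.2 (h _ hx)⟩

theorem conj_smul_le_of_mem {g : G} {H K : Subgroup G} (h : H ≤ K) (hg : g ∈ K) :
    MulAut.conj g • H ≤ K :=
  Subgroup.conj_smul_le_of_le h ⟨g, hg⟩

theorem conj_smul_eq_bot_iff {g : G} {H : Subgroup G} : MulAut.conj g • H = ⊥ ↔ H = ⊥ := by
  rw [eq_bot_iff_card, card_conj_smul, ← eq_bot_iff_card]

theorem conj_smul_top (g : G) : MulAut.conj g • (⊤ : Subgroup G) = ⊤ :=
  Subgroup.Normal.conj_smul_eq_self g ⊤

theorem map_conj_smul {G' : Type*} [Group G'] (f : G →* G') (g : G) (H : Subgroup G) :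
    (MulAut.conj g • H).map f = MulAut.conj (f g) • H.map f := by
  rw [conj_smul_eq_map, conj_smul_eq_map, Subgroup.map_map, Subgroup.map_map]
  congr 1
  ext x
  simp

theorem comap_conj_smul {G' : Type*} [Group G'] (f : G' →* G) (g : G') (H : Subgroup G) :
    (MulAut.conj (f g) • H).comap f = MulAut.conj g • H.comap f := by
  ext x
  simp [mem_conj_smul]

theorem normalizer_conj_smul (g : G) (H : Subgroup G) :
    normalizer ((MulAut.conj g • H : Subgroup G) : Set G) =
      MulAut.conj g • normalizer (H : Set G) := by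
  ext x
  rw [mem_conj_smul, ← conj_smul_eq_self_iff, ← conj_smul_eq_self_iff, conj_smul_conj_smul,
    ← conj_smul_conj_smul, ← conj_smul_conj_smul, ← conj_smul_conj_smul, map_inv, inv_smul_eq_iff]

theorem centralizer_conj_smul (g : G) (H : Subgroup G) :
    centralizer ((MulAut.conj g • H : Subgroup G) : Set G) =
      MulAut.conj g • centralizer (H : Set G) := by
  ext x
  rw [mem_conj_smul, mem_centralizer_iff, mem_centralizer_iff]
  constructor
  · intro h y hy
    have := h _ (conj_mem_conj_smul g hy)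
    calc y * (g⁻¹ * x * g) = g⁻¹ * (g * y * g⁻¹ * x) * g := by group
      _ = g⁻¹ * x * g * y := by rw [this]; group
  · intro h y hy
    have := h _ (mem_conj_smul.1 hy)
    calc y * x = g * (g⁻¹ * y * g * (g⁻¹ * x * g)) * g⁻¹ := by group
      _ = x * y := by rw [this]; group

theorem isPGroup_conj_smul {p : ℕ} {H : Subgroup G} (h : IsPGroup p H) (g : G) :
    IsPGroup p (MulAut.conj g • H : Subgroup G) := h.map _

theorem conj_mem_of_mem_normalizer {H : Subgroup G} {g x : G} (hg : g ∈ normalizer (H : Set G))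
    (hx : x ∈ H) : g * x * g⁻¹ ∈ H := (mem_normalizer_iff.1 hg x).1 hx

theorem conj_mem_of_mem_normalizer' {H : Subgroup G} {g x : G} (hg : g ∈ normalizer (H : Set G))
    (hx : x ∈ H) : g⁻¹ * x * g ∈ H := (mem_normalizer_iff''.1 hg x).1 hx

theorem mem_normalizer_of_conj_mem [Finite G] {H : Subgroup G} {g : G}
    (h : ∀ x ∈ H, g * x * g⁻¹ ∈ H) : g ∈ normalizer (H : Set G) :=
  mem_normalizer_fintype h

theorem normalizer_le_normalizer_centralizer (H : Subgroup G) :
    normalizer (H : Set G) ≤ normalizer (centralizer (H : Set G) : Set G) := by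
  intro g hg
  rw [← conj_smul_eq_self_iff] at hg ⊢
  rw [← centralizer_conj_smul, hg]

theorem normalizer_le_normalizer_normalizer (H : Subgroup G) :
    normalizer (H : Set G) ≤ normalizer (normalizer (H : Set G) : Set G) := le_normalizer

theorem le_normalizer_inf {A H K : Subgroup G} (h1 : A ≤ normalizer (H : Set G))
    (h2 : A ≤ normalizer (K : Set G)) : A ≤ normalizer ((H ⊓ K : Subgroup G) : Set G) :=
  (le_inf h1 h2).trans inf_normalizer_le_normalizer_inf

theorem le_normalizer_sup {A H K : Subgroup G} (h1 : A ≤ normalizer (H : Set G))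
    (h2 : A ≤ normalizer (K : Set G)) : A ≤ normalizer ((H ⊔ K : Subgroup G) : Set G) :=
  (le_inf h1 h2).trans (normalizer_inf_normalizer_le_normalizer_sup H K)

theorem le_normalizer_centralizer {A H : Subgroup G} (h1 : A ≤ normalizer (H : Set G)) :
    A ≤ normalizer (centralizer (H : Set G) : Set G) :=
  h1.trans (normalizer_le_normalizer_centralizer H)

theorem mem_normalizer_normalizer_of_mem {H : Subgroup G} {g : G}
    (h : g ∈ normalizer (H : Set G)) : g ∈ normalizer (normalizer (H : Set G) : Set G) :=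
  le_normalizer h

theorem conj_smul_commutator (g : G) (H K : Subgroup G) :
    MulAut.conj g • ⁅H, K⁆ = ⁅MulAut.conj g • H, MulAut.conj g • K⁆ :=
  Subgroup.map_commutator H K _

theorem le_normalizer_commutator {A H K : Subgroup G} (h1 : A ≤ normalizer (H : Set G))
    (h2 : A ≤ normalizer (K : Set G)) : A ≤ normalizer ((⁅H, K⁆ : Subgroup G) : Set G) := by
  intro a ha
  rw [← conj_smul_eq_self_iff, conj_smul_commutator, conj_smul_eq_self_iff.2 (h1 ha),
    conj_smul_eq_self_iff.2 (h2 ha)]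

/-- a characteristic subgroup of `K` is normalised by the normaliser of `K`. -/
theorem normalizer_le_normalizer_map_of_characteristic (K : Subgroup G) (C : Subgroup K)
    [hC : C.Characteristic] :
    normalizer (K : Set G) ≤ normalizer ((C.map K.subtype : Subgroup G) : Set G) := by
  have key : ∀ g ∈ normalizer (K : Set G), ∀ x ∈ C.map K.subtype, g * x * g⁻¹ ∈ C.map K.subtype := by
    rintro g hg _ ⟨x, hx, rfl⟩
    have := (characteristic_iff_map_le.1 hC) (K.normalizerMonoidHom ⟨g, hg⟩) ⟨x, hx, rfl⟩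
    exact ⟨_, this, rfl⟩
  exact le_normalizer_iff.2 key

instance instNormalMapSubtypeOfChar (K : Subgroup G) [K.Normal] (C : Subgroup K)
    [C.Characteristic] : (C.map K.subtype).Normal := by
  rw [← normalizer_eq_top_iff, eq_top_iff, ← normalizer_eq_top (H := K)]
  exact normalizer_le_normalizer_map_of_characteristic K C

/-! ### joins and orders -/

theorem mem_sup_of_le_normalizer {H N : Subgroup G} (h : H ≤ normalizer (N : Set G)) {x : G} :
    x ∈ H ⊔ N ↔ ∃ a ∈ H, ∃ n ∈ N, x = a * n := by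
  rw [← SetLike.mem_coe, coe_mul_of_left_le_normalizer_right H N h]
  simp [Set.mem_mul, eq_comm]

theorem mem_sup_of_le_normalizer' {H N : Subgroup G} (h : H ≤ normalizer (N : Set G)) {x : G} :
    x ∈ N ⊔ H ↔ ∃ n ∈ N, ∃ a ∈ H, x = n * a := by
  rw [← SetLike.mem_coe, coe_mul_of_right_le_normalizer_left N H h]
  simp [Set.mem_mul, eq_comm]

theorem card_subgroupOf_of_le {H K : Subgroup G} (h : H ≤ K) :
    Nat.card (H.subgroupOf K) = Nat.card H :=
  Nat.card_congr (subgroupOfEquivOfLe h).toEquiv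

theorem card_subgroupOf (H K : Subgroup G) :
    Nat.card (H.subgroupOf K) = Nat.card (H ⊓ K : Subgroup G) := by
  rw [← inf_subgroupOf_right, card_subgroupOf_of_le inf_le_right]

theorem card_inf_mul_relIndex (H K : Subgroup G) :
    Nat.card (H ⊓ K : Subgroup G) * H.relIndex K = Nat.card K := by
  rw [← card_subgroupOf, relIndex, card_mul_index]

theorem card_mul_relIndex {H K : Subgroup G} (h : H ≤ K) :
    Nat.card H * H.relIndex K = Nat.card K := by
  rw [← card_inf_mul_relIndex H K, inf_of_le_left h]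

theorem relIndex_sup_of_le_normalizer {H N : Subgroup G} (h : H ≤ normalizer (N : Set G)) :
    N.relIndex (H ⊔ N) = N.relIndex H := by
  have hN : (N.subgroupOf (H ⊔ N)).Normal :=
    (normal_subgroupOf_iff_le_normalizer le_sup_right).2 (sup_le h le_normalizer)
  have := relIndex_sup_right (H.subgroupOf (H ⊔ N)) (N.subgroupOf (H ⊔ N))
  rw [← subgroupOf_sup le_sup_left le_sup_right, relIndex_subgroupOf le_rfl,
    relIndex_subgroupOf le_sup_left] at this
  exact this

theorem card_sup_mul_card_inf {H N : Subgroup G} (h : H ≤ normalizer (N : Set G)) :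
    Nat.card (H ⊔ N : Subgroup G) * Nat.card (H ⊓ N : Subgroup G) = Nat.card H * Nat.card N := by
  rw [← card_mul_relIndex (le_sup_right : N ≤ H ⊔ N), relIndex_sup_of_le_normalizer h,
    ← card_inf_mul_relIndex N H, inf_comm N H]
  ring

theorem card_sup_of_disjoint {H N : Subgroup G} (h : H ≤ normalizer (N : Set G))
    (hd : H ⊓ N = ⊥) : Nat.card (H ⊔ N : Subgroup G) = Nat.card H * Nat.card N := by
  rw [← card_sup_mul_card_inf h, hd, card_bot, mul_one]

theorem card_sup_dvd {H N : Subgroup G} (h : H ≤ normalizer (N : Set G)) :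
    Nat.card (H ⊔ N : Subgroup G) ∣ Nat.card H * Nat.card N :=
  ⟨_, (card_sup_mul_card_inf h).symm⟩

theorem card_lt_of_lt [Finite G] {H K : Subgroup G} (h : H < K) : Nat.card H < Nat.card K := by
  rcases (card_le_of_le h.le).lt_or_eq with h1 | h1
  · exact h1
  · exact absurd (eq_of_le_of_card_ge h.le h1.ge) h.ne

theorem card_lt_of_ne_top [Finite G] {H : Subgroup G} (h : H ≠ ⊤) : Nat.card H < Nat.card G := by
  rw [← card_top (G := G)]; exact card_lt_of_lt (lt_top_iff_ne_top.2 h)

theorem card_quotient_lt [Finite G] {N : Subgroup G} (h : N ≠ ⊥) :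
    Nat.card (G ⧸ N) < Nat.card G := by
  rw [← index_eq_card, ← N.index_mul_card]
  exact lt_mul_of_one_lt_right (Nat.pos_of_ne_zero index_ne_zero_of_finite)
    (N.one_lt_card_iff_ne_bot.mpr h)

theorem card_map_mul_card_inf_ker {G' : Type*} [Group G'] (f : G →* G') (H : Subgroup G) :
    Nat.card (H.map f) * Nat.card (H ⊓ f.ker : Subgroup G) = Nat.card H := by
  rw [← relIndex_ker, mul_comm, inf_comm, card_inf_mul_relIndex]

theorem card_map_mk (N : Subgroup G) [N.Normal] (H : Subgroup G) :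
    Nat.card (H.map (QuotientGroup.mk' N)) * Nat.card (H ⊓ N : Subgroup G) = Nat.card H := by
  have := card_map_mul_card_inf_ker (QuotientGroup.mk' N) H
  rwa [QuotientGroup.ker_mk'] at this

theorem card_map_mk_eq_relIndex (N : Subgroup G) [N.Normal] (H : Subgroup G) :
    Nat.card (H.map (QuotientGroup.mk' N)) = N.relIndex H := by
  rw [← relIndex_ker, QuotientGroup.ker_mk']

theorem comap_map_mk (N : Subgroup G) [N.Normal] (H : Subgroup G) :
    (H.map (QuotientGroup.mk' N)).comap (QuotientGroup.mk' N) = H ⊔ N := by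
  rw [comap_map_eq, QuotientGroup.ker_mk']

theorem map_comap_mk (N : Subgroup G) [N.Normal] (H : Subgroup (G ⧸ N)) :
    (H.comap (QuotientGroup.mk' N)).map (QuotientGroup.mk' N) = H :=
  map_comap_eq_self_of_surjective (QuotientGroup.mk'_surjective N) H

theorem le_comap_mk (N : Subgroup G) [N.Normal] (H : Subgroup (G ⧸ N)) :
    N ≤ H.comap (QuotientGroup.mk' N) := by
  intro x hx
  rw [mem_comap, QuotientGroup.mk'_apply, (QuotientGroup.eq_one_iff x).2 hx]
  exact one_mem _

theorem map_mk_eq_bot_iff (N : Subgroup G) [N.Normal] {H : Subgroup G} :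
    H.map (QuotientGroup.mk' N) = ⊥ ↔ H ≤ N := by
  rw [Subgroup.map_eq_bot_iff, QuotientGroup.ker_mk']

theorem map_mk_le_map_mk_iff (N : Subgroup G) [N.Normal] {H K : Subgroup G} :
    H.map (QuotientGroup.mk' N) ≤ K.map (QuotientGroup.mk' N) ↔ H ≤ K ⊔ N := by
  rw [map_le_iff_le_comap, comap_map_mk]

theorem card_comap_mk (N : Subgroup G) [N.Normal] (H : Subgroup (G ⧸ N)) :
    Nat.card (H.comap (QuotientGroup.mk' N)) = Nat.card H * Nat.card N := by
  rw [← card_map_mk N, map_comap_mk, inf_of_le_right (le_comap_mk N H)]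

theorem index_comap_mk (N : Subgroup G) [N.Normal] (H : Subgroup (G ⧸ N)) :
    (H.comap (QuotientGroup.mk' N)).index = H.index :=
  index_comap_of_surjective _ (QuotientGroup.mk'_surjective N)

theorem index_map_mk (N : Subgroup G) [N.Normal] (H : Subgroup G) :
    (H.map (QuotientGroup.mk' N)).index = (H ⊔ N).index := by
  rw [← comap_map_mk, index_comap_mk]

theorem eq_of_le_of_card_le [Finite G] {H K : Subgroup G} (h : H ≤ K)
    (hc : Nat.card K ≤ Nat.card H) : H = K := eq_of_le_of_card_ge h hc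

theorem inf_eq_bot_of_coprime' {H K : Subgroup G} (h : (Nat.card H).Coprime (Nat.card K)) :
    H ⊓ K = ⊥ := disjoint_iff.mp (disjoint_of_coprime_natCard h)

/-- a subgroup of order coprime to the index of a normal subgroup lies inside it. -/
theorem le_of_coprime_index {H N : Subgroup G} [N.Normal] (h : (Nat.card H).Coprime N.index) :
    H ≤ N := by
  rw [← relIndex_eq_one]
  exact Nat.eq_one_of_dvd_coprimes h (relIndex_dvd_card N H) (relIndex_dvd_index_of_normal N H)

theorem isComplement'_of_inf_eq_bot_of_sup_eq_top {N H : Subgroup G} [N.Normal]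
    (h1 : N ⊓ H = ⊥) (h2 : N ⊔ H = ⊤) : IsComplement' N H := by
  refine isComplement'_of_disjoint_and_mul_eq_univ (disjoint_iff.2 h1) ?_
  rw [← normal_mul, h2]; rfl

theorem IsComplement'.inf_eq_bot {N H : Subgroup G} (h : IsComplement' N H) : N ⊓ H = ⊥ :=
  disjoint_iff.1 h.disjoint

theorem IsComplement'.card_eq_index {N H : Subgroup G} (h : IsComplement' N H) :
    Nat.card H = N.index := h.symm.index_eq_card.symm

theorem IsComplement'.exists_mul {N H : Subgroup G} (h : IsComplement' N H) (g : G) :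
    ∃ n ∈ N, ∃ a ∈ H, g = n * a := by
  obtain ⟨⟨⟨n, hn⟩, ⟨a, ha⟩⟩, rfl⟩ := h.2 g
  exact ⟨n, hn, a, ha, rfl⟩

/-- Dedekind's modular law, normaliser version. -/
theorem dedekind {A B C : Subgroup G} (hAC : A ≤ C) (h : B ≤ normalizer (A : Set G)) :
    (A ⊔ B) ⊓ C = A ⊔ (B ⊓ C) := by
  apply le_antisymm
  · rintro x ⟨hx, hxC⟩
    obtain ⟨a, ha, b, hb, rfl⟩ := (mem_sup_of_le_normalizer' h).1 hx
    exact mul_mem (mem_sup_left ha) (mem_sup_right ⟨hb, (mul_mem_cancel_left (hAC ha)).1 hxC⟩)
  · exact sup_le (le_inf le_sup_left hAC) (inf_le_inf_right _ le_sup_right)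

/-- Dedekind's modular law, other normaliser version. -/
theorem dedekind' {A B C : Subgroup G} (hAC : A ≤ C) (h : A ≤ normalizer (B : Set G)) :
    (A ⊔ B) ⊓ C = A ⊔ (B ⊓ C) := by
  apply le_antisymm
  · rintro x ⟨hx, hxC⟩
    obtain ⟨a, ha, b, hb, rfl⟩ := (mem_sup_of_le_normalizer h).1 hx
    exact mul_mem (mem_sup_left ha) (mem_sup_right ⟨hb, (mul_mem_cancel_left (hAC ha)).1 hxC⟩)
  · exact sup_le (le_inf le_sup_left hAC) (inf_le_inf_right _ le_sup_right)

/-! ### induction, minimal and maximal subgroups -/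

/-- strong induction on the order of a finite group. -/
theorem card_induction {P : ∀ (G : Type u) [Group G] [Finite G], Prop}
    (h : ∀ (G : Type u) [Group G] [Finite G],
      (∀ (G' : Type u) [Group G'] [Finite G'], Nat.card G' < Nat.card G → P G') → P G)
    (G : Type u) [Group G] [Finite G] : P G := by
  obtain ⟨n, hn⟩ : ∃ n, Nat.card G = n := ⟨_, rfl⟩
  induction n using Nat.strong_induction_on generalizing G with
  | _ n ih => exact h G fun G' _ _ hlt => ih _ (hn ▸ hlt) G' rfl

/-- version for `induction G, ‹Group G›, ‹Finite G› using card_induction' with | h G ih => ..` -/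
theorem card_induction' {P : ∀ (G : Type u) (_ : Group G) (_ : Finite G), Prop}
    (h : ∀ (G : Type u) [i1 : Group G] [i2 : Finite G],
      (∀ (G' : Type u) [j1 : Group G'] [j2 : Finite G'], Nat.card G' < Nat.card G → P G' j1 j2) →
        P G i1 i2)
    (G : Type u) (i1 : Group G) (i2 : Finite G) : P G i1 i2 :=
  card_induction (P := fun G i1 i2 => P G i1 i2) h G

theorem exists_minimal_le [Finite G] {P : Subgroup G → Prop} {N : Subgroup G} (h : P N) :
    ∃ M ≤ N, P M ∧ ∀ K, P K → K ≤ M → K = M := by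
  obtain ⟨M, hM, hmin⟩ := (wellFounded_lt (α := Subgroup G)).has_min {M | M ≤ N ∧ P M} ⟨N, le_rfl, h⟩
  refine ⟨M, hM.1, hM.2, fun K hK hKM => ?_⟩
  by_contra hne
  exact hmin K ⟨hKM.trans hM.1, hK⟩ (lt_of_le_of_ne hKM hne)

theorem exists_maximal_ge [Finite G] {P : Subgroup G → Prop} {N : Subgroup G} (h : P N) :
    ∃ M, N ≤ M ∧ P M ∧ ∀ K, P K → M ≤ K → K = M := by
  obtain ⟨M, hM, hmin⟩ := (wellFounded_gt (α := Subgroup G)).has_min {M | N ≤ M ∧ P M} ⟨N, le_rfl, h⟩
  refine ⟨M, hM.1, hM.2, fun K hK hKM => ?_⟩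
  by_contra hne
  exact hmin K ⟨hM.1.trans hKM, hK⟩ (lt_of_le_of_ne hKM (Ne.symm hne))

/-- every nontrivial normal subgroup contains a minimal normal subgroup of `G`. -/
theorem exists_minimal_normal_le [Finite G] (N : Subgroup G) [hN : N.Normal] (h : N ≠ ⊥) :
    ∃ M ≤ N, M.Normal ∧ M ≠ ⊥ ∧ ∀ K : Subgroup G, K.Normal → K ≤ M → K = ⊥ ∨ K = M := by
  obtain ⟨M, h1, h2, h3⟩ := exists_minimal_le (P := fun M => M.Normal ∧ M ≠ ⊥) ⟨hN, h⟩
  refine ⟨M, h1, h2.1, h2.2, fun K hK hKM => ?_⟩
  by_cases hb : K = ⊥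
  · exact Or.inl hb
  · exact Or.inr (h3 K ⟨hK, hb⟩ hKM)

theorem exists_coatom_ge [Finite G] {H : Subgroup G} (h : H ≠ ⊤) : ∃ M, IsCoatom M ∧ H ≤ M :=
  (eq_top_or_exists_le_coatom H).resolve_left h

theorem top_ne_bot_iff : (⊤ : Subgroup G) ≠ ⊥ ↔ Nontrivial G := by
  rw [← Subgroup.nontrivial_iff_ne_bot]
  exact (Subgroup.topEquiv (G := G)).toEquiv.nontrivial_congr

theorem exists_ne_one_of_ne_bot {H : Subgroup G} (h : H ≠ ⊥) : ∃ x ∈ H, x ≠ 1 := by
  by_contra hc
  push Not at hc
  exact h ((eq_bot_iff_forall H).2 hc)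

theorem exists_prime_dvd_card [Finite G] {H : Subgroup G} (h : H ≠ ⊥) :
    ∃ p : ℕ, p.Prime ∧ p ∣ Nat.card H :=
  Nat.exists_prime_and_dvd (fun h1 => h (card_eq_one.1 h1))

/-! ### solvability of subgroups -/

theorem isSolvable_of_le {H K : Subgroup G} (h : H ≤ K) (hK : Group.IsSolvable K) :
    Group.IsSolvable H :=
  Group.isSolvable_of_isSolvable_injective (inclusion_injective h)

theorem isSolvable_map {G' : Type*} [Group G'] (f : G →* G') {H : Subgroup G}
    (hH : Group.IsSolvable H) : Group.IsSolvable (H.map f) :=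
  Group.isSolvable_of_surjective (f.subgroupMap_surjective H)

theorem isSolvable_of_mulEquiv {G' : Type*} [Group G'] (e : G ≃* G') (h : Group.IsSolvable G) :
    Group.IsSolvable G' :=
  Group.isSolvable_of_surjective (f := e.toMonoidHom) e.surjective

theorem isSolvable_subgroupOf {H : Subgroup G} (hH : Group.IsSolvable H) (K : Subgroup G) :
    Group.IsSolvable (H.subgroupOf K) := by
  rw [← inf_subgroupOf_right]
  exact isSolvable_of_mulEquiv (subgroupOfEquivOfLe inf_le_right).symm
    (isSolvable_of_le inf_le_left hH)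

theorem isSolvable_of_normal_of_quotient (N : Subgroup G) [N.Normal] (h1 : Group.IsSolvable N)
    (h2 : Group.IsSolvable (G ⧸ N)) : Group.IsSolvable G :=
  (Group.isSolvable_iff_subgroup_quotient N).2 ⟨h1, h2⟩

theorem isSolvable_top_iff : Group.IsSolvable (⊤ : Subgroup G) ↔ Group.IsSolvable G :=
  ⟨isSolvable_of_mulEquiv topEquiv, isSolvable_of_mulEquiv topEquiv.symm⟩

theorem isSolvable_comap_mk (N : Subgroup G) [N.Normal] (hN : Group.IsSolvable N)
    {H : Subgroup (G ⧸ N)} (hH : Group.IsSolvable H) :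
    Group.IsSolvable (H.comap (QuotientGroup.mk' N)) := by
  refine Group.isSolvable_of_ker_le_range (inclusion (le_comap_mk N H))
    ((QuotientGroup.mk' N).subgroupComap H) ?_
  rintro ⟨x, hx⟩ h
  have : x ∈ N := by
    have := congrArg Subtype.val (MonoidHom.mem_ker.1 h)
    exact (QuotientGroup.eq_one_iff x).1 this
  exact ⟨⟨x, this⟩, rfl⟩

theorem isSolvable_sup {H N : Subgroup G} (h : H ≤ normalizer (N : Set G))
    (hH : Group.IsSolvable H) (hN : Group.IsSolvable N) :
    Group.IsSolvable (H ⊔ N : Subgroup G) := by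
  have hn : (N.subgroupOf (H ⊔ N)).Normal :=
    (normal_subgroupOf_iff_le_normalizer le_sup_right).2 (sup_le h le_normalizer)
  refine isSolvable_of_normal_of_quotient (N.subgroupOf (H ⊔ N)) (isSolvable_subgroupOf hN _) ?_
  have := isSolvable_map (QuotientGroup.mk' (N.subgroupOf (H ⊔ N))) (isSolvable_subgroupOf hH (H ⊔ N))
  have h2 : (H.subgroupOf (H ⊔ N)).map (QuotientGroup.mk' (N.subgroupOf (H ⊔ N))) = ⊤ := by
    rw [eq_top_iff, ← map_comap_mk (N.subgroupOf (H ⊔ N)) ⊤, map_mk_le_map_mk_iff,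
      ← subgroupOf_sup le_sup_left le_sup_right, subgroupOf_self]
    exact le_top
  rw [h2] at this
  exact isSolvable_top_iff.1 this

theorem isNilpotent_of_le {H K : Subgroup G} (h : H ≤ K) (hK : Group.IsNilpotent K) :
    Group.IsNilpotent H :=
  Group.nilpotent_of_mulEquiv (subgroupOfEquivOfLe h)

theorem isNilpotent_map {G' : Type*} [Group G'] (f : G →* G') {H : Subgroup G}
    (hH : Group.IsNilpotent H) : Group.IsNilpotent (H.map f) :=
  Group.nilpotent_of_surjective _ (f.subgroupMap_surjective H)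

theorem isNilpotent_subgroupOf {H : Subgroup G} (hH : Group.IsNilpotent H) (K : Subgroup G) :
    Group.IsNilpotent (H.subgroupOf K) := by
  rw [← inf_subgroupOf_right]
  have := isNilpotent_of_le (inf_le_left : H ⊓ K ≤ H) hH
  exact Group.nilpotent_of_mulEquiv (subgroupOfEquivOfLe inf_le_right).symm

theorem isMulCommutative_iff {H : Subgroup G} :
    IsMulCommutative H ↔ ∀ a ∈ H, ∀ b ∈ H, a * b = b * a :=
  ⟨fun h a ha b hb => congrArg Subtype.val (h.1.1 ⟨a, ha⟩ ⟨b, hb⟩),
    fun h => ⟨⟨fun a b => Subtype.ext (h a a.2 b b.2)⟩⟩⟩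

theorem isMulCommutative_of_le {H K : Subgroup G} (h : H ≤ K) (hK : IsMulCommutative K) :
    IsMulCommutative H :=
  isMulCommutative_iff.2 fun a ha b hb => isMulCommutative_iff.1 hK a (h ha) b (h hb)

theorem isSolvable_of_isMulCommutative {H : Subgroup G} (h : IsMulCommutative H) :
    Group.IsSolvable H := Group.isSolvable_of_comm h.1.1

theorem isNilpotent_of_isMulCommutative {H : Subgroup G} (h : IsMulCommutative H) :
    Group.IsNilpotent H := by
  let _ : CommGroup H := { (inferInstance : Group H) with mul_comm := h.1.1 }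
  infer_instance

/-- a minimal normal subgroup which is solvable is elementary abelian. -/
theorem minimal_normal_elementary [Finite G] (N : Subgroup G) [N.Normal] (hs : Group.IsSolvable N)
    (hN : N ≠ ⊥) (hmin : ∀ M : Subgroup G, M.Normal → M ≤ N → M = ⊥ ∨ M = N) :
    IsMulCommutative N ∧ ∃ p : ℕ, p.Prime ∧ ∀ x ∈ N, x ^ p = 1 := by
  have hc : IsMulCommutative N := by
    rw [← commutator_self_eq_bot_iff]
    refine (hmin _ inferInstance (commutator_le_self N)).resolve_right ?_
    have : Nontrivial N := (nontrivial_iff_ne_bot N).2 hN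
    have h1 := Group.IsSolvable.commutator_lt_top_of_nontrivial N
    intro h2
    rw [← map_subtype_commutator] at h2
    apply h1.ne
    apply map_injective N.subtype_injective
    rw [h2, ← MonoidHom.range_eq_map, range_subtype]
  refine ⟨hc, ?_⟩
  obtain ⟨p, hp, hpd⟩ := exists_prime_dvd_card hN
  have := Fact.mk hp
  obtain ⟨x, hx⟩ := exists_prime_orderOf_dvd_card' p hpd
  have hcomm := isMulCommutative_iff.1 hc
  let M : Subgroup G :=
    { carrier := {y | y ∈ N ∧ y ^ p = 1}
      mul_mem' := by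
        rintro a b ⟨ha, ha'⟩ ⟨hb, hb'⟩
        exact ⟨mul_mem ha hb, by rw [Commute.mul_pow (hcomm a ha b hb), ha', hb', one_mul]⟩
      one_mem' := ⟨one_mem _, one_pow _⟩
      inv_mem' := by
        rintro a ⟨ha, ha'⟩
        exact ⟨inv_mem ha, by rw [inv_pow, ha', inv_one]⟩ }
  have hM : M.Normal := ⟨by
    rintro a ⟨ha, ha'⟩ g
    exact ⟨Subgroup.Normal.conj_mem inferInstance a ha g, by rw [conj_pow, ha']; simp⟩⟩
  rcases hmin M hM (fun y hy => hy.1) with h | h
  · exfalso
    have : (x : G) ∈ M := ⟨x.2, by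
      have := pow_orderOf_eq_one x
      rw [hx] at this
      exact congrArg Subtype.val this⟩
    rw [h, mem_bot] at this
    have h2 : x = 1 := Subtype.ext this
    rw [h2, orderOf_one] at hx
    exact hp.one_lt.ne hx
  · refine ⟨p, hp, fun y hy => ?_⟩
    have : y ∈ M := h ▸ hy
    exact this.2

theorem isPGroup_of_pow_eq_one {p : ℕ} {H : Subgroup G} (h : ∀ x ∈ H, x ^ p = 1) :
    IsPGroup p H := fun x => ⟨1, Subtype.ext (by simpa using h x x.2)⟩

theorem isPGroup_iff_forall_mem {p : ℕ} {H : Subgroup G} :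
    IsPGroup p H ↔ ∀ x ∈ H, ∃ k : ℕ, x ^ p ^ k = 1 :=
  ⟨fun h x hx => (h ⟨x, hx⟩).imp fun _ hk => congrArg Subtype.val hk,
    fun h x => (h x x.2).imp fun _ hk => Subtype.ext hk⟩

/-- a nontrivial solvable normal subgroup contains a nontrivial elementary abelian normal
subgroup of `G` (a minimal normal subgroup). -/
theorem exists_elementary_normal_le [Finite G] (N : Subgroup G) [N.Normal]
    (hs : Group.IsSolvable N) (hN : N ≠ ⊥) :
    ∃ M ≤ N, M.Normal ∧ M ≠ ⊥ ∧ (∀ K : Subgroup G, K.Normal → K ≤ M → K = ⊥ ∨ K = M) ∧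
      IsMulCommutative M ∧ ∃ p : ℕ, p.Prime ∧ ∀ x ∈ M, x ^ p = 1 := by
  obtain ⟨M, h1, h2, h3, h4⟩ := exists_minimal_normal_le N hN
  exact ⟨M, h1, h2, h3, h4, minimal_normal_elementary M (isSolvable_of_le h1 hs) h3 h4⟩

end Cfsg.Agent.Solv
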