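import Cfsg.Agent.Lib.Solv.Frob2
import Cfsg.Agent.Lib.Char.Frob

/-! Frobenius groups: consequences of Frobenius' theorem. -/

set_option autoImplicit false
open Pointwise Subgroup commutatorElement

namespace Cfsg.Agent.Solv

variable {G : Type*} [Group G] [Finite G]

/-- Frobenius' theorem in working form. -/
theorem exists_frobenius_kernel {H : Subgroup G} (hH : IsFrobeniusComplement H) :
    ∃ K : Subgroup G, (K : Set G) = frobeniusKernel H ∧ K.Normal ∧ K.IsComplement' H ∧ K ≠ ⊥ ∧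
      ∀ h ∈ H, h ≠ 1 → K ⊓ centralizer {h} = ⊥ := by
  obtain ⟨K, h1, h2, h3⟩ := Char.frobenius_kernel H hH
  exact ⟨K, h1, h2, h3, fun h => hH.2.1 (by simpa [h] using h3.sup_eq_top),
    frob_fpf hH (IsComplement'.inf_eq_bot h3)⟩

theorem exists_mem_conj_of_notMem_kernel {K H : Subgroup G} [K.Normal] (hc : K ⊔ H = ⊤)
    (hf : ∀ h ∈ H, h ≠ 1 → K ⊓ centralizer {h} = ⊥) {x : G} (hx : x ∉ K) :
    ∃ k ∈ K, k⁻¹ * x * k ∈ H := by
  have hn : H ≤ normalizer (K : Set G) := le_normalizer_of_normal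
  obtain ⟨k, hk, y, hy, rfl⟩ := (mem_sup_of_le_normalizer' hn).1 (hc ▸ mem_top x)
  obtain ⟨u, hu, h⟩ := exists_conj_eq_mul_of_fpf (hn hy) (hf y hy fun e => hx (by simpa [e] using hk)) hk
  exact ⟨u, hu, by simpa [← h, mul_assoc] using hy⟩

/-- normal subgroups of a Frobenius group are comparable with the kernel. -/
theorem le_or_le_of_fpf {K H : Subgroup G} [K.Normal] (hc : K ⊔ H = ⊤)
    (hf : ∀ h ∈ H, h ≠ 1 → K ⊓ centralizer {h} = ⊥) (N : Subgroup G) [hN : N.Normal] :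
    N ≤ K ∨ K ≤ N := by
  by_cases h : N ≤ K
  · exact .inl h
  obtain ⟨x, hx, hxK⟩ := SetLike.not_le_iff_exists.1 h
  obtain ⟨u, hu, h1⟩ := exists_mem_conj_of_notMem_kernel hc hf hxK
  refine .inr fun k hk => ?_
  have h2 : u⁻¹ * x * u ∈ N := hN.conj_mem' x hx u
  obtain ⟨v, -, h3⟩ := exists_conj_eq_mul_of_fpf (le_normalizer_of_normal (mem_top _))
    (hf _ h1 fun e => hxK (by
      have : x = u * (u⁻¹ * x * u) * u⁻¹ := by group
      rw [this, e]; simp)) hk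
  exact (mul_mem_cancel_right h2).1 (h3 ▸ hN.conj_mem _ h2 v)

/-- the centraliser of a nonidentity element of the kernel lies in the kernel. -/
theorem centralizer_le_kernel {K H : Subgroup G} [hK : K.Normal] (hc : K ⊔ H = ⊤)
    (hf : ∀ h ∈ H, h ≠ 1 → K ⊓ centralizer {h} = ⊥) {k : G} (hk : k ∈ K) (h1 : k ≠ 1) :
    centralizer ({k} : Set G) ≤ K := by
  intro x hx
  by_contra hxK
  obtain ⟨u, hu, h2⟩ := exists_mem_conj_of_notMem_kernel hc hf hxK
  have h3 := eq_one_of_fpf (hf _ h2 fun e => hxK (by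
      have : x = u * (u⁻¹ * x * u) * u⁻¹ := by group
      rw [this, e]; simp)) (hK.conj_mem' k hk u) (by
    calc u⁻¹ * x * u * (u⁻¹ * k * u) = u⁻¹ * (x * k) * u := by group
      _ = _ := by rw [← mem_centralizer_singleton.1 hx]; group)
  apply h1
  calc k = u * (u⁻¹ * k * u) * u⁻¹ := by group
    _ = 1 := by rw [h3]; simp

theorem frob_exists_central {H : Subgroup G} (hH : IsFrobeniusComplement H) :
    ∃ x ∈ H, (orderOf x).Prime ∧ ∀ h ∈ H, h * x = x * h := by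
  obtain ⟨K, -, _, -, h1, h2⟩ := exists_frobenius_kernel hH
  exact exists_central_of_fpf le_normalizer_of_normal h2 h1 hH.1

omit [Finite G] in
theorem ne_one_of_orderOf_prime {x : G} (h : (orderOf x).Prime) : x ≠ 1 := fun e => by
  rw [e, orderOf_one] at h; exact Nat.not_prime_one h

theorem frob_eq_of_le {H H₀ : Subgroup G} (hH : IsFrobeniusComplement H)
    (hH₀ : IsFrobeniusComplement H₀) (h : H₀ ≤ H) : H₀ = H := by
  obtain ⟨w, hw, hp, hc⟩ := frob_exists_central hH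
  obtain ⟨y, hy, hy1⟩ := exists_ne_one_of_ne_bot hH₀.1
  have h1 : w ∈ H₀ := frob_centralizer_le hH₀ hy hy1 (mem_centralizer_singleton.2 (hc y (h hy)))
  exact le_antisymm h fun g hg => frob_centralizer_le hH₀ h1 (ne_one_of_orderOf_prime hp)
    (mem_centralizer_singleton.2 (hc g hg).symm)

theorem frob_conj_of_frob {H H₀ : Subgroup G} (hH : IsFrobeniusComplement H)
    (hH₀ : IsFrobeniusComplement H₀) : ∃ g : G, MulAut.conj g • H₀ = H := by
  obtain ⟨K, -, _, hc, -, hf⟩ := exists_frobenius_kernel hH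
  obtain ⟨K₀, -, _, hc₀, -, hf₀⟩ := exists_frobenius_kernel hH₀
  have key : ∀ {H H₀ K K₀ : Subgroup G} [K.Normal], IsFrobeniusComplement H →
      IsFrobeniusComplement H₀ → K ⊔ H = ⊤ → (∀ h ∈ H, h ≠ 1 → K ⊓ centralizer {h} = ⊥) →
      K₀ ⊓ H₀ = ⊥ → K ≤ K₀ → ∃ g : G, H₀ = MulAut.conj g • H := by
    intro H H₀ K K₀ _ hH hH₀ hc hf hd hle
    obtain ⟨z, hz, hp, hzc⟩ := frob_exists_central hH₀
    have hz1 := ne_one_of_orderOf_prime hp
    obtain ⟨k, -, hk⟩ := exists_mem_conj_of_notMem_kernel hc hf (x := z) fun h =>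
      hz1 (mem_bot.1 (hd ▸ mem_inf.2 ⟨hle h, hz⟩))
    exact ⟨k, frob_eq_of_le (frob_conj hH k) hH₀ fun g hg => frob_centralizer_le (frob_conj hH k)
      (mem_conj_smul.2 hk) hz1 (mem_centralizer_singleton.2 (hzc g hg).symm)⟩
  rcases le_or_le_of_fpf hc.sup_eq_top hf K₀ with h | h
  · obtain ⟨g, hg⟩ := key hH₀ hH hc₀.sup_eq_top hf₀ (IsComplement'.inf_eq_bot hc) h
    exact ⟨g, hg.symm⟩
  · obtain ⟨g, hg⟩ := key hH hH₀ hc.sup_eq_top hf (IsComplement'.inf_eq_bot hc₀) h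
    exact ⟨g⁻¹, by rw [hg, conj_smul_conj_smul, inv_mul_cancel, map_one, one_smul]⟩

end Cfsg.Agent.Solv
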