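import Cfsg.Agent.Lib.Solv.Super
import Cfsg.Agent.Lib.Solv.Frob3
import Cfsg.Agent.Lib.Transfer.NPC
import Cfsg.Agent.Lib.Transfer.Hol
import Cfsg.Agent.Lib.Transfer.Hall

/-! Minimal non-nilpotent groups and Thompson's theorem on Frobenius kernels. -/

set_option autoImplicit false
open Pointwise Subgroup commutatorElement

namespace Cfsg.Agent.Solv

universe u
variable {G : Type*} [Group G]

theorem centralizer_anti {H K : Subgroup G} (h : H ≤ K) :
    centralizer (K : Set G) ≤ centralizer (H : Set G) := centralizer_le (SetLike.coe_subset_coe.2 h)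

theorem normal_of_le_center {C : Subgroup G} (h : C ≤ center G) : C.Normal :=
  ⟨fun n hn g => by rwa [mem_center_iff.1 (h hn) g, mul_inv_cancel_right]⟩

theorem le_normalizer_of_normal' {H N : Subgroup G} [hN : N.Normal] : H ≤ normalizer (N : Set G) :=
  le_top.trans (normal_iff_top_le_normalizer.1 hN)

theorem IsSylowIn.toSyl {p : ℕ} {P K : Subgroup G} (h : IsSylowIn p P K) : Transfer.IsSyl p P K :=
  ⟨h.1, h.2, h.3⟩

theorem isSylowIn_of_syl {p : ℕ} {P K : Subgroup G} (h : Transfer.IsSyl p P K) : IsSylowIn p P K :=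
  ⟨h.1, h.2, h.3⟩

theorem isNilpotent_of_subgroupOf {K S : Subgroup G} (h : K ≤ S)
    (h1 : Group.IsNilpotent (K.subgroupOf S)) : Group.IsNilpotent K :=
  Group.nilpotent_of_mulEquiv (subgroupOfEquivOfLe h)

theorem isSolvable_of_subgroupOf {K S : Subgroup G} (h : K ≤ S)
    (h1 : Group.IsSolvable (K.subgroupOf S)) : Group.IsSolvable K :=
  isSolvable_of_mulEquiv (subgroupOfEquivOfLe h) h1

theorem isNilpotent_top_iff : Group.IsNilpotent (⊤ : Subgroup G) ↔ Group.IsNilpotent G :=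
  ⟨fun _ => Group.nilpotent_of_mulEquiv topEquiv, fun _ => inferInstance⟩

theorem subgroupOf_le_normalizer {A K S : Subgroup G} (h : A ≤ normalizer (K : Set G)) :
    A.subgroupOf S ≤ normalizer (K.subgroupOf S : Set S) := fun a ha =>
  mem_normalizer_iff.2 fun k => (mem_normalizer_iff.1 (h ha) k)

theorem subgroupOf_ne_bot {H S : Subgroup G} (h : H ≤ S) (h0 : H ≠ ⊥) : H.subgroupOf S ≠ ⊥ :=
  fun e => h0 (by rw [← subgroupOf_map_subtype_of_le h, e, Subgroup.map_bot])

theorem commute_of_nilpotent_of_coprime [Finite G] {H : Subgroup G} (hH : Group.IsNilpotent H) {x y : G}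
    (hx : x ∈ H) (hy : y ∈ H) (h : (orderOf x).Coprime (orderOf y)) : Commute x y :=
  congrArg Subtype.val (Transfer.commute_of_coprime_of_nilpotent (G := H) (x := ⟨x, hx⟩) (y := ⟨y, hy⟩)
    (by simpa using h))

theorem le_centralizer_of_nilpotent_of_coprime [Finite G] {H A B : Subgroup G}
    (hH : Group.IsNilpotent H) (hA : A ≤ H) (hB : B ≤ H) (h : (Nat.card A).Coprime (Nat.card B)) :
    A ≤ centralizer (B : Set G) := fun _ ha => mem_centralizer_iff.2 fun _ hb =>
  (commute_of_nilpotent_of_coprime hH (hB hb) (hA ha) ((h.symm.coprime_dvd_left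
    (orderOf_dvd_card_of_mem hb)).coprime_dvd_right (orderOf_dvd_card_of_mem ha))).eq

theorem coprime_card_of_isPGroup_ne [Finite G] {p q : ℕ} [Fact p.Prime] [Fact q.Prime] (h : p ≠ q)
    {P Q : Subgroup G} (hP : IsPGroup p P) (hQ : IsPGroup q Q) : (Nat.card P).Coprime (Nat.card Q) :=
  IsPGroup.coprime_card_of_ne p q h P Q hP hQ

theorem isNilpotent_of_forall_hasNPC [Finite G]
    (h : ∀ p : ℕ, p.Prime → HasNormalPComplement p G) : Group.IsNilpotent G := by
  refine isNilpotent_of_forall_sylow fun q hq _ => ?_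
  have := Fact.mk hq
  obtain ⟨Q⟩ : Nonempty (Sylow q G) := inferInstance
  obtain ⟨K, hKe⟩ : ∃ K : Subgroup G, K = ⨅ p : {p : ℕ // p.Prime ∧ p ≠ q}, pResidual p G := ⟨_, rfl⟩
  have hK : K.Normal := hKe ▸ normal_iInf_normal fun p => Transfer.instNormalPResidual
  have h1 : IsPGroup q K := isPGroup_of_forall_prime_dvd fun r hr hd => by_contra fun e => by
    have := Fact.mk hr
    have h3 : K ≤ pResidual r G := by
      rw [hKe]; exact iInf_le (fun p : {p : ℕ // p.Prime ∧ p ≠ q} => pResidual p G) ⟨r, hr, e⟩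
    exact Transfer.hasNPC_iff_not_dvd.1 (h r hr) (hd.trans (card_dvd_of_le h3))
  have h2 : (Q : Subgroup G) ≤ K := hKe ▸ le_iInf fun p x hx => by
    have := Fact.mk p.2.1
    refine Transfer.mem_pResidual_of_coprime (Nat.Coprime.coprime_dvd_left (orderOf_dvd_card_of_mem hx) ?_)
    exact coprime_card_of_isPGroup Q.2 fun e => p.2.2 ((Nat.prime_dvd_prime_iff_eq hq p.2.1).1 e).symm
  exact ⟨Q, Q.3 h1 h2 ▸ hK⟩

theorem isPGroup_zpowers_of_mem {p : ℕ} {P : Subgroup G} (hP : IsPGroup p P) {g : G} (hg : g ∈ P) :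
    IsPGroup p (zpowers g) := hP.to_le (zpowers_le.2 hg)

theorem exists_prime_pow_notMem [Finite G] {g : G} {C : Subgroup G} (h : g ∉ C) :
    ∃ p : ℕ, p.Prime ∧ p ∣ orderOf g ∧ ∃ x ∈ zpowers g, IsPGroup p (zpowers x) ∧ x ∉ C := by
  by_contra hc
  push Not at hc
  refine h (zpowers_le.1 (le_of_forall_isSylowIn fun p hp hd => ?_))
  have := Fact.mk hp
  obtain ⟨P, hP⟩ := exists_isSylowIn p (zpowers g)
  exact ⟨P, hP, fun x hx => hc p hp (Nat.card_zpowers g ▸ hd) x (hP.1 hx) (isPGroup_zpowers_of_mem hP.2 hx)⟩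

theorem exists_pair_of_not_hasNPC [Finite G] {q : ℕ} [hq : Fact q.Prime] (h : ¬ HasNormalPComplement q G) :
    ∃ p : ℕ, p.Prime ∧ p ≠ q ∧ ∃ (Q : Subgroup G) (g : G), IsPGroup q Q ∧ IsPGroup p (zpowers g) ∧
      g ∈ normalizer (Q : Set G) ∧ g ∉ centralizer (Q : Set G) := by
  obtain ⟨Q⟩ : Nonempty (Sylow q G) := inferInstance
  by_contra hc
  push Not at hc
  refine h (Transfer.hasNPC_of_res_normalizer_le Q fun B hB _ => Transfer.res_le_iff.2 fun g hg h1 => ?_)
  by_contra h2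
  obtain ⟨p, hp, h3, x, hx, h4, h5⟩ := exists_prime_pow_notMem h2
  exact h5 (hc p hp (fun e => hq.out.coprime_iff_not_dvd.1 h1.symm (e ▸ h3)) B x (Q.2.to_le hB) h4
    (zpowers_le.2 hg hx))

theorem exists_pair_of_not_nilpotent [Finite G] (h : ¬ Group.IsNilpotent G) :
    ∃ p q : ℕ, p.Prime ∧ q.Prime ∧ p ≠ q ∧ ∃ (Q : Subgroup G) (g : G), IsPGroup q Q ∧
      IsPGroup p (zpowers g) ∧ g ∈ normalizer (Q : Set G) ∧ g ∉ centralizer (Q : Set G) := by
  obtain ⟨q, hq, h1⟩ : ∃ q : ℕ, q.Prime ∧ ¬ HasNormalPComplement q G := by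
    by_contra hc
    push Not at hc
    exact h (isNilpotent_of_forall_hasNPC hc)
  have := Fact.mk hq
  obtain ⟨p, hp, h2, h3⟩ := exists_pair_of_not_hasNPC h1
  exact ⟨p, q, hp, hq, h2, h3⟩

theorem isSylowIn_of_sup_eq [Finite G] {p q : ℕ} [hp : Fact p.Prime] [hq : Fact q.Prime] (h : p ≠ q)
    {P Q S : Subgroup G} (hP : IsPGroup p P) (hQ : IsPGroup q Q) (hn : P ≤ normalizer (Q : Set G))
    (hS : P ⊔ Q = S) : IsSylowIn p P S ∧ IsSylowIn q Q S := by
  have h1 := card_sup_of_disjoint hn (inf_eq_bot_of_coprime' (coprime_card_of_isPGroup_ne h hP hQ))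
  have h2 := card_mul_relIndex (le_sup_left : P ≤ P ⊔ Q)
  have h3 := card_mul_relIndex (le_sup_right : Q ≤ P ⊔ Q)
  rw [h1] at h2 h3
  rw [mul_comm (Nat.card P)] at h3
  subst hS
  refine ⟨⟨le_sup_left, hP, ?_⟩, ⟨le_sup_right, hQ, ?_⟩⟩
  · rw [Nat.eq_of_mul_eq_mul_left Nat.card_pos h2]
    exact fun e => h (eq_of_isPGroup_of_dvd hQ hp.out e)
  · rw [Nat.eq_of_mul_eq_mul_left Nat.card_pos h3]
    exact fun e => h (eq_of_isPGroup_of_dvd hP hq.out e).symm

/-- structure of a minimal non-nilpotent group. -/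
theorem schmidt [Finite G] (h : ¬ Group.IsNilpotent G)
    (h1 : ∀ H : Subgroup G, H ≠ ⊤ → Group.IsNilpotent H) :
    ∃ p q : ℕ, p.Prime ∧ q.Prime ∧ p ≠ q ∧ ∃ (Q : Subgroup G) (g : G), IsSylowIn q Q ⊤ ∧
      IsSylowIn p (zpowers g) ⊤ ∧ Q.Normal ∧ g ∉ centralizer (Q : Set G) ∧ zpowers g ⊔ Q = ⊤ := by
  obtain ⟨p, q, hp, hq, h2, Q, g, h3, h4, h5, h6⟩ := exists_pair_of_not_nilpotent h
  have := Fact.mk hp
  have := Fact.mk hq
  have h7 : zpowers g ⊔ Q = ⊤ := by_contra fun e => h6 (le_centralizer_of_nilpotent_of_coprime (h1 _ e)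
    le_sup_left le_sup_right (coprime_card_of_isPGroup_ne h2 h4 h3) (mem_zpowers g))
  obtain ⟨h8, h9⟩ := isSylowIn_of_sup_eq h2 h4 h3 (zpowers_le.2 h5) h7
  exact ⟨p, q, hp, hq, h2, Q, g, h9, h8,
    normal_iff_top_le_normalizer.2 (h7 ▸ sup_le (zpowers_le.2 h5) le_normalizer), h6, h7⟩

theorem isSolvable_of_forall_nilpotent [Finite G]
    (h1 : ∀ H : Subgroup G, H ≠ ⊤ → Group.IsNilpotent H) : Group.IsSolvable G := by
  by_cases h : Group.IsNilpotent G
  · infer_instance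
  obtain ⟨p, q, hp, hq, -, Q, g, h3, -, h4, -, h5⟩ := schmidt h h1
  have := Fact.mk hq
  have := h3.2.isNilpotent
  rw [← isSolvable_top_iff, ← h5]
  exact isSolvable_sup le_normalizer_of_normal' (isSolvable_zpowers g) inferInstance

theorem fpf_subgroupOf {K H : Subgroup G} (S : Subgroup G)
    (hf : ∀ h ∈ H, h ≠ 1 → K ⊓ centralizer {h} = ⊥) :
    ∀ h ∈ H.subgroupOf S, h ≠ 1 → K.subgroupOf S ⊓ centralizer {h} = ⊥ := fun h hh h1 =>
  fpf_iff.2 fun k hk e => Subtype.ext (fpf_iff.1 (hf h hh fun e => h1 (Subtype.ext e)) k hk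
    (congrArg Subtype.val e))

theorem centralizer_zpowers (h : G) : centralizer (zpowers h : Set G) = centralizer {h} := by
  rw [zpowers_eq_closure, centralizer_closure]

theorem fpf_map_mk [Finite G] {K H N : Subgroup G} [N.Normal] (hN : N ≤ K)
    (hf : ∀ h ∈ H, h ≠ 1 → K ⊓ centralizer {h} = ⊥) :
    ∀ h ∈ H.map (QuotientGroup.mk' N), h ≠ 1 → K.map (QuotientGroup.mk' N) ⊓ centralizer {h} = ⊥ := by
  rintro _ ⟨h, hh, rfl⟩ h1
  have h2 := coprime_map_mk_inf_centralizer (A := zpowers h) hN ((coprime_of_fpf le_normalizer_of_normal'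
    (fpf_mono hN le_rfl hf)).coprime_dvd_left (card_dvd_of_le (zpowers_le.2 hh)))
    (Or.inl (isSolvable_zpowers h))
  rw [MonoidHom.map_zpowers, centralizer_zpowers, centralizer_zpowers,
    hf h hh (fun e => h1 (by rw [e, map_one])), Subgroup.map_bot] at h2
  exact h2.symm

theorem thompson_fpf_aux (G : Type u) [Group G] [Finite G] : ∀ K H : Subgroup G,
    H ≤ normalizer (K : Set G) → Group.IsSolvable H → H ≠ ⊥ →
    (∀ h ∈ H, h ≠ 1 → K ⊓ centralizer {h} = ⊥) → Group.IsNilpotent K := by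
  refine card_induction (P := fun G _ _ => ∀ K H : Subgroup G,
    H ≤ normalizer (K : Set G) → Group.IsSolvable H → H ≠ ⊥ →
    (∀ h ∈ H, h ≠ 1 → K ⊓ centralizer {h} = ⊥) → Group.IsNilpotent K) (fun G _ _ ih K H hn hs h0 hf => ?_) G
  have sub : ∀ L ≤ K, H ≤ normalizer (L : Set G) → L ⊔ H ≠ ⊤ → Group.IsNilpotent L :=
    fun L h1 h2 h3 => isNilpotent_of_subgroupOf le_sup_left (ih _ (card_lt_of_ne_top h3) _ _
      (subgroupOf_le_normalizer h2) (isSolvable_subgroupOf hs _) (subgroupOf_ne_bot le_sup_right h0)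
      (fpf_subgroupOf _ (fpf_mono h1 le_rfl hf)))
  by_cases ht : K ⊔ H = ⊤
  swap
  · exact sub K le_rfl hn ht
  have sub' : ∀ L ≤ K, H ≤ normalizer (L : Set G) → L ≠ K → Group.IsNilpotent L :=
    fun L h1 h2 h3 => sub L h1 h2 fun e => h3 (by
      have := dedekind h1 h2
      rwa [e, top_inf_eq, inf_comm, inf_eq_bot_of_fpf hf, sup_bot_eq, eq_comm] at this)
  have hK : K.Normal := normal_iff_top_le_normalizer.2 (ht ▸ sup_le le_normalizer hn)
  have hc := coprime_of_fpf hn hf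
  have main : ∀ (p : ℕ) [Fact p.Prime] (N : Subgroup G) [N.Normal], N ≤ K → N ≠ ⊥ → IsPGroup p N →
      Group.IsNilpotent K := by
    intro p _ N _ h1 h2 h3
    have h4 := ih _ (card_quotient_lt h2) (K.map (QuotientGroup.mk' N)) (H.map (QuotientGroup.mk' N))
      le_normalizer_of_normal' (isSolvable_map _ hs) (fun e => h0 (le_bot_iff.1
        (inf_eq_bot_of_fpf hf ▸ le_inf (((map_mk_eq_bot_iff N).1 e).trans h1) le_rfl))) (fpf_map_mk h1 hf)
    refine isNilpotent_of_forall_sylowIn fun q hq _ => ?_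
    have := Fact.mk hq
    obtain ⟨R, hR, h5⟩ := coprime_exists_sylowIn hn hc (Or.inl hs) q
    have h6 : (R ⊔ N).Normal := by
      rw [← comap_map_mk]; exact ((hR.map _).normal_of_nilpotent h4).comap _
    refine ⟨R, hR, le_top.trans (normal_iff_top_le_normalizer.1 (normal_of_isSylowIn_of_le_normalizer
      (hR.of_le le_sup_left (sup_le hR.1 h1)) (sup_le le_normalizer ?_)))⟩
    by_cases e : q = p
    · subst e
      exact (hR.le_of_le_normalizer h3 h1 le_normalizer_of_normal').trans le_normalizer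
    · refine (frobenius_nilpotent_le_centralizer h5 (fpf_mono hR.1 le_rfl hf) h3.isNilpotent
        le_normalizer_of_normal' le_normalizer_of_normal' (coprime_card_of_isPGroup_ne e hR.2 h3)
        (hc.coprime_dvd_right (card_dvd_of_le h1)) ?_).trans (centralizer_le_normalizer _)
      obtain ⟨h, hh, h7⟩ := exists_ne_one_of_ne_bot h0
      exact le_bot_iff.1 (hf h hh h7 ▸ inf_le_inf h1 (centralizer_le (Set.singleton_subset_iff.2 hh)))
  by_cases h2 : IsPGroup 2 K
  · exact h2.isNilpotent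
  obtain ⟨q, hq, h3, h4⟩ : ∃ q : ℕ, q.Prime ∧ q ∣ Nat.card K ∧ q ≠ 2 := by
    by_contra hc
    push Not at hc
    exact h2 (isPGroup_of_forall_prime_dvd hc)
  have := Fact.mk hq
  obtain ⟨Q, hQ, h5⟩ := coprime_exists_sylowIn hn hc (Or.inl hs) q
  have h6 := Transfer.normalizer_le_normalizer_ZJ (n := q) Q
  by_cases h7 : K ⊓ normalizer (centerThompsonOf q Q : Set G) = K
  · have : (centerThompsonOf q Q).Normal :=
      normal_iff_top_le_normalizer.2 (ht ▸ sup_le (inf_eq_left.1 h7) (h5.trans h6))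
    exact main q _ ((Transfer.ZJ_le Q).trans hQ.1) (Transfer.ZJ_ne_bot (Or.inl rfl) hQ.2 (hQ.ne_bot h3))
      (hQ.2.to_le (Transfer.ZJ_le Q))
  have h8 := sub' _ inf_le_left (le_normalizer_inf hn (le_normalizer_normalizer (h5.trans h6))) h7
  obtain ⟨Q', hQ'⟩ := hQ.exists_sylow_map
  have h9 : HasNormalPComplement q K := Transfer.glauberman_thompson h4 (Or.inl rfl) Q'
    (Transfer.hasNPC_of_map_subtype_le (L := K ⊓ normalizer (centerThompsonOf q Q : Set G))
      (le_inf (map_subtype_le _) (by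
      rw [← hQ', ← Transfer.map_ZJ (by simp)]; exact le_normalizer_map _)) Transfer.hasNPC_of_nilpotent)
  have h10 := Transfer.hasNPC_sub_iff.1 h9
  have h11 := sub' _ (Transfer.res_le K) (hn.trans (Transfer.normalizer_le_normalizer_res (p := q) K))
    fun e => h10 (e.symm ▸ h3)
  have h12 : (Transfer.res q K).Normal := normal_iff_top_le_normalizer.2
    (le_normalizer_of_normal'.trans (Transfer.normalizer_le_normalizer_res (p := q) K))
  by_cases h13 : Transfer.res q K = ⊥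
  · obtain ⟨n, hn⟩ := Transfer.relIndex_res (p := q) K
    rw [h13, relIndex_bot_left] at hn
    exact (IsPGroup.of_card hn).isNilpotent
  obtain ⟨p, hp, h14⟩ := exists_prime_dvd_card h13
  have := Fact.mk hp
  obtain ⟨P, hP⟩ := exists_isSylowIn p (Transfer.res q K)
  have := hP.normal_of_nilpotent h11
  exact main p P (hP.1.trans (Transfer.res_le K)) (hP.ne_bot h14) hP.2

/-- Thompson's theorem: a group with a fixed-point-free group of operators is nilpotent. -/
theorem thompson_fpf [Finite G] {K H : Subgroup G} (hn : H ≤ normalizer (K : Set G)) (h0 : H ≠ ⊥)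
    (hf : ∀ h ∈ H, h ≠ 1 → K ⊓ centralizer {h} = ⊥) : Group.IsNilpotent K := by
  obtain ⟨h, hh, h1⟩ := exists_ne_one_of_ne_bot h0
  exact thompson_fpf_aux G K (zpowers h) ((zpowers_le.2 hh).trans hn) (isSolvable_zpowers h)
    (fun e => h1 (zpowers_eq_bot.1 e)) (fpf_mono le_rfl (zpowers_le.2 hh) hf)

theorem fpf_zpowers_of_prime [Finite G] {K : Subgroup G} {h : G} (hp : (orderOf h).Prime)
    (hf : K ⊓ centralizer {h} = ⊥) : ∀ x ∈ zpowers h, x ≠ 1 → K ⊓ centralizer {x} = ⊥ := by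
  intro x hx h1
  rw [← centralizer_zpowers, ← eq_of_card_prime_of_mem hp (Nat.card_zpowers h) hx h1,
    centralizer_zpowers, hf]

end Cfsg.Agent.Solv
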