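import Cfsg.Agent.Lib.Solv.Gen

/-! Fixed-point-free actions and Frobenius groups (elementary part). -/

set_option autoImplicit false
open Pointwise Subgroup

namespace Cfsg.Agent.Solv

variable {G : Type*} [Group G]

theorem card_modEq_of_card_fixedBy [Finite G] {X : Type*} [Finite X] [MulAction G X] {m : ℕ}
    (h : ∀ g : G, g ≠ 1 → Nat.card (MulAction.fixedBy X g) = m) :
    Nat.card X ≡ m [MOD Nat.card G] := by
  classical
  have := Fintype.ofFinite G
  have := Fintype.ofFinite X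
  have := Fintype.ofFinite (Quotient (MulAction.orbitRel G X))
  have h1 := MulAction.sum_card_fixedBy_eq_card_orbits_mul_card_group G X
  rw [← Finset.add_sum_erase _ _ (Finset.mem_univ (1 : G)), Finset.sum_congr rfl (g := fun _ => m)
    (fun g hg => by rw [← Nat.card_eq_fintype_card, h g (Finset.mem_erase.1 hg).1])] at h1
  simp only [MulAction.fixedBy_one_eq_univ, Finset.sum_const, smul_eq_mul,
    Finset.card_erase_of_mem (Finset.mem_univ _), Finset.card_univ, ← Nat.card_eq_fintype_card,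
    Nat.card_univ] at h1
  obtain ⟨n, hn⟩ : ∃ n, Nat.card G = n + 1 := ⟨Nat.card G - 1, by have := Nat.card_pos (α := G); omega⟩
  rw [hn] at h1 ⊢
  rw [Nat.add_sub_cancel] at h1
  apply Nat.ModEq.add_right_cancel' (n * m)
  rw [h1, show m + n * m = m * (n + 1) by ring]
  exact (Nat.modEq_zero_iff_dvd.2 (dvd_mul_left _ _)).trans (Nat.modEq_zero_iff_dvd.2 (dvd_mul_left _ _)).symm

theorem mem_centralizer_singleton {x h : G} : x ∈ centralizer ({h} : Set G) ↔ h * x = x * h := by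
  simp [mem_centralizer_iff]

theorem eq_one_of_fpf {K : Subgroup G} {h k : G} (hf : K ⊓ centralizer {h} = ⊥) (hk : k ∈ K)
    (hc : h * k = k * h) : k = 1 := by
  rw [← mem_bot, ← hf]; exact mem_inf.2 ⟨hk, mem_centralizer_singleton.2 hc⟩

theorem fpf_iff {K : Subgroup G} {h : G} :
    K ⊓ centralizer {h} = ⊥ ↔ ∀ k ∈ K, h * k = k * h → k = 1 :=
  ⟨fun hf _ hk hc => eq_one_of_fpf hf hk hc, fun H => (eq_bot_iff_forall _).2 fun k hk =>
    H k (mem_inf.1 hk).1 (mem_centralizer_singleton.1 (mem_inf.1 hk).2)⟩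

theorem exists_conj_eq_mul_of_fpf [Finite G] {K : Subgroup G} {h : G}
    (hn : h ∈ normalizer (K : Set G)) (hf : K ⊓ centralizer {h} = ⊥) {k : G} (hk : k ∈ K) :
    ∃ x ∈ K, x * h * x⁻¹ = k * h := by
  let f : K → K := fun x => ⟨x * (h * (x : G)⁻¹ * h⁻¹),
    mul_mem x.2 (conj_mem_of_mem_normalizer hn (inv_mem x.2))⟩
  have hinj : Function.Injective f := by
    intro x y hxy
    have h1 : (x : G) * (h * (x : G)⁻¹ * h⁻¹) = y * (h * (y : G)⁻¹ * h⁻¹) := congrArg Subtype.val hxy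
    have h2 : (y : G)⁻¹ * x = 1 := eq_one_of_fpf hf (mul_mem (inv_mem y.2) x.2) (by
      calc h * ((y : G)⁻¹ * x) = (y : G)⁻¹ * (y * (h * (y : G)⁻¹ * h⁻¹)) * h * x := by group
        _ = _ := by rw [← h1]; group)
    exact Subtype.ext (inv_mul_eq_one.1 h2).symm
  obtain ⟨x, hx⟩ := Finite.surjective_of_injective hinj ⟨k, hk⟩
  refine ⟨x, x.2, ?_⟩
  have h1 : (x : G) * (h * (x : G)⁻¹ * h⁻¹) = k := congrArg Subtype.val hx
  rw [← h1]; group

theorem card_modEq_one_of_fpf [Finite G] {K H : Subgroup G} (hn : H ≤ normalizer (K : Set G))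
    (hf : ∀ h ∈ H, h ≠ 1 → K ⊓ centralizer {h} = ⊥) : Nat.card K ≡ 1 [MOD Nat.card H] := by
  let _ : MulAction H K := MulAction.compHom K (K.normalizerMonoidHom.comp (inclusion hn))
  refine card_modEq_of_card_fixedBy fun h h1 => ?_
  rw [Nat.card_eq_one_iff_exists]
  refine ⟨⟨1, show K.normalizerMonoidHom _ 1 = 1 from map_one _⟩, fun k => Subtype.ext (Subtype.ext ?_)⟩
  refine eq_one_of_fpf (hf h h.2 fun e => h1 (Subtype.ext e)) k.1.2 ?_
  have : (h : G) * k.1 * (h : G)⁻¹ = k.1 := congrArg Subtype.val k.2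
  exact mul_inv_eq_iff_eq_mul.1 this

theorem card_dvd_sub_one_of_fpf [Finite G] {K H : Subgroup G} (hn : H ≤ normalizer (K : Set G))
    (hf : ∀ h ∈ H, h ≠ 1 → K ⊓ centralizer {h} = ⊥) : Nat.card H ∣ Nat.card K - 1 :=
  (Nat.modEq_iff_dvd' Nat.card_pos).1 (card_modEq_one_of_fpf hn hf).symm

theorem coprime_of_fpf [Finite G] {K H : Subgroup G} (hn : H ≤ normalizer (K : Set G))
    (hf : ∀ h ∈ H, h ≠ 1 → K ⊓ centralizer {h} = ⊥) : (Nat.card H).Coprime (Nat.card K) := by
  rw [Nat.Coprime, Nat.gcd_comm, (card_modEq_one_of_fpf hn hf).gcd_eq, Nat.gcd_one_left]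

theorem fpf_mono {K K' H H' : Subgroup G} (hK : K' ≤ K) (hH : H' ≤ H)
    (hf : ∀ h ∈ H, h ≠ 1 → K ⊓ centralizer {h} = ⊥) :
    ∀ h ∈ H', h ≠ 1 → K' ⊓ centralizer {h} = ⊥ := fun h hh h1 =>
  eq_bot_iff.2 (hf h (hH hh) h1 ▸ inf_le_inf_right _ hK)

theorem inf_eq_bot_of_fpf {K H : Subgroup G}
    (hf : ∀ h ∈ H, h ≠ 1 → K ⊓ centralizer {h} = ⊥) : K ⊓ H = ⊥ :=
  (eq_bot_iff_forall _).2 fun x hx => by
    by_contra h1
    exact h1 (eq_one_of_fpf (hf x (mem_inf.1 hx).2 h1) (mem_inf.1 hx).1 rfl)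

/-- distinct conjugates of a fixed-point-free complement meet trivially. -/
theorem eq_one_of_mem_conj_of_fpf {K H : Subgroup G} (hn : H ≤ normalizer (K : Set G))
    (hf : ∀ h ∈ H, h ≠ 1 → K ⊓ centralizer {h} = ⊥) {k x : G} (hk : k ∈ K) (hx : x ∈ H)
    (hx1 : x ≠ 1) (h : k * x * k⁻¹ ∈ H) : k = 1 := by
  have h1 : k * x * k⁻¹ * x⁻¹ ∈ K ⊓ H := mem_inf.2 ⟨by
    rw [show k * x * k⁻¹ * x⁻¹ = k * (x * k⁻¹ * x⁻¹) by group]
    exact mul_mem hk (conj_mem_of_mem_normalizer (hn hx) (inv_mem hk)), mul_mem h (inv_mem hx)⟩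
  rw [inf_eq_bot_of_fpf hf, mem_bot, mul_inv_eq_one, mul_inv_eq_iff_eq_mul] at h1
  exact eq_one_of_fpf (hf x hx hx1) hk h1.symm

/-- the partition of a Frobenius group. -/
theorem frobenius_partition [Finite G] {K H : Subgroup G} (hn : H ≤ normalizer (K : Set G))
    (hf : ∀ h ∈ H, h ≠ 1 → K ⊓ centralizer {h} = ⊥) {a : G} (ha : a ∈ K ⊔ H) (ha1 : a ≠ 1) :
    ∃! i : Option K, a ∈ (i.elim K fun x => MulAut.conj (x : G) • H) := by
  obtain ⟨k, hk, y, hy, rfl⟩ := (mem_sup_of_le_normalizer' hn).1 ha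
  have hKH := inf_eq_bot_of_fpf hf
  by_cases hy1 : y = 1
  · subst hy1
    refine ⟨none, by simpa using hk, ?_⟩
    rintro (_ | x) hx
    · rfl
    · exfalso
      simp only [Option.elim, mul_one, mem_conj_smul] at hx ha1
      have : (x : G)⁻¹ * k * x ∈ K ⊓ H := mem_inf.2 ⟨mul_mem (mul_mem (inv_mem x.2) hk) x.2, hx⟩
      rw [hKH, mem_bot] at this
      apply ha1
      calc k = x * ((x : G)⁻¹ * k * x) * (x : G)⁻¹ := by group
        _ = 1 := by rw [this]; simp
  · obtain ⟨x, hx, hxy⟩ := exists_conj_eq_mul_of_fpf (hn hy) (hf y hy hy1) hk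
    refine ⟨some ⟨x, hx⟩, by simpa only [Option.elim, ← hxy] using conj_mem_conj_smul x hy, ?_⟩
    rintro (_ | z) hz
    · exfalso
      have : y ∈ K ⊓ H := mem_inf.2 ⟨(mul_mem_cancel_left hk).1 hz, hy⟩
      rw [hKH, mem_bot] at this
      exact hy1 this
    · simp only [Option.elim, mem_conj_smul, ← hxy] at hz
      have := eq_one_of_mem_conj_of_fpf hn hf (mul_mem (inv_mem z.2) hx) hy hy1
        (by simpa [mul_assoc] using hz)
      rw [inv_mul_eq_one] at this
      exact congrArg some (Subtype.ext this)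

/-- a Frobenius group acting on an abelian group. -/
theorem frobenius_abstract_eq_top [Finite G] {K H : Subgroup G} (hn : H ≤ normalizer (K : Set G))
    (hf : ∀ h ∈ H, h ≠ 1 → K ⊓ centralizer {h} = ⊥) {V : Type*} [CommGroup V]
    (φ : (K ⊔ H : Subgroup G) →* MulAut V) (hcop : (Nat.card K).Coprime (Nat.card V))
    {L : Subgroup V} (hK : ∀ v, (∀ k (hk : k ∈ K), φ ⟨k, mem_sup_left hk⟩ v = v) → v ∈ L)
    (hH : ∀ x ∈ K, ∀ v, (∀ h : (K ⊔ H : Subgroup G), (h : G) ∈ MulAut.conj x • H → φ h v = v) →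
      v ∈ L) : L = ⊤ := by
  classical
  have := Fintype.ofFinite K
  rw [eq_top_iff]
  intro v _
  have h := pow_mem_of_partition φ (s := Finset.univ) Finset.univ_nonempty
    (fun i : Option K => (i.elim K fun x => MulAut.conj (x : G) • H).subgroupOf (K ⊔ H))
    (fun a ha => by
      simpa only [Finset.mem_univ, true_and, mem_subgroupOf] using
        frobenius_partition hn hf a.2 (fun h => ha (Subtype.ext h))) (L := L) (by
      rintro (_ | x) - w hw
      · exact hK w fun k hk => hw _ hk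
      · exact hH x x.2 w hw) v
  rw [Finset.card_univ, Fintype.card_option, Nat.add_sub_cancel, ← Nat.card_eq_fintype_card] at h
  exact mem_of_pow_mem_of_coprime h hcop

/-- a Frobenius group `KH` acting on an abelian group of order prime to `|K|`. -/
theorem frobenius_abelian_le [Finite G] {K H V L : Subgroup G} (hn : H ≤ normalizer (K : Set G))
    (hf : ∀ h ∈ H, h ≠ 1 → K ⊓ centralizer {h} = ⊥) (hV : IsMulCommutative V)
    (hKV : K ≤ normalizer (V : Set G)) (hHV : H ≤ normalizer (V : Set G))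
    (hcop : (Nat.card K).Coprime (Nat.card V)) (hK : V ⊓ centralizer (K : Set G) ≤ L)
    (hH : ∀ x ∈ K, V ⊓ centralizer ((MulAut.conj x • H : Subgroup G) : Set G) ≤ L) : V ≤ L := by
  let _ : CommGroup V := { (inferInstance : Group V) with mul_comm := hV.1.1 }
  rw [← subgroupOf_eq_top]
  refine frobenius_abstract_eq_top hn hf (V.normalizerMonoidHom.comp (inclusion (sup_le hKV hHV)))
    hcop (fun v hv => hK (mem_inf.2 ⟨v.2, mem_centralizer_iff.2 fun k hk => ?_⟩))
    fun x hx v hv => hH x hx (mem_inf.2 ⟨v.2, mem_centralizer_iff.2 fun k hk => ?_⟩)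
  · exact mul_inv_eq_iff_eq_mul.1 (congrArg Subtype.val (hv k hk))
  · have : k ∈ K ⊔ H := conj_smul_le_of_mem le_sup_right (mem_sup_left hx) hk
    exact mul_inv_eq_iff_eq_mul.1 (congrArg Subtype.val (hv ⟨k, this⟩ hk))

theorem frobenius_abelian_le_centralizer [Finite G] {K H V : Subgroup G}
    (hn : H ≤ normalizer (K : Set G))
    (hf : ∀ h ∈ H, h ≠ 1 → K ⊓ centralizer {h} = ⊥) (hV : IsMulCommutative V)
    (hKV : K ≤ normalizer (V : Set G)) (hHV : H ≤ normalizer (V : Set G))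
    (hcop : (Nat.card K).Coprime (Nat.card V)) (hH : V ⊓ centralizer (H : Set G) = ⊥) :
    V ≤ centralizer (K : Set G) :=
  frobenius_abelian_le hn hf hV hKV hHV hcop inf_le_right fun x hx => by
    rw [centralizer_conj_smul, ← conj_smul_eq_self_iff.2 (hKV hx), ← smul_inf, hH, smul_bot]
    exact bot_le

/-- a Frobenius group `KH` acting coprimely on a nilpotent group. -/
theorem frobenius_nilpotent_le [Finite G] {K H V L : Subgroup G} (hn : H ≤ normalizer (K : Set G))
    (hf : ∀ h ∈ H, h ≠ 1 → K ⊓ centralizer {h} = ⊥) (hV : Group.IsNilpotent V)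
    (hKV : K ≤ normalizer (V : Set G)) (hHV : H ≤ normalizer (V : Set G))
    (hcop : (Nat.card K).Coprime (Nat.card V)) (hcop' : (Nat.card H).Coprime (Nat.card V))
    (hK : V ⊓ centralizer (K : Set G) ≤ L)
    (hH : ∀ x ∈ K, V ⊓ centralizer ((MulAut.conj x • H : Subgroup G) : Set G) ≤ L) : V ≤ L := by
  refine le_of_map_of_eq_top hV (frobenius_abstract_eq_top hn hf
    ((abConj V).comp (inclusion (sup_le hKV hHV)))
    (hcop.coprime_dvd_right (commutator V).card_quotient_dvd_card) (fun v hv => ?_)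
    fun x hx v hv => ?_)
  · obtain ⟨k, hk, rfl⟩ := exists_of_abConj_fixed hKV hcop (.inr inferInstance) hv
    exact mem_map_of_mem _ (hK (mem_inf.2 ⟨k.2, hk⟩))
  · have h1 : MulAut.conj x • H ≤ K ⊔ H := conj_smul_le_of_mem le_sup_right (mem_sup_left hx)
    obtain ⟨k, hk, rfl⟩ := exists_of_abConj_fixed (h1.trans (sup_le hKV hHV))
      (by rwa [card_conj_smul]) (.inr inferInstance) (v := v) fun b hb => hv ⟨b, h1 hb⟩ hb
    exact mem_map_of_mem _ (hH x hx (mem_inf.2 ⟨k.2, hk⟩))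

theorem frobenius_nilpotent_le_centralizer [Finite G] {K H V : Subgroup G}
    (hn : H ≤ normalizer (K : Set G))
    (hf : ∀ h ∈ H, h ≠ 1 → K ⊓ centralizer {h} = ⊥) (hV : Group.IsNilpotent V)
    (hKV : K ≤ normalizer (V : Set G)) (hHV : H ≤ normalizer (V : Set G))
    (hcop : (Nat.card K).Coprime (Nat.card V)) (hcop' : (Nat.card H).Coprime (Nat.card V))
    (hH : V ⊓ centralizer (H : Set G) = ⊥) : V ≤ centralizer (K : Set G) :=
  frobenius_nilpotent_le hn hf hV hKV hHV hcop hcop' inf_le_right fun x hx => by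
    rw [centralizer_conj_smul, ← conj_smul_eq_self_iff.2 (hKV hx), ← smul_inf, hH, smul_bot]
    exact bot_le

/-! ### Frobenius complements -/

theorem frob_mem_of_mem_conj {H : Subgroup G} (hH : IsFrobeniusComplement H) {x g : G}
    (hx : x ∈ H) (h1 : x ≠ 1) (hg : x ∈ MulAut.conj g • H) : g ∈ H := by
  by_contra h
  have : x ∈ H ⊓ MulAut.conj g • H := mem_inf.2 ⟨hx, hg⟩
  rw [hH.2.2 g h, mem_bot] at this
  exact h1 this

theorem frob_mem_of_conj_mem {H : Subgroup G} (hH : IsFrobeniusComplement H) {x g : G}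
    (hx : x ∈ H) (h1 : x ≠ 1) (hg : g * x * g⁻¹ ∈ H) : g ∈ H :=
  inv_mem_iff.1 (frob_mem_of_mem_conj hH hx h1 (by rw [mem_conj_smul, inv_inv]; exact hg))

theorem frob_inv_mul_mem {H : Subgroup G} (hH : IsFrobeniusComplement H) {x a b : G}
    (h1 : x ≠ 1) (ha : x ∈ MulAut.conj a • H) (hb : x ∈ MulAut.conj b • H) : b⁻¹ * a ∈ H := by
  rw [mem_conj_smul] at ha hb
  refine frob_mem_of_conj_mem hH ha (fun h => h1 ?_) (by simpa [mul_assoc] using hb)
  calc x = a * (a⁻¹ * x * a) * a⁻¹ := by group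
    _ = 1 := by rw [h]; simp

theorem frob_centralizer_le {H : Subgroup G} (hH : IsFrobeniusComplement H) {x : G}
    (hx : x ∈ H) (h1 : x ≠ 1) : centralizer ({x} : Set G) ≤ H := fun g hg =>
  frob_mem_of_conj_mem hH hx h1 (by rw [← mem_centralizer_singleton.1 hg]; simpa using hx)

theorem frob_normalizer_le {H : Subgroup G} (hH : IsFrobeniusComplement H) {U : Subgroup G}
    (hU : U ≤ H) (h1 : U ≠ ⊥) : normalizer (U : Set G) ≤ H := fun g hg => by
  obtain ⟨x, hx, hx1⟩ := exists_ne_one_of_ne_bot h1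
  exact frob_mem_of_conj_mem hH (hU hx) hx1 (hU (conj_mem_of_mem_normalizer hg hx))

theorem frob_conj {H : Subgroup G} (hH : IsFrobeniusComplement H) (a : G) :
    IsFrobeniusComplement (MulAut.conj a • H) := by
  refine ⟨fun h => hH.1 ((MulAction.injective (MulAut.conj a)) (by simpa using h)),
    fun h => hH.2.1 ((MulAction.injective (MulAut.conj a)) (by
      simp only [h]; exact (conj_smul_eq_self_iff.2 (le_normalizer (mem_top a))).symm)),
    fun g hg => (eq_bot_iff_forall _).2 fun x hx => ?_⟩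
  by_contra h1
  have h2 := (mem_inf.1 hx).2
  rw [conj_smul_conj_smul] at h2
  exact hg (mem_conj_smul.2 (by simpa [mul_assoc] using frob_inv_mul_mem hH h1 h2 (mem_inf.1 hx).1))

theorem mem_frobeniusKernel {H : Subgroup G} {x : G} :
    x ∈ frobeniusKernel H ↔ x = 1 ∨ ∀ g : G, g⁻¹ * x * g ∉ H := by
  simp only [frobeniusKernel, Set.mem_setOf_eq, mem_conj_smul]

theorem conj_mem_frobeniusKernel {H : Subgroup G} {x : G} (hx : x ∈ frobeniusKernel H) (a : G) :
    a * x * a⁻¹ ∈ frobeniusKernel H := by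
  rw [mem_frobeniusKernel] at hx ⊢
  refine hx.imp (fun h => by simp [h]) fun h g hg => h (a⁻¹ * g) (by simpa [mul_assoc] using hg)

theorem inv_mem_frobeniusKernel {H : Subgroup G} {x : G} (hx : x ∈ frobeniusKernel H) :
    x⁻¹ ∈ frobeniusKernel H := by
  rw [mem_frobeniusKernel] at hx ⊢
  refine hx.imp (fun h => by simp [h]) fun h g hg => h g (by simpa [mul_assoc] using inv_mem hg)

theorem frobeniusKernel_conj (H : Subgroup G) (a : G) :
    frobeniusKernel (MulAut.conj a • H) = frobeniusKernel H := by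
  ext x
  simp only [mem_frobeniusKernel, mem_conj_smul]
  refine or_congr_right ⟨fun h g hg => h (g * a⁻¹) (by simpa [mul_assoc] using hg),
    fun h g hg => h (g * a) (by simpa [mul_assoc] using hg)⟩

theorem eq_one_of_mem_frobeniusKernel {H : Subgroup G} {x : G} (hx : x ∈ frobeniusKernel H)
    (h : x ∈ H) : x = 1 :=
  (mem_frobeniusKernel.1 hx).resolve_right fun h1 => h1 1 (by simpa using h)

theorem card_frobeniusKernel [Finite G] {H : Subgroup G} (hH : IsFrobeniusComplement H) :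
    Nat.card (frobeniusKernel H) = H.index := by
  classical
  let f : (G ⧸ H) × {h : H // h ≠ 1} → ((frobeniusKernel H)ᶜ : Set G) := fun x =>
    ⟨x.1.out * x.2 * x.1.out⁻¹, fun h => by
      rcases mem_frobeniusKernel.1 h with h | h
      · exact x.2.2 (Subtype.ext (by simpa using h))
      · exact h x.1.out (by simp [mul_assoc])⟩
  have hf : Function.Bijective f := by
    constructor
    · rintro ⟨a, x⟩ ⟨b, y⟩ h
      have h1 : a.out * x * a.out⁻¹ = b.out * y * b.out⁻¹ := congrArg Subtype.val h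
      have h2 : a = b := by
        rw [← a.out_eq', ← b.out_eq', QuotientGroup.eq]
        refine frob_inv_mul_mem hH (x := a.out * x * a.out⁻¹)
          (fun h => x.2 (Subtype.ext (by simpa using h))) (h1 ▸ conj_mem_conj_smul _ y.1.2)
          (conj_mem_conj_smul _ x.1.2)
      subst h2
      simp only [mul_left_inj, mul_right_inj] at h1
      rw [Subtype.ext (Subtype.ext h1)]
    · rintro ⟨x, hx⟩
      rw [Set.mem_compl_iff, mem_frobeniusKernel, not_or, not_forall] at hx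
      obtain ⟨h1, g, hg⟩ := hx
      rw [not_not] at hg
      obtain ⟨h, hh⟩ := QuotientGroup.mk_out_eq_mul H g
      refine ⟨⟨g, ⟨⟨(h : G)⁻¹ * (g⁻¹ * x * g) * h, mul_mem (mul_mem (inv_mem h.2) hg) h.2⟩,
        fun e => h1 ?_⟩⟩, Subtype.ext ?_⟩
      · have e1 : (h : G)⁻¹ * (g⁻¹ * x * g) * h = 1 := congrArg Subtype.val e
        calc x = g * h * ((h : G)⁻¹ * (g⁻¹ * x * g) * h) * (g * h)⁻¹ := by group
          _ = 1 := by rw [e1]; simp
      · simp only [f, hh]; group
  have h1 := Nat.card_eq_of_bijective f hf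
  have h2 : Nat.card {h : H // h ≠ 1} + 1 = Nat.card H := by
    have := Fintype.ofFinite H
    rw [Nat.card_eq_fintype_card, Nat.card_eq_fintype_card, Fintype.card_subtype_compl,
      Fintype.card_subtype_eq, Nat.sub_add_cancel Fintype.card_pos]
  have h3 := Set.ncard_add_ncard_compl (frobeniusKernel H)
  rw [← Nat.card_coe_set_eq, ← Nat.card_coe_set_eq, ← h1, Nat.card_prod, ← H.index_mul_card, ← h2,
    ← index_eq_card] at h3
  rw [mul_add, mul_one] at h3
  omega

theorem frob_index_modEq [Finite G] {H : Subgroup G} (hH : IsFrobeniusComplement H) :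
    H.index ≡ 1 [MOD Nat.card H] := by
  refine card_modEq_of_card_fixedBy (X := G ⧸ H) fun h h1 => ?_
  rw [Nat.card_eq_one_iff_exists]
  refine ⟨⟨(1 : G), ?_⟩, fun x => Subtype.ext ?_⟩
  · show ((h * 1 : G) : G ⧸ H) = (1 : G)
    rw [QuotientGroup.eq]; simp
  · obtain ⟨x, hx⟩ := x
    induction x using QuotientGroup.induction_on with | H g => ?_
    have h2 : ((h * g : G) : G ⧸ H) = g := hx
    rw [eq_comm, QuotientGroup.eq] at h2
    show (g : G ⧸ H) = (1 : G)
    rw [QuotientGroup.eq, mul_one]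
    exact frob_mem_of_conj_mem hH h.2 (fun e => h1 (Subtype.ext e)) (by simpa [mul_assoc] using h2)

theorem frob_coprime [Finite G] {H : Subgroup G} (hH : IsFrobeniusComplement H) :
    (Nat.card H).Coprime H.index := by
  rw [Nat.Coprime, Nat.gcd_comm, (frob_index_modEq hH).gcd_eq, Nat.gcd_one_left]

theorem frob_fpf {K H : Subgroup G} (hH : IsFrobeniusComplement H) (hKH : K ⊓ H = ⊥) :
    ∀ h ∈ H, h ≠ 1 → K ⊓ centralizer {h} = ⊥ := fun _ hh h1 =>
  eq_bot_iff.2 (hKH ▸ inf_le_inf_left _ (frob_centralizer_le hH hh h1))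

theorem isFrobeniusComplement_of_fpf {K H : Subgroup G} [K.Normal] (hc : K ⊔ H = ⊤)
    (hK : K ≠ ⊥) (hH : H ≠ ⊥) (hf : ∀ h ∈ H, h ≠ 1 → K ⊓ centralizer {h} = ⊥) :
    IsFrobeniusComplement H := by
  refine ⟨hH, fun h => hK (by simpa [h] using inf_eq_bot_of_fpf hf), fun g hg => ?_⟩
  have hn : H ≤ normalizer (K : Set G) := le_normalizer_of_normal
  obtain ⟨k, hk, y, hy, rfl⟩ := (mem_sup_of_le_normalizer' hn).1 (hc ▸ mem_top g)
  rw [eq_bot_iff_forall]
  intro x hx
  by_contra h1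
  have h2 := mem_conj_smul.1 (mem_inf.1 hx).2
  have h3 := eq_one_of_mem_conj_of_fpf hn hf (inv_mem hk) (mem_inf.1 hx).1 h1 (by
    simpa [mul_assoc] using mul_mem (mul_mem hy h2) (inv_mem hy))
  exact hg (by rw [inv_eq_one.1 h3, one_mul]; exact hy)

/-- a normal complement to a Frobenius complement is the Frobenius kernel. -/
theorem frobeniusKernel_eq_of_normal [Finite G] {K H : Subgroup G} [K.Normal] (hc : K ⊔ H = ⊤)
    (hf : ∀ h ∈ H, h ≠ 1 → K ⊓ centralizer {h} = ⊥) : frobeniusKernel H = K := by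
  have hn : H ≤ normalizer (K : Set G) := le_normalizer_of_normal
  ext x
  rw [mem_frobeniusKernel, SetLike.mem_coe]
  constructor
  · rintro (rfl | h)
    · exact one_mem _
    · obtain ⟨k, hk, y, hy, rfl⟩ := (mem_sup_of_le_normalizer' hn).1 (hc ▸ mem_top x)
      by_cases hy1 : y = 1
      · simpa [hy1] using hk
      · obtain ⟨x, -, hxy⟩ := exists_conj_eq_mul_of_fpf (hn hy) (hf y hy hy1) hk
        exact absurd (by simpa [← hxy, mul_assoc] using hy) (h x)
  · intro hx
    by_cases h1 : x = 1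
    · exact .inl h1
    refine .inr fun g hg => h1 ?_
    have : g⁻¹ * x * g ∈ K ⊓ H := mem_inf.2 ⟨Normal.conj_mem' inferInstance x hx g, hg⟩
    rw [inf_eq_bot_of_fpf hf, mem_bot] at this
    calc x = g * (g⁻¹ * x * g) * g⁻¹ := by group
      _ = 1 := by rw [this]; simp

/-- a subgroup whose carrier is the Frobenius kernel is a normal complement. -/
theorem isComplement'_of_eq_frobeniusKernel [Finite G] {K H : Subgroup G}
    (hH : IsFrobeniusComplement H) (hK : (K : Set G) = frobeniusKernel H) :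
    K.Normal ∧ IsComplement' K H := by
  refine ⟨⟨fun x hx g => ?_⟩, isComplement'_of_card_mul_and_disjoint ?_ ?_⟩
  · rw [← SetLike.mem_coe, hK] at hx ⊢
    exact conj_mem_frobeniusKernel hx g
  · rw [← H.index_mul_card, ← card_frobeniusKernel hH, ← hK]; rfl
  · rw [disjoint_iff, eq_bot_iff_forall]
    intro x hx
    exact eq_one_of_mem_frobeniusKernel (hK ▸ (mem_inf.1 hx).1) (mem_inf.1 hx).2

end Cfsg.Agent.Solv
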