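import Cfsg.Agent.Lib.Solv.Coprime
import Cfsg.Prelude.Def_OddOrderLocal

/-! `O_p`, `O_{p'}`, `O_π` and the Fitting subgroup. -/

set_option autoImplicit false
open Pointwise Subgroup

namespace Cfsg.Agent.Solv

variable {G : Type*} [Group G]

theorem sSup_normal_mem [Finite G] {P : Subgroup G → Prop} (hbot : P ⊥)
    (hsup : ∀ H K : Subgroup G, H.Normal → K.Normal → P H → P K → P (H ⊔ K)) :
    P (sSup {N : Subgroup G | N.Normal ∧ P N}) := by
  obtain ⟨M, -, hM, hmax⟩ := exists_maximal_ge (P := fun N : Subgroup G => N.Normal ∧ P N)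
    ⟨inferInstance, hbot⟩
  have : sSup {N : Subgroup G | N.Normal ∧ P N} = M := by
    refine le_antisymm (sSup_le fun N hN => ?_) (le_sSup hM)
    have := hN.1; have := hM.1
    rw [← hmax (M ⊔ N) ⟨inferInstance, hsup M N hM.1 hN.1 hM.2 hN.2⟩ le_sup_left]
    exact le_sup_right
  rw [this]; exact hM.2

theorem map_sSup_le {G' : Type*} [Group G'] (f : G →* G') {S : Set (Subgroup G)} {T : Subgroup G'}
    (h : ∀ N ∈ S, N.map f ≤ T) : (sSup S).map f ≤ T := by
  rw [map_le_iff_le_comap]; exact sSup_le fun N hN => map_le_iff_le_comap.1 (h N hN)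

theorem normal_map_of_surjective {G' : Type*} [Group G'] {f : G →* G'} (hf : Function.Surjective f)
    (N : Subgroup G) [hN : N.Normal] : (N.map f).Normal := hN.map f hf

instance instNormalMapMk (N H : Subgroup G) [N.Normal] [hH : H.Normal] :
    (H.map (QuotientGroup.mk' N)).Normal := hH.map _ (QuotientGroup.mk'_surjective N)

theorem map_equiv_eq_of_le {G' : Type*} [Group G'] (e : G ≃* G') {H : Subgroup G} {K : Subgroup G'}
    (h1 : H.map e.toMonoidHom ≤ K) (h2 : K.map e.symm.toMonoidHom ≤ H) :
    H.map e.toMonoidHom = K := by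
  refine le_antisymm h1 fun x hx => ⟨e.symm x, h2 ⟨x, hx, rfl⟩, by simp⟩

/-! ### `O_p` -/

variable {p : ℕ}

theorem isPGroup_pCore (p : ℕ) (G : Type*) [Group G] : IsPGroup p (pCore p G) :=
  Sylow.sSup_of_normal _ (fun _ h => h.2) (fun _ h => h.1)

theorem le_pCore {N : Subgroup G} [hN : N.Normal] (h : IsPGroup p N) : N ≤ pCore p G :=
  le_sSup ⟨hN, h⟩

theorem pCore_le_sylow (P : Sylow p G) : pCore p G ≤ P :=
  (isPGroup_pCore p G).le_sylow_of_normal P

theorem map_pCore_le {G' : Type*} [Group G'] {f : G →* G'} (hf : Function.Surjective f) :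
    (pCore p G).map f ≤ pCore p G' :=
  have := normal_map_of_surjective hf (pCore p G)
  le_pCore ((isPGroup_pCore p G).map f)

theorem map_pCore_equiv {G' : Type*} [Group G'] (e : G ≃* G') :
    (pCore p G).map e.toMonoidHom = pCore p G' :=
  map_equiv_eq_of_le e (map_pCore_le e.surjective) (map_pCore_le e.symm.surjective)

instance instCharacteristicPCore (p : ℕ) (G : Type*) [Group G] : (pCore p G).Characteristic :=
  characteristic_iff_map_eq.2 map_pCore_equiv

theorem pCore_eq_iInf_sylow : pCore p G = ⨅ P : Sylow p G, (P : Subgroup G) := by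
  apply le_antisymm (le_iInf pCore_le_sylow)
  have : (⨅ P : Sylow p G, (P : Subgroup G)).Normal := ⟨fun x hx g => by
    rw [mem_iInf] at hx ⊢
    intro P
    have := hx (g⁻¹ • P)
    rw [Sylow.coe_subgroup_smul, mem_conj_smul, inv_inv] at this
    exact this⟩
  exact le_pCore ((default : Sylow p G).isPGroup'.to_le (iInf_le _ _))

theorem map_subtype_pCore_le (N : Subgroup G) [N.Normal] :
    (pCore p N).map N.subtype ≤ pCore p G :=
  le_pCore ((isPGroup_pCore p N).map _)

theorem pCore_inf_le_map_subtype (H : Subgroup G) :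
    pCore p G ⊓ H ≤ (pCore p H).map H.subtype := by
  rw [← subgroupOf_map_subtype]
  exact map_mono (le_pCore (isPGroup_subgroupOf (isPGroup_pCore p G) H))

theorem map_subtype_pCore (N : Subgroup G) [N.Normal] :
    (pCore p N).map N.subtype = pCore p G ⊓ N :=
  le_antisymm (le_inf (map_subtype_pCore_le N) (map_subtype_le _)) (pCore_inf_le_map_subtype N)

/-- a `p`-subgroup of `H` normalised by `H` lies in `O_p(H)`. -/
theorem le_map_subtype_pCore {U H : Subgroup G} (hU : IsPGroup p U) (hUH : U ≤ H)
    (hH : H ≤ normalizer (U : Set G)) : U ≤ (pCore p H).map H.subtype := by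
  have := (normal_subgroupOf_iff_le_normalizer hUH).2 hH
  rw [← subgroupOf_map_subtype_of_le hUH]
  exact map_mono (le_pCore (isPGroup_subgroupOf hU H))

theorem isPGroup_map_subtype_pCore (H : Subgroup G) : IsPGroup p ((pCore p H).map H.subtype) :=
  (isPGroup_pCore p H).map _

theorem normalizer_le_normalizer_map_pCore (H : Subgroup G) :
    normalizer (H : Set G) ≤ normalizer (((pCore p H).map H.subtype : Subgroup G) : Set G) :=
  normalizer_le_normalizer_map_of_characteristic H _

theorem isPGroup_comap_mk {N : Subgroup G} [N.Normal] (hN : IsPGroup p N) {H : Subgroup (G ⧸ N)}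
    (hH : IsPGroup p H) : IsPGroup p (H.comap (QuotientGroup.mk' N)) :=
  hH.comap_of_ker_isPGroup _ (by rwa [QuotientGroup.ker_mk'])

theorem comap_mk_pCore {N : Subgroup G} [N.Normal] (hN : IsPGroup p N) :
    (pCore p (G ⧸ N)).comap (QuotientGroup.mk' N) = pCore p G :=
  le_antisymm (le_pCore (isPGroup_comap_mk hN (isPGroup_pCore p _)))
    (map_le_iff_le_comap.1 (map_pCore_le (QuotientGroup.mk'_surjective N)))

theorem pCore_quotient_pCore : pCore p (G ⧸ pCore p G) = ⊥ := by
  rw [← map_comap_mk (pCore p G) (pCore p _), comap_mk_pCore (isPGroup_pCore p G),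
    map_mk_eq_bot_iff]

theorem pCore_eq_top_iff : pCore p G = ⊤ ↔ IsPGroup p G :=
  ⟨fun h => (h ▸ isPGroup_pCore p G : IsPGroup p (⊤ : Subgroup G)).of_equiv topEquiv,
    fun h => eq_top_iff.2 (le_pCore (h.to_subgroup ⊤))⟩

theorem le_pCore_of_isSubnormal {H : Subgroup G} (hH : H.IsSubnormal) (h : IsPGroup p H) :
    H ≤ pCore p G := by
  suffices ∀ H : Subgroup G, H.IsSubnormal → (pCore p H).map H.subtype ≤ pCore p G by
    refine le_trans ?_ (this H hH)
    rw [pCore_eq_top_iff.2 h, ← MonoidHom.range_eq_map, range_subtype]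
  intro H hH
  induction hH with
  | top => exact map_subtype_pCore_le ⊤
  | step H K hle hSubn hN ih =>
    refine le_trans (le_map_subtype_pCore (isPGroup_map_subtype_pCore H)
      ((map_subtype_le _).trans hle) ?_) ih
    exact ((normal_subgroupOf_iff_le_normalizer hle).1 hN).trans
      (normalizer_le_normalizer_map_pCore H)

/-! ### `O_π` -/

variable {π : Set ℕ}

theorem piCore_spec [Finite G] (π : Set ℕ) :
    ∀ q : ℕ, q.Prime → q ∣ Nat.card (piCore π G) → q ∈ π := by
  refine sSup_normal_mem (P := fun N : Subgroup G => ∀ q : ℕ, q.Prime → q ∣ Nat.card N → q ∈ π) ?_ ?_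
  · intro q hq h
    rw [card_bot] at h
    exact absurd h hq.not_dvd_one
  · intro H K _ _ hH hK q hq h
    exact ((Nat.Prime.dvd_mul hq).1 (h.trans (card_sup_dvd le_normalizer_of_normal))).elim
      (hH q hq) (hK q hq)

theorem le_piCore {N : Subgroup G} [hN : N.Normal]
    (h : ∀ q : ℕ, q.Prime → q ∣ Nat.card N → q ∈ π) : N ≤ piCore π G :=
  le_sSup ⟨hN, h⟩

theorem map_piCore_le {G' : Type*} [Group G'] {f : G →* G'} (hf : Function.Surjective f) :
    (piCore π G).map f ≤ piCore π G' :=
  map_sSup_le f fun N hN =>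
    have := hN.1.map f hf
    le_piCore fun q hq h => hN.2 q hq (h.trans (card_map_dvd N f))

theorem map_piCore_equiv {G' : Type*} [Group G'] (e : G ≃* G') :
    (piCore π G).map e.toMonoidHom = piCore π G' :=
  map_equiv_eq_of_le e (map_piCore_le e.surjective) (map_piCore_le e.symm.surjective)

instance instCharacteristicPiCore (π : Set ℕ) (G : Type*) [Group G] :
    (piCore π G).Characteristic :=
  characteristic_iff_map_eq.2 map_piCore_equiv

theorem map_subtype_piCore_le [Finite G] (N : Subgroup G) [N.Normal] :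
    (piCore π N).map N.subtype ≤ piCore π G :=
  le_piCore (by rw [card_subtype]; exact piCore_spec π)

theorem le_map_subtype_piCore {U H : Subgroup G}
    (hU : ∀ q : ℕ, q.Prime → q ∣ Nat.card U → q ∈ π) (hUH : U ≤ H)
    (hH : H ≤ normalizer (U : Set G)) : U ≤ (piCore π H).map H.subtype := by
  have := (normal_subgroupOf_iff_le_normalizer hUH).2 hH
  rw [← subgroupOf_map_subtype_of_le hUH]
  exact map_mono (le_piCore (by rwa [card_subgroupOf_of_le hUH]))

theorem piCore_inf_le_map_subtype [Finite G] (H : Subgroup G) :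
    piCore π G ⊓ H ≤ (piCore π H).map H.subtype :=
  le_map_subtype_piCore (fun q hq h => piCore_spec π q hq (h.trans (card_dvd_of_le inf_le_left)))
    inf_le_right (le_normalizer_inf le_normalizer_of_normal le_normalizer)

theorem map_subtype_piCore [Finite G] (N : Subgroup G) [N.Normal] :
    (piCore π N).map N.subtype = piCore π G ⊓ N :=
  le_antisymm (le_inf (map_subtype_piCore_le N) (map_subtype_le _)) (piCore_inf_le_map_subtype N)

theorem comap_mk_piCore [Finite G] {N : Subgroup G} [N.Normal]
    (hN : ∀ q : ℕ, q.Prime → q ∣ Nat.card N → q ∈ π) :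
    (piCore π (G ⧸ N)).comap (QuotientGroup.mk' N) = piCore π G :=
  le_antisymm (le_piCore fun q hq h => by
      rw [card_comap_mk] at h
      exact ((Nat.Prime.dvd_mul hq).1 h).elim (piCore_spec π q hq) (hN q hq))
    (map_le_iff_le_comap.1 (map_piCore_le (QuotientGroup.mk'_surjective N)))

theorem piCore_quotient_piCore [Finite G] : piCore π (G ⧸ piCore π G) = ⊥ := by
  rw [← map_comap_mk (piCore π G) (piCore π _), comap_mk_piCore (piCore_spec π),
    map_mk_eq_bot_iff]

theorem map_subtype_piCore_le_of_isSubnormal [Finite G] {H : Subgroup G} (hH : H.IsSubnormal) :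
    (piCore π H).map H.subtype ≤ piCore π G := by
  induction hH with
  | top => exact map_subtype_piCore_le ⊤
  | step H K hle hSubn hN ih =>
    refine le_trans (le_map_subtype_piCore (by rw [card_subtype]; exact piCore_spec π)
      ((map_subtype_le _).trans hle) ?_) ih
    exact ((normal_subgroupOf_iff_le_normalizer hle).1 hN).trans
      (normalizer_le_normalizer_map_of_characteristic H _)

theorem le_piCore_of_isSubnormal [Finite G] {H : Subgroup G} (hH : H.IsSubnormal)
    (h : ∀ q : ℕ, q.Prime → q ∣ Nat.card H → q ∈ π) : H ≤ piCore π G :=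
  (le_map_subtype_piCore h le_rfl le_normalizer).trans (map_subtype_piCore_le_of_isSubnormal hH)

theorem pCore_eq_piCore [Finite G] [Fact p.Prime] : pCore p G = piCore {p} G :=
  le_antisymm (le_piCore fun _ hq h => eq_of_isPGroup_of_dvd (isPGroup_pCore p G) hq h)
    (le_pCore (isPGroup_of_forall_prime_dvd (piCore_spec {p})))

/-! ### `O_{p'}` -/

theorem coprime_card_pPrimeCore [Finite G] (p : ℕ) : (Nat.card (pPrimeCore p G)).Coprime p := by
  refine sSup_normal_mem (P := fun N : Subgroup G => (Nat.card N).Coprime p) ?_ ?_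
  · rw [card_bot]; exact Nat.coprime_one_left p
  · intro H K _ _ hH hK
    exact (Nat.Coprime.mul_left hH hK).coprime_dvd_left (card_sup_dvd le_normalizer_of_normal)

theorem not_dvd_card_pPrimeCore [Finite G] [hp : Fact p.Prime] : ¬ p ∣ Nat.card (pPrimeCore p G) :=
  (Nat.Prime.coprime_iff_not_dvd hp.out).1 (coprime_card_pPrimeCore p).symm

theorem le_pPrimeCore {N : Subgroup G} [hN : N.Normal] (h : (Nat.card N).Coprime p) :
    N ≤ pPrimeCore p G :=
  le_sSup ⟨hN, h⟩

theorem map_pPrimeCore_le {G' : Type*} [Group G'] {f : G →* G'} (hf : Function.Surjective f) :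
    (pPrimeCore p G).map f ≤ pPrimeCore p G' :=
  map_sSup_le f fun N hN =>
    have := hN.1.map f hf
    le_pPrimeCore (hN.2.coprime_dvd_left (card_map_dvd N f))

theorem map_pPrimeCore_equiv {G' : Type*} [Group G'] (e : G ≃* G') :
    (pPrimeCore p G).map e.toMonoidHom = pPrimeCore p G' :=
  map_equiv_eq_of_le e (map_pPrimeCore_le e.surjective) (map_pPrimeCore_le e.symm.surjective)

instance instCharacteristicPPrimeCore (p : ℕ) (G : Type*) [Group G] :
    (pPrimeCore p G).Characteristic :=
  characteristic_iff_map_eq.2 map_pPrimeCore_equiv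

theorem map_subtype_pPrimeCore_le [Finite G] (N : Subgroup G) [N.Normal] :
    (pPrimeCore p N).map N.subtype ≤ pPrimeCore p G :=
  le_pPrimeCore (by rw [card_subtype]; exact coprime_card_pPrimeCore p)

theorem coprime_card_map_subtype_pPrimeCore [Finite G] (H : Subgroup G) :
    (Nat.card ((pPrimeCore p H).map H.subtype)).Coprime p := by
  rw [card_subtype]; exact coprime_card_pPrimeCore p

theorem le_map_subtype_pPrimeCore {U H : Subgroup G}
    (hU : (Nat.card U).Coprime p) (hUH : U ≤ H)
    (hH : H ≤ normalizer (U : Set G)) : U ≤ (pPrimeCore p H).map H.subtype := by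
  have := (normal_subgroupOf_iff_le_normalizer hUH).2 hH
  rw [← subgroupOf_map_subtype_of_le hUH]
  exact map_mono (le_pPrimeCore (by rwa [card_subgroupOf_of_le hUH]))

theorem normalizer_le_normalizer_map_pPrimeCore (H : Subgroup G) :
    normalizer (H : Set G) ≤ normalizer (((pPrimeCore p H).map H.subtype : Subgroup G) : Set G) :=
  normalizer_le_normalizer_map_of_characteristic H _

theorem pPrimeCore_inf_le_map_subtype [Finite G] (H : Subgroup G) :
    pPrimeCore p G ⊓ H ≤ (pPrimeCore p H).map H.subtype :=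
  le_map_subtype_pPrimeCore
    ((coprime_card_pPrimeCore p).coprime_dvd_left (card_dvd_of_le inf_le_left))
    inf_le_right (le_normalizer_inf le_normalizer_of_normal le_normalizer)

theorem map_subtype_pPrimeCore [Finite G] (N : Subgroup G) [N.Normal] :
    (pPrimeCore p N).map N.subtype = pPrimeCore p G ⊓ N :=
  le_antisymm (le_inf (map_subtype_pPrimeCore_le N) (map_subtype_le _))
    (pPrimeCore_inf_le_map_subtype N)

theorem comap_mk_pPrimeCore [Finite G] {N : Subgroup G} [N.Normal]
    (hN : (Nat.card N).Coprime p) :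
    (pPrimeCore p (G ⧸ N)).comap (QuotientGroup.mk' N) = pPrimeCore p G :=
  le_antisymm (le_pPrimeCore (by
      rw [card_comap_mk]
      exact Nat.Coprime.mul_left (coprime_card_pPrimeCore p) hN))
    (map_le_iff_le_comap.1 (map_pPrimeCore_le (QuotientGroup.mk'_surjective N)))

theorem pPrimeCore_quotient_pPrimeCore [Finite G] : pPrimeCore p (G ⧸ pPrimeCore p G) = ⊥ := by
  rw [← map_comap_mk (pPrimeCore p G) (pPrimeCore p _),
    comap_mk_pPrimeCore (coprime_card_pPrimeCore p), map_mk_eq_bot_iff]

theorem map_subtype_pPrimeCore_le_of_isSubnormal [Finite G] {H : Subgroup G} (hH : H.IsSubnormal) :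
    (pPrimeCore p H).map H.subtype ≤ pPrimeCore p G := by
  induction hH with
  | top => exact map_subtype_pPrimeCore_le ⊤
  | step H K hle hSubn hN ih =>
    refine le_trans (le_map_subtype_pPrimeCore (coprime_card_map_subtype_pPrimeCore H)
      ((map_subtype_le _).trans hle) ?_) ih
    exact ((normal_subgroupOf_iff_le_normalizer hle).1 hN).trans
      (normalizer_le_normalizer_map_of_characteristic H _)

theorem le_pPrimeCore_of_isSubnormal [Finite G] {H : Subgroup G} (hH : H.IsSubnormal)
    (h : (Nat.card H).Coprime p) : H ≤ pPrimeCore p G :=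
  (le_map_subtype_pPrimeCore h le_rfl le_normalizer).trans
    (map_subtype_pPrimeCore_le_of_isSubnormal hH)

theorem pPrimeCore_eq_piCore [Finite G] [hp : Fact p.Prime] : pPrimeCore p G = piCore {p}ᶜ G :=
  le_antisymm (le_piCore fun q _ h h2 => not_dvd_card_pPrimeCore (p := p) (h2 ▸ h))
    (le_pPrimeCore ((Nat.Prime.coprime_iff_not_dvd hp.out).2
      fun h => piCore_spec {p}ᶜ p hp.out h rfl).symm)

theorem pCore_inf_pPrimeCore [Finite G] [Fact p.Prime] : pCore p G ⊓ pPrimeCore p G = ⊥ :=
  inf_eq_bot_of_coprime'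
    (coprime_card_of_isPGroup' (isPGroup_pCore p G) (coprime_card_pPrimeCore p)).symm

theorem le_centralizer_of_inf_eq_bot {A B : Subgroup G} (hAB : A ≤ normalizer (B : Set G))
    (hBA : B ≤ normalizer (A : Set G)) (h : A ⊓ B = ⊥) : A ≤ centralizer (B : Set G) := by
  rw [← commutator_eq_bot_iff_le_centralizer, eq_bot_iff, ← h]
  exact le_inf (commutator_le_left_of_le_normalizer hBA)
    (le_normalizer_iff_commutator_le_right.1 hAB)

theorem pCore_le_centralizer_pPrimeCore [Finite G] [Fact p.Prime] :
    pCore p G ≤ centralizer (pPrimeCore p G : Set G) :=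
  le_centralizer_of_inf_eq_bot le_normalizer_of_normal le_normalizer_of_normal pCore_inf_pPrimeCore

theorem pCore_le_pPrimeCore [Finite G] [Fact p.Prime] {q : ℕ} [Fact q.Prime] (h : q ≠ p) :
    pCore q G ≤ pPrimeCore p G :=
  le_pPrimeCore (coprime_card_of_isPGroup (isPGroup_pCore q G)
    fun hd => h ((Nat.prime_dvd_prime_iff_eq Fact.out Fact.out).1 hd))

theorem pCore_le_centralizer_pCore [Finite G] [Fact p.Prime] {q : ℕ} [Fact q.Prime] (h : q ≠ p) :
    pCore p G ≤ centralizer (pCore q G : Set G) :=
  pCore_le_centralizer_pPrimeCore.trans (centralizer_le (pCore_le_pPrimeCore h))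

/-! ### nilpotent subgroups -/

theorem le_normalizer_of_nilpotent [Finite G] [Fact p.Prime] {P H : Subgroup G}
    (hH : Group.IsNilpotent H) (hP : IsSylowIn p P H) : H ≤ normalizer (P : Set G) := by
  obtain ⟨Q, hQ⟩ := hP.exists_sylow
  rw [← normal_subgroupOf_iff_le_normalizer hP.le, ← hQ]
  infer_instance

theorem IsSylowIn.eq_of_le_normalizer [Finite G] [Fact p.Prime] {P Q H : Subgroup G}
    (hP : IsSylowIn p P H) (hQ : IsSylowIn p Q H) (h : H ≤ normalizer (P : Set G)) : P = Q := by
  obtain ⟨k, hk, rfl⟩ := hP.exists_conj hQ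
  exact (conj_smul_eq_self_iff.2 (h hk)).symm

theorem IsSylowIn.normalizer_le_of_le_normalizer [Finite G] [Fact p.Prime] {P H : Subgroup G}
    (hP : IsSylowIn p P H) (h : H ≤ normalizer (P : Set G)) :
    normalizer (H : Set G) ≤ normalizer (P : Set G) := fun _ hg =>
  conj_smul_eq_self_iff.1 (hP.eq_of_le_normalizer (hP.conj_smul_of_mem_normalizer hg) h).symm

theorem IsSylowIn.normalizer_le_of_nilpotent [Finite G] [Fact p.Prime] {P H : Subgroup G}
    (hP : IsSylowIn p P H) (hH : Group.IsNilpotent H) :
    normalizer (H : Set G) ≤ normalizer (P : Set G) :=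
  hP.normalizer_le_of_le_normalizer (le_normalizer_of_nilpotent hH hP)

theorem IsSylowIn.normal_of_nilpotent [Finite G] [Fact p.Prime] {P H : Subgroup G} [H.Normal]
    (hP : IsSylowIn p P H) (hH : Group.IsNilpotent H) : P.Normal := by
  rw [← normalizer_eq_top_iff, eq_top_iff, ← normalizer_eq_top (H := H)]
  exact hP.normalizer_le_of_nilpotent hH

theorem isNilpotent_of_forall_sylowIn [Finite G] {H : Subgroup G}
    (h : ∀ p : ℕ, p.Prime → p ∣ Nat.card H → ∃ P, IsSylowIn p P H ∧ H ≤ normalizer (P : Set G)) :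
    Group.IsNilpotent H := by
  have q := (Group.isNilpotent_of_finite_tfae (G := H)).out 0 3
  rw [q]; clear q
  intro p hp Q
  by_cases hd : p ∣ Nat.card H
  · obtain ⟨P, hP, hn⟩ := h p hp.out hd
    have := hP.eq_of_le_normalizer (isSylowIn_map Q) hn
    rw [this] at hn
    rw [← map_subtype_subgroupOf H Q]
    exact (normal_subgroupOf_iff_le_normalizer (map_subtype_le _)).2 hn
  · have : (Q : Subgroup H) = ⊥ :=
      eq_bot_of_isPGroup_of_not_dvd Q.isPGroup' fun h => hd (h.trans (card_subgroup_dvd_card _))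
    rw [this]; infer_instance

theorem isNilpotent_of_forall_sylow [Finite G]
    (h : ∀ p : ℕ, p.Prime → p ∣ Nat.card G → ∃ P : Sylow p G, (P : Subgroup G).Normal) :
    Group.IsNilpotent G := by
  rw [← Group.isNilpotent_top]
  refine isNilpotent_of_forall_sylowIn fun p hp hd => ?_
  have := Fact.mk hp
  obtain ⟨P, hP⟩ := h p hp (by rwa [card_top] at hd)
  exact ⟨P, isSylowIn_top P, le_normalizer_of_normal⟩

theorem isSylowIn_sup [Finite G] [hp : Fact p.Prime] {P Q H K : Subgroup G} (hP : IsSylowIn p P H)
    (hQ : IsSylowIn p Q K) (hHK : H ≤ normalizer (K : Set G)) (hPQ : P ≤ normalizer (Q : Set G)) :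
    IsSylowIn p (P ⊔ Q) (H ⊔ K) := by
  refine ⟨sup_le_sup hP.le hQ.le, isPGroup_sup hP.isPGroup hQ.isPGroup hPQ, fun hd => ?_⟩
  have h1 : P ⊔ Q ≤ P ⊔ K := sup_le_sup_left hQ.le P
  have h2 : P ⊔ K ≤ H ⊔ K := sup_le_sup_right hP.le K
  rw [← relIndex_mul_relIndex _ _ _ h1 h2] at hd
  rcases (Nat.Prime.dvd_mul hp.out).1 hd with hd | hd
  · -- `|PK : PQ|` divides `|K : Q|`
    apply hQ.not_dvd
    have hPK := hP.le.trans hHK
    have e1 := card_sup_mul_card_inf hPK
    have e2 := card_sup_mul_card_inf hPQ
    have e3 : P ⊓ K = P ⊓ Q := by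
      apply le_antisymm (le_inf inf_le_left ?_) (inf_le_inf_left P hQ.le)
      exact hQ.le_of_le_normalizer' hP.isPGroup.to_inf_left inf_le_right (inf_le_left.trans hPQ)
    rw [← card_mul_relIndex h1, ← card_mul_relIndex hQ.le, e3, mul_right_comm, e2, mul_assoc] at e1
    have := Nat.eq_of_mul_eq_mul_left Nat.card_pos (Nat.eq_of_mul_eq_mul_left Nat.card_pos e1)
    rwa [← this]
  · apply hP.not_dvd
    have e1 := relIndex_mul_relIndex K _ _ le_sup_right h2
    rw [relIndex_sup_of_le_normalizer hHK, relIndex_sup_of_le_normalizer (hP.le.trans hHK)] at e1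
    have e2 := relIndex_mul_relIndex (P ⊓ K) P H inf_le_left hP.le
    have e3 := relIndex_mul_relIndex (P ⊓ K) (H ⊓ K) H (inf_le_inf_right K hP.le) inf_le_left
    rw [inf_relIndex_left] at e2 e3
    rw [← e2, ← e1, mul_left_comm] at e3
    have := Nat.eq_of_mul_eq_mul_left (Nat.pos_of_ne_zero index_ne_zero_of_finite) e3
    exact hd.trans ⟨_, by rw [← this, mul_comm]⟩

/-- Fitting's theorem for two nilpotent subgroups normalising each other. -/
theorem isNilpotent_sup [Finite G] {H K : Subgroup G} (hH : Group.IsNilpotent H)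
    (hK : Group.IsNilpotent K) (hHK : H ≤ normalizer (K : Set G))
    (hKH : K ≤ normalizer (H : Set G)) : Group.IsNilpotent (H ⊔ K : Subgroup G) := by
  refine isNilpotent_of_forall_sylowIn fun p hp _ => ?_
  have := Fact.mk hp
  obtain ⟨P, hP⟩ := exists_isSylowIn p H
  obtain ⟨Q, hQ⟩ := exists_isSylowIn p K
  have h1 : H ⊔ K ≤ normalizer (P : Set G) :=
    (sup_le le_normalizer hKH).trans (hP.normalizer_le_of_nilpotent hH)
  have h2 : H ⊔ K ≤ normalizer (Q : Set G) :=
    (sup_le hHK le_normalizer).trans (hQ.normalizer_le_of_nilpotent hK)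
  exact ⟨_, isSylowIn_sup hP hQ hHK ((hP.le.trans le_sup_left).trans h2), le_normalizer_sup h1 h2⟩

/-! ### the Fitting subgroup -/

instance instNormalFitting (G : Type*) [Group G] : (fittingSubgroup G).Normal :=
  Subgroup.sSup_normal _ (fun _ h => h.1)

theorem isNilpotent_fitting (G : Type*) [Group G] [Finite G] :
    Group.IsNilpotent (fittingSubgroup G) :=
  sSup_normal_mem (P := fun N : Subgroup G => Group.IsNilpotent N) inferInstance
    fun _ _ _ _ hH hK => isNilpotent_sup hH hK le_normalizer_of_normal le_normalizer_of_normal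

theorem le_fitting {N : Subgroup G} [hN : N.Normal] (h : Group.IsNilpotent N) :
    N ≤ fittingSubgroup G := le_sSup ⟨hN, h⟩

theorem map_fitting_le {G' : Type*} [Group G'] {f : G →* G'} (hf : Function.Surjective f) :
    (fittingSubgroup G).map f ≤ fittingSubgroup G' :=
  map_sSup_le f fun N hN =>
    have := hN.1.map f hf
    le_fitting (isNilpotent_map f hN.2)

theorem map_fitting_equiv {G' : Type*} [Group G'] (e : G ≃* G') :
    (fittingSubgroup G).map e.toMonoidHom = fittingSubgroup G' :=
  map_equiv_eq_of_le e (map_fitting_le e.surjective) (map_fitting_le e.symm.surjective)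

instance instCharacteristicFitting (G : Type*) [Group G] : (fittingSubgroup G).Characteristic :=
  characteristic_iff_map_eq.2 map_fitting_equiv

theorem pCore_le_fitting [Finite G] [Fact p.Prime] : pCore p G ≤ fittingSubgroup G :=
  le_fitting (isPGroup_pCore p G).isNilpotent

theorem center_le_fitting : center G ≤ fittingSubgroup G :=
  le_fitting (isNilpotent_of_isMulCommutative inferInstance)

theorem frattini_le_fitting [Finite G] : frattini G ≤ fittingSubgroup G :=
  le_fitting frattini_nilpotent

theorem isSylowIn_pCore_fitting [Finite G] [Fact p.Prime] :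
    IsSylowIn p (pCore p G) (fittingSubgroup G) := by
  obtain ⟨P, hP, h⟩ := exists_isSylowIn_ge (isPGroup_pCore p G) pCore_le_fitting
  have := hP.normal_of_nilpotent (isNilpotent_fitting G)
  rwa [le_antisymm h (le_pCore hP.isPGroup)]

theorem fitting_le_of_forall_pCore [Finite G] {L : Subgroup G}
    (h : ∀ p : ℕ, p.Prime → pCore p G ≤ L) : fittingSubgroup G ≤ L :=
  le_of_forall_isSylowIn fun p hp _ =>
    have := Fact.mk hp
    ⟨_, isSylowIn_pCore_fitting, h p hp⟩

theorem fitting_eq_iSup [Finite G] : fittingSubgroup G = ⨆ p : Nat.Primes, pCore (p : ℕ) G :=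
  le_antisymm (fitting_le_of_forall_pCore fun p hp =>
      le_iSup (fun p : Nat.Primes => pCore (p : ℕ) G) ⟨p, hp⟩)
    (iSup_le fun p => have := Fact.mk p.2; pCore_le_fitting)

theorem fitting_eq_pCore [Finite G] [Fact p.Prime] (h : pPrimeCore p G = ⊥) :
    fittingSubgroup G = pCore p G := by
  refine le_antisymm (fitting_le_of_forall_pCore fun q hq => ?_) pCore_le_fitting
  have := Fact.mk hq
  by_cases hqp : q = p
  · rw [hqp]
  · exact (pCore_le_pPrimeCore hqp).trans (h ▸ bot_le)

theorem fitting_le_pCore_sup_pPrimeCore [Finite G] [Fact p.Prime] :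
    fittingSubgroup G ≤ pCore p G ⊔ pPrimeCore p G := by
  refine fitting_le_of_forall_pCore fun q hq => ?_
  have := Fact.mk hq
  by_cases hqp : q = p
  · rw [hqp]; exact le_sup_left
  · exact (pCore_le_pPrimeCore hqp).trans le_sup_right

theorem map_subtype_fitting_le [Finite G] (N : Subgroup G) [N.Normal] :
    (fittingSubgroup N).map N.subtype ≤ fittingSubgroup G :=
  le_fitting (isNilpotent_map _ (isNilpotent_fitting N))

theorem isNilpotent_map_subtype_fitting [Finite G] (H : Subgroup G) :
    Group.IsNilpotent ((fittingSubgroup H).map H.subtype) :=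
  isNilpotent_map _ (isNilpotent_fitting H)

theorem le_map_subtype_fitting {U H : Subgroup G} (hU : Group.IsNilpotent U) (hUH : U ≤ H)
    (hH : H ≤ normalizer (U : Set G)) : U ≤ (fittingSubgroup H).map H.subtype := by
  have := (normal_subgroupOf_iff_le_normalizer hUH).2 hH
  rw [← subgroupOf_map_subtype_of_le hUH]
  exact map_mono (le_fitting (isNilpotent_subgroupOf hU H))

theorem normalizer_le_normalizer_map_fitting (H : Subgroup G) :
    normalizer (H : Set G) ≤ normalizer (((fittingSubgroup H).map H.subtype : Subgroup G) : Set G) :=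
  normalizer_le_normalizer_map_of_characteristic H _

theorem fitting_inf_le_map_subtype [Finite G] (H : Subgroup G) :
    fittingSubgroup G ⊓ H ≤ (fittingSubgroup H).map H.subtype :=
  le_map_subtype_fitting (isNilpotent_of_le inf_le_left (isNilpotent_fitting G))
    inf_le_right (le_normalizer_inf le_normalizer_of_normal le_normalizer)

theorem map_subtype_fitting [Finite G] (N : Subgroup G) [N.Normal] :
    (fittingSubgroup N).map N.subtype = fittingSubgroup G ⊓ N :=
  le_antisymm (le_inf (map_subtype_fitting_le N) (map_subtype_le _)) (fitting_inf_le_map_subtype N)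

theorem map_subtype_fitting_le_of_isSubnormal [Finite G] {H : Subgroup G} (hH : H.IsSubnormal) :
    (fittingSubgroup H).map H.subtype ≤ fittingSubgroup G := by
  induction hH with
  | top => exact map_subtype_fitting_le ⊤
  | step H K hle hSubn hN ih =>
    refine le_trans (le_map_subtype_fitting (isNilpotent_map_subtype_fitting H)
      ((map_subtype_le _).trans hle) ?_) ih
    exact ((normal_subgroupOf_iff_le_normalizer hle).1 hN).trans
      (normalizer_le_normalizer_map_of_characteristic H _)

theorem le_fitting_of_isSubnormal [Finite G] {H : Subgroup G} (hH : H.IsSubnormal)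
    (h : Group.IsNilpotent H) : H ≤ fittingSubgroup G :=
  (le_map_subtype_fitting h le_rfl le_normalizer).trans (map_subtype_fitting_le_of_isSubnormal hH)

theorem fitting_eq_top_iff [Finite G] : fittingSubgroup G = ⊤ ↔ Group.IsNilpotent G :=
  ⟨fun h => Group.isNilpotent_top.1 (h ▸ isNilpotent_fitting G),
    fun _ => eq_top_iff.2 (le_fitting inferInstance)⟩

theorem fitting_ne_bot_of_solvable_normal [Finite G] {N : Subgroup G} [N.Normal]
    (hs : Group.IsSolvable N) (hN : N ≠ ⊥) : N ⊓ fittingSubgroup G ≠ ⊥ := by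
  obtain ⟨M, h1, h2, h3, -, h4, -⟩ := exists_elementary_normal_le N hs hN
  exact fun h => h3 (eq_bot_iff.2
    (h ▸ le_inf h1 (le_fitting (isNilpotent_of_isMulCommutative h4))))

/-- a subgroup `L` with `[L, L] ≤ Z` and `Z` centralised by `L` is nilpotent. -/
theorem isNilpotent_of_commutator_le_centralizer {L : Subgroup G}
    (h : ⁅L, L⁆ ≤ centralizer (L : Set G)) : Group.IsNilpotent L :=
  (isNilpotent_iff_lowerCentralSeries L).2 ⟨2, commutator_eq_bot_iff_le_centralizer.2 h⟩

/-- a solvable normal subgroup centralising `F(G)` lies in `F(G)`. -/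
theorem le_fitting_of_le_centralizer [Finite G] {N : Subgroup G} [N.Normal]
    (hs : Group.IsSolvable N) (h : N ≤ centralizer (fittingSubgroup G : Set G)) :
    N ≤ fittingSubgroup G := by
  by_contra hne
  obtain ⟨M, hMN, ⟨hM, hMF⟩, hmin⟩ := exists_minimal_le
    (P := fun M : Subgroup G => M.Normal ∧ ¬ M ≤ fittingSubgroup G) ⟨inferInstance, hne⟩
  have hb : M ≠ ⊥ := fun h => hMF (h ▸ bot_le)
  have hMs := isSolvable_of_le hMN hs
  have h1 : ⁅M, M⁆ < M := by
    have : Nontrivial M := (nontrivial_iff_ne_bot M).2 hb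
    rw [← map_subtype_commutator]
    conv_rhs => rw [← range_subtype M, MonoidHom.range_eq_map]
    exact map_subtype_lt_map_subtype.2 (Group.IsSolvable.commutator_lt_top_of_nontrivial M)
  have h2 : ⁅M, M⁆ ≤ fittingSubgroup G := by
    by_contra h3
    exact h1.ne (hmin _ ⟨inferInstance, h3⟩ h1.le)
  exact hMF (le_fitting (isNilpotent_of_commutator_le_centralizer
    (h2.trans (le_centralizer_iff.1 (hMN.trans h)))))

theorem centralizer_fitting_le [Finite G] [Group.IsSolvable G] :
    centralizer (fittingSubgroup G : Set G) ≤ fittingSubgroup G :=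
  le_fitting_of_le_centralizer inferInstance le_rfl

theorem centralizer_pCore_le [Finite G] [Group.IsSolvable G] [Fact p.Prime]
    (h : pPrimeCore p G = ⊥) : centralizer (pCore p G : Set G) ≤ pCore p G := by
  rw [← fitting_eq_pCore h]; exact centralizer_fitting_le

/-- internal version: in a solvable subgroup `H`, `C_H(F(H)) ≤ F(H)`. -/
theorem inf_centralizer_map_fitting_le [Finite G] {H : Subgroup G} (hH : Group.IsSolvable H) :
    H ⊓ centralizer (((fittingSubgroup H).map H.subtype : Subgroup G) : Set G) ≤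
      (fittingSubgroup H).map H.subtype := by
  rintro x ⟨hx, hc⟩
  refine ⟨⟨x, hx⟩, centralizer_fitting_le (mem_centralizer_iff.2 fun y hy => Subtype.ext ?_), rfl⟩
  exact mem_centralizer_iff.1 hc _ (mem_map_of_mem _ hy)

/-- a nilpotent normal subgroup meets the centraliser of ... : a nontrivial subgroup normalised by
a nilpotent overgroup meets its centre nontrivially. -/
theorem inf_centralizer_ne_bot_of_nilpotent {L N : Subgroup G} (hL : Group.IsNilpotent L)
    (hNL : N ≤ L) (hLN : L ≤ normalizer (N : Set G)) (hN : N ≠ ⊥) :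
    N ⊓ centralizer (L : Set G) ≠ ⊥ := by
  obtain ⟨n, hn⟩ := (isNilpotent_iff_lowerCentralSeries L).1 hL
  intro h
  have : ∀ k, N ⊓ L.lowerCentralSeries (n - k) = ⊥ := by
    intro k
    induction k with
    | zero => rw [Nat.sub_zero, hn, inf_bot_eq]
    | succ k ih =>
      rw [eq_bot_iff, ← h]
      refine le_inf inf_le_left ?_
      rw [← commutator_eq_bot_iff_le_centralizer, eq_bot_iff, ← ih]
      refine le_inf ((commutator_mono inf_le_left le_rfl).trans
        (commutator_le_left_of_le_normalizer hLN)) ?_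
      refine (commutator_mono inf_le_right le_rfl).trans ?_
      rw [← Subgroup.lowerCentralSeries_succ]
      exact L.lowerCentralSeries_antitone (by omega)
  have h2 := this n
  rw [Nat.sub_self, Subgroup.lowerCentralSeries_zero, inf_of_le_left hNL] at h2
  exact hN h2

theorem fitting_le_centralizer_of_minimal_normal [Finite G] (M : Subgroup G) [M.Normal]
    (hmin : ∀ K : Subgroup G, K.Normal → K ≤ M → K = ⊥ ∨ K = M) :
    fittingSubgroup G ≤ centralizer (M : Set G) := by
  rcases hmin (M ⊓ fittingSubgroup G) inferInstance inf_le_left with h | h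
  · exact le_centralizer_of_inf_eq_bot le_normalizer_of_normal le_normalizer_of_normal
      (by rwa [inf_comm])
  · by_cases hb : M = ⊥
    · subst hb; exact le_centralizer_iff.1 bot_le
    have h1 := inf_centralizer_ne_bot_of_nilpotent (isNilpotent_fitting G) (inf_eq_left.1 h)
      le_normalizer_of_normal hb
    have h2 := (hmin _ inferInstance inf_le_left).resolve_left h1
    exact le_centralizer_iff.1 (inf_eq_left.1 h2)

end Cfsg.Agent.Solv
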