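import Cfsg.Agent.Lib.Solv.Cores

/-! Hall's theorems for solvable groups. -/

set_option autoImplicit false
open Pointwise Subgroup

namespace Cfsg.Agent.Solv

universe u

section
variable {G : Type*} [Group G]

theorem relIndex_dvd_index_of_normal' (H N : Subgroup G) [Finite G] [N.Normal] :
    H.relIndex N ∣ H.index := by
  have e1 := card_sup_mul_card_inf (le_normalizer_of_normal : H ≤ normalizer (N : Set G))
  rw [← card_mul_relIndex (le_sup_left : H ≤ H ⊔ N), ← card_inf_mul_relIndex H N, mul_assoc,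
    mul_comm (H.relIndex _)] at e1
  have := Nat.eq_of_mul_eq_mul_left Nat.card_pos (Nat.eq_of_mul_eq_mul_left Nat.card_pos e1)
  rw [← this]
  exact relIndex_dvd_index_of_le le_sup_left

/-- a normal subgroup of order coprime to the index of `H` lies in `H`. -/
theorem normal_le_of_coprime_index [Finite G] {H N : Subgroup G} [N.Normal]
    (h : (Nat.card N).Coprime H.index) : N ≤ H := by
  rw [← relIndex_eq_one]
  exact Nat.eq_one_of_dvd_coprimes h (relIndex_dvd_card H N) (relIndex_dvd_index_of_normal' H N)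

theorem coprime_of_isPiHall {π : Set ℕ} {H : Subgroup G} (h : IsPiHall π H) :
    (Nat.card H).Coprime H.index :=
  Nat.coprime_of_dvd fun q hq h1 h2 => h.2 q hq (h.1 q hq h1) h2

theorem coprime_of_pi {π : Set ℕ} {a b : ℕ} (ha : ∀ q : ℕ, q.Prime → q ∣ a → q ∈ π)
    (hb : ∀ q : ℕ, q.Prime → q ∈ π → ¬ q ∣ b) : a.Coprime b :=
  Nat.coprime_of_dvd fun q hq h1 h2 => hb q hq (ha q hq h1) h2

end

theorem hall_exists_aux (π : Set ℕ) (G : Type u) [Group G] [Finite G] :
    Group.IsSolvable G → ∃ H : Subgroup G, IsPiHall π H := by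
  induction G, ‹Group G›, ‹Finite G› using card_induction' with
  | h G ih =>
  intro hs
  by_cases hb : (⊤ : Subgroup G) = ⊥
  · refine ⟨⊤, fun q hq h => ?_, fun q hq _ h => ?_⟩
    · rw [hb, card_bot] at h; exact absurd h hq.not_dvd_one
    · rw [index_top] at h; exact absurd h hq.not_dvd_one
  obtain ⟨N, -, hN, hNb, -, -, p, hp, hpN⟩ :=
    exists_elementary_normal_le (⊤ : Subgroup G) inferInstance hb
  have := Fact.mk hp
  have hNp := isPGroup_of_pow_eq_one hpN
  obtain ⟨H, hH⟩ := ih (G ⧸ N) (card_quotient_lt hNb) inferInstance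
  by_cases hpπ : p ∈ π
  · refine ⟨H.comap (QuotientGroup.mk' N), fun q hq h => ?_, by rw [index_comap_mk]; exact hH.2⟩
    rw [card_comap_mk] at h
    rcases (Nat.Prime.dvd_mul hq).1 h with h | h
    · exact hH.1 q hq h
    · rwa [eq_of_isPGroup_of_dvd hNp hq h]
  · have h1 : N.relIndex (H.comap (QuotientGroup.mk' N)) = Nat.card H := by
      rw [← card_map_mk_eq_relIndex, map_comap_mk]
    obtain ⟨B, hB, hB1, hB2, hB3⟩ := sz_exists_internal (le_comap_mk N H) le_normalizer_of_normal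
      (by rw [h1]; exact coprime_card_of_isPGroup hNp fun h => hpπ (hH.1 p hp h))
    rw [h1] at hB3
    refine ⟨B, by rw [hB3]; exact hH.1, fun q hq hqπ h => ?_⟩
    have h2 : B.index = Nat.card N * H.index := by
      have e1 := B.card_mul_index
      rw [← (H.comap (QuotientGroup.mk' N)).card_mul_index, card_comap_mk, index_comap_mk, hB3,
        mul_assoc] at e1
      exact Nat.eq_of_mul_eq_mul_left Nat.card_pos e1
    rw [h2] at h
    rcases (Nat.Prime.dvd_mul hq).1 h with h | h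
    · exact hpπ (eq_of_isPGroup_of_dvd hNp hq h ▸ hqπ)
    · exact hH.2 q hq hqπ h

theorem hall_le_conj_aux (G : Type u) [Group G] [Finite G] :
    Group.IsSolvable G → ∀ H K : Subgroup G, (Nat.card H).Coprime H.index →
      (Nat.card K).Coprime H.index → ∃ g : G, K ≤ MulAut.conj g • H := by
  induction G, ‹Group G›, ‹Finite G› using card_induction' with
  | h G ih =>
  intro hs H K hH hK
  by_cases hb : (⊤ : Subgroup G) = ⊥
  · exact ⟨1, le_top.trans (hb ▸ bot_le)⟩
  obtain ⟨N, -, hN, hNb, -, -, p, hp, hpN⟩ :=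
    exists_elementary_normal_le (⊤ : Subgroup G) inferInstance hb
  have := Fact.mk hp
  have hNp := isPGroup_of_pow_eq_one hpN
  have hi := index_map_dvd H (QuotientGroup.mk'_surjective N)
  obtain ⟨g, hg⟩ := ih (G ⧸ N) (card_quotient_lt hNb) inferInstance (H.map (QuotientGroup.mk' N))
    (K.map (QuotientGroup.mk' N)) ((hH.coprime_dvd_left (card_map_dvd _ _)).coprime_dvd_right hi)
    ((hK.coprime_dvd_left (card_map_dvd _ _)).coprime_dvd_right hi)
  obtain ⟨g, rfl⟩ := QuotientGroup.mk'_surjective N g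
  rw [← map_conj_smul, map_mk_le_map_mk_iff] at hg
  by_cases hd : p ∣ H.index
  · have h1 : ∀ L : Subgroup G, (Nat.card L).Coprime H.index → (Nat.card L).Coprime (Nat.card N) :=
      fun L hL => coprime_card_of_isPGroup' hNp (hL.coprime_dvd_right hd)
    obtain ⟨n, -, hn⟩ := sz_le_conj (A := MulAut.conj g • H) (K := N) (B := K)
      le_normalizer_of_normal (by rw [card_conj_smul]; exact h1 H hH) (Or.inr inferInstance)
      (inf_eq_bot_of_coprime' (h1 K hK).symm) (by rwa [sup_comm])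
    exact ⟨n * g, by rwa [← conj_smul_conj_smul]⟩
  · have : N ≤ MulAut.conj g • H :=
      normal_le_of_coprime_index (by rw [index_conj_smul]; exact coprime_card_of_isPGroup hNp hd)
    exact ⟨g, by rwa [sup_of_le_left this] at hg⟩

variable {G : Type*} [Group G] [Finite G]

theorem hall_exists [hs : Group.IsSolvable G] (π : Set ℕ) : ∃ H : Subgroup G, IsPiHall π H :=
  hall_exists_aux π G hs

/-- a subgroup of order coprime to the index of a Hall subgroup lies in a conjugate. -/
theorem hall_le_conj [hs : Group.IsSolvable G] {H K : Subgroup G}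
    (hH : (Nat.card H).Coprime H.index) (hK : (Nat.card K).Coprime H.index) :
    ∃ g : G, K ≤ MulAut.conj g • H :=
  hall_le_conj_aux G hs H K hH hK

theorem index_eq_of_card_eq {H K : Subgroup G} (h : Nat.card H = Nat.card K) :
    H.index = K.index := by
  have := H.card_mul_index
  rw [← K.card_mul_index, h] at this
  exact Nat.eq_of_mul_eq_mul_left Nat.card_pos this

theorem card_eq_of_index_eq {H K : Subgroup G} (h : H.index = K.index) :
    Nat.card H = Nat.card K := by
  have := H.card_mul_index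
  rw [← K.card_mul_index, h] at this
  exact Nat.eq_of_mul_eq_mul_right (Nat.pos_of_ne_zero index_ne_zero_of_finite) this

theorem hall_conj [hs : Group.IsSolvable G] {H K : Subgroup G}
    (hH : (Nat.card H).Coprime H.index) (hK : Nat.card K = Nat.card H) :
    ∃ g : G, MulAut.conj g • H = K := by
  obtain ⟨g, hg⟩ := hall_le_conj hH (hK ▸ hH : (Nat.card K).Coprime H.index)
  exact ⟨g, (eq_of_le_of_card_le hg (by rw [card_conj_smul, hK])).symm⟩

omit [Finite G] in
theorem isPiHall_conj_smul {π : Set ℕ} {H : Subgroup G} (h : IsPiHall π H) (g : G) :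
    IsPiHall π (MulAut.conj g • H) := by
  unfold IsPiHall
  rwa [card_conj_smul, index_conj_smul]

theorem card_eq_of_isPiHall {π : Set ℕ} {H K : Subgroup G} (hH : IsPiHall π H)
    (hK : IsPiHall π K) : Nat.card H = Nat.card K := by
  have key : ∀ {H K : Subgroup G}, IsPiHall π H → IsPiHall π K → Nat.card H ∣ Nat.card K := by
    intro H K hH hK
    apply (coprime_of_pi hH.1 hK.2).dvd_of_dvd_mul_right
    rw [card_mul_index]; exact card_subgroup_dvd_card H
  exact Nat.dvd_antisymm (key hH hK) (key hK hH)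

theorem isPiHall_conj [Group.IsSolvable G] {π : Set ℕ} {H K : Subgroup G} (hH : IsPiHall π H)
    (hK : IsPiHall π K) : ∃ g : G, MulAut.conj g • H = K :=
  hall_conj (coprime_of_isPiHall hH) (card_eq_of_isPiHall hK hH)

theorem exists_isPiHall_ge [Group.IsSolvable G] {π : Set ℕ} {K : Subgroup G}
    (hK : ∀ q : ℕ, q.Prime → q ∣ Nat.card K → q ∈ π) : ∃ H : Subgroup G, IsPiHall π H ∧ K ≤ H := by
  obtain ⟨H, hH⟩ := hall_exists (G := G) π
  obtain ⟨g, hg⟩ := hall_le_conj (coprime_of_isPiHall hH) (coprime_of_pi hK hH.2)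
  exact ⟨_, isPiHall_conj_smul hH g, hg⟩

theorem card_eq_of_isPiHall_of_coprime {m n : ℕ} (hG : Nat.card G = m * n) (hmn : m.Coprime n)
    {H : Subgroup G} (hH : IsPiHall {q | ¬ q ∣ n} H) : Nat.card H = m := by
  have h1 : (Nat.card H).Coprime n := Nat.coprime_of_dvd fun q hq h1 h2 => hH.1 q hq h1 h2
  have h2 : m.Coprime H.index := Nat.coprime_of_dvd fun q hq h1 h2 =>
    hH.2 q hq (fun h3 => hq.one_lt.ne' (Nat.eq_one_of_dvd_coprimes hmn h1 h3)) h2
  apply Nat.dvd_antisymm
  · apply h1.dvd_of_dvd_mul_right; rw [← hG]; exact card_subgroup_dvd_card H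
  · apply h2.dvd_of_dvd_mul_right; rw [card_mul_index, hG]; exact Dvd.intro _ rfl

theorem hall_exists_card_ge [Group.IsSolvable G] {m n : ℕ} (hG : Nat.card G = m * n)
    (hmn : m.Coprime n) {K : Subgroup G} (hK : (Nat.card K).Coprime n) :
    ∃ H : Subgroup G, Nat.card H = m ∧ K ≤ H := by
  obtain ⟨H, hH, h⟩ := exists_isPiHall_ge (π := {q | ¬ q ∣ n}) (K := K)
    fun q hq h1 h2 => hq.one_lt.ne' (Nat.eq_one_of_dvd_coprimes hK h1 h2)
  exact ⟨H, card_eq_of_isPiHall_of_coprime hG hmn hH, h⟩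

/-! ### internal versions -/

omit [Finite G] in
theorem isPiHallOf_iff {π : Set ℕ} {H M : Subgroup G} (h : H ≤ M) :
    IsPiHallOf π H M ↔ IsPiHall π (H.subgroupOf M) := by
  unfold IsPiHallOf IsPiHall
  rw [card_subgroupOf_of_le h]
  exact ⟨fun h => h.2, fun h' => ⟨h, h'⟩⟩

omit [Finite G] in
theorem isPiHallOf_map_subtype {π : Set ℕ} {M : Subgroup G} {H : Subgroup M} (h : IsPiHall π H) :
    IsPiHallOf π (H.map M.subtype) M := by
  rwa [isPiHallOf_iff (map_subtype_le _), map_subtype_subgroupOf]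

omit [Finite G] in
theorem isPiHallOf_top_iff {π : Set ℕ} {H : Subgroup G} : IsPiHallOf π H ⊤ ↔ IsPiHall π H := by
  unfold IsPiHallOf IsPiHall
  rw [relIndex_top_right]
  exact ⟨fun h => h.2, fun h' => ⟨le_top, h'⟩⟩

theorem exists_isPiHallOf_ge {M : Subgroup G} (hM : Group.IsSolvable M) {π : Set ℕ}
    {K : Subgroup G} (hKM : K ≤ M) (hK : ∀ q : ℕ, q.Prime → q ∣ Nat.card K → q ∈ π) :
    ∃ H : Subgroup G, IsPiHallOf π H M ∧ K ≤ H := by
  obtain ⟨H, hH, h⟩ := exists_isPiHall_ge (π := π) (K := K.subgroupOf M)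
    (by rwa [card_subgroupOf_of_le hKM])
  exact ⟨_, isPiHallOf_map_subtype hH, subgroupOf_map_subtype_of_le hKM ▸ map_mono h⟩

theorem exists_isPiHallOf {M : Subgroup G} (hM : Group.IsSolvable M) (π : Set ℕ) :
    ∃ H : Subgroup G, IsPiHallOf π H M := by
  obtain ⟨H, hH⟩ := hall_exists (G := M) π
  exact ⟨_, isPiHallOf_map_subtype hH⟩

theorem isPiHallOf_conj {M : Subgroup G} (hM : Group.IsSolvable M) {π : Set ℕ} {H K : Subgroup G}
    (hH : IsPiHallOf π H M) (hK : IsPiHallOf π K M) : ∃ g ∈ M, MulAut.conj g • H = K := by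
  obtain ⟨g, hg⟩ := isPiHall_conj ((isPiHallOf_iff hH.1).1 hH) ((isPiHallOf_iff hK.1).1 hK)
  exact ⟨g, g.2, conj_of_conj_subgroupOf hH.1 hK.1 g hg⟩

omit [Finite G] in
theorem isPiHallOf_conj_smul {π : Set ℕ} {H M : Subgroup G} (h : IsPiHallOf π H M) (g : G) :
    IsPiHallOf π (MulAut.conj g • H) (MulAut.conj g • M) := by
  unfold IsPiHallOf
  rw [card_conj_smul, relIndex_pointwise_smul]
  exact ⟨conj_smul_mono g h.1, h.2⟩

omit [Finite G] in
theorem isPiHallOf_conj_smul_of_mem_normalizer {π : Set ℕ} {H M : Subgroup G}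
    (h : IsPiHallOf π H M) {g : G} (hg : g ∈ normalizer (M : Set G)) :
    IsPiHallOf π (MulAut.conj g • H) M := by
  have := isPiHallOf_conj_smul h g
  rwa [conj_smul_eq_self_iff.2 hg] at this

omit [Finite G] in
theorem isPiHallOf_of_coprime {H M : Subgroup G} (hHM : H ≤ M)
    (h : (Nat.card H).Coprime (H.relIndex M)) : IsPiHallOf {q | q ∣ Nat.card H} H M :=
  ⟨hHM, fun _ _ h => h, fun _ hq h1 h2 => hq.one_lt.ne' (Nat.eq_one_of_dvd_coprimes h h1 h2)⟩

/-- Frattini argument for Hall subgroups, element form. -/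
theorem isPiHallOf_frattini_elt {M : Subgroup G} (hM : Group.IsSolvable M) {π : Set ℕ}
    {H : Subgroup G} (hH : IsPiHallOf π H M) {g : G} (hg : g ∈ normalizer (M : Set G)) :
    ∃ k ∈ M, k⁻¹ * g ∈ normalizer (H : Set G) := by
  obtain ⟨k, hk, h⟩ := isPiHallOf_conj hM hH (isPiHallOf_conj_smul_of_mem_normalizer hH hg)
  refine ⟨k, hk, ?_⟩
  rw [← conj_smul_eq_self_iff, ← conj_smul_conj_smul, ← h, conj_inv_smul_conj_smul]

theorem isPiHallOf_frattini {M : Subgroup G} [M.Normal] (hM : Group.IsSolvable M) {π : Set ℕ}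
    {H : Subgroup G} (hH : IsPiHallOf π H M) : M ⊔ normalizer (H : Set G) = ⊤ := by
  rw [eq_top_iff]
  intro g _
  obtain ⟨k, hk, h⟩ := isPiHallOf_frattini_elt hM hH (le_normalizer_of_normal (mem_top g))
  have : g = k * (k⁻¹ * g) := by group
  rw [this]
  exact mul_mem (mem_sup_left hk) (mem_sup_right h)

/-- invariant Hall subgroups under coprime action on a solvable group. -/
theorem coprime_exists_isPiHallOf {A K : Subgroup G} (hAK : A ≤ normalizer (K : Set G))
    (hcop : (Nat.card A).Coprime (Nat.card K)) (hs : Group.IsSolvable K) (π : Set ℕ) :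
    ∃ H, IsPiHallOf π H K ∧ A ≤ normalizer (H : Set G) := by
  obtain ⟨H, hH⟩ := exists_isPiHallOf hs π
  obtain ⟨k, hk, h⟩ := glauberman_exists (S := normalizer (H : Set G)) hAK hcop (Or.inr hs)
    (fun a ha => isPiHallOf_frattini_elt hs hH (hAK ha))
  exact ⟨_, isPiHallOf_conj_smul_of_mem_normalizer hH (le_normalizer hk),
    by rwa [normalizer_conj_smul]⟩

theorem coprime_isPiHallOf_conj {A K : Subgroup G} (hAK : A ≤ normalizer (K : Set G))
    (hcop : (Nat.card A).Coprime (Nat.card K)) (hs : Group.IsSolvable K) {π : Set ℕ}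
    {H L : Subgroup G} (hH : IsPiHallOf π H K) (hL : IsPiHallOf π L K)
    (hHA : A ≤ normalizer (H : Set G)) (hLA : A ≤ normalizer (L : Set G)) :
    ∃ c ∈ K ⊓ centralizer (A : Set G), MulAut.conj c • H = L := by
  obtain ⟨k, hk, rfl⟩ := isPiHallOf_conj hs hH hL
  exact coprime_conj_of_conj hAK hcop (Or.inr hs) hHA hk hLA

theorem isPiHallOf_inf_normal {π : Set ℕ} {H K N : Subgroup G} (hH : IsPiHallOf π H K)
    (hNK : N ≤ K) (hN : K ≤ normalizer (N : Set G)) : IsPiHallOf π (H ⊓ N) N := by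
  refine ⟨inf_le_right, fun q hq h => hH.2.1 q hq (h.trans (card_dvd_of_le inf_le_left)),
    fun q hq hqπ hd => hH.2.2 q hq hqπ ?_⟩
  have h1 := card_sup_mul_card_inf (hH.1.trans hN)
  rw [← card_mul_relIndex (le_sup_left : H ≤ H ⊔ N),
    ← card_mul_relIndex (inf_le_right : H ⊓ N ≤ N), mul_assoc, mul_comm (H.relIndex _)] at h1
  have h2 := Nat.eq_of_mul_eq_mul_left Nat.card_pos (Nat.eq_of_mul_eq_mul_left Nat.card_pos h1)
  rw [← h2] at hd
  exact hd.trans ⟨_, (relIndex_mul_relIndex H _ K le_sup_left (sup_le hH.1 hNK)).symm⟩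

omit [Finite G] in
theorem isPiHall_map {G' : Type*} [Group G'] {f : G →* G'} (hf : Function.Surjective f)
    {π : Set ℕ} {H : Subgroup G} (hH : IsPiHall π H) : IsPiHall π (H.map f) :=
  ⟨fun q hq h => hH.1 q hq (h.trans (card_map_dvd H f)),
    fun q hq hqπ h => hH.2 q hq hqπ (h.trans (index_map_dvd H hf))⟩

theorem piCore_le_of_isPiHall {π : Set ℕ} {H : Subgroup G} (hH : IsPiHall π H) : piCore π G ≤ H :=
  normal_le_of_coprime_index (coprime_of_pi (piCore_spec π) hH.2)

end Cfsg.Agent.Solv
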