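import Cfsg.Agent.Lib.Solv.PCyc

/-! Normal subgroups of `p`-groups; groups whose abelian normal subgroups are cyclic. -/

set_option autoImplicit false
open Pointwise Subgroup commutatorElement

namespace Cfsg.Agent.Solv

variable {G : Type*} [Group G]

theorem le_normalizer_iSup {ι : Sort*} {A : Subgroup G} {H : ι → Subgroup G}
    (h : ∀ i, A ≤ normalizer (H i : Set G)) : A ≤ normalizer ((⨆ i, H i : Subgroup G) : Set G) := by
  intro a ha
  rw [← conj_smul_eq_self_iff]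
  exact (Subgroup.map_iSup (MulAut.conj a).toMonoidHom H).trans
    (iSup_congr fun i => conj_smul_eq_self_iff.2 (h i ha))

theorem le_normalizer_of_conj_mem [Finite G] {L K : Subgroup G}
    (h : ∀ g ∈ L, ∀ x ∈ K, g * x * g⁻¹ ∈ K) : L ≤ normalizer (K : Set G) :=
  fun g hg => mem_normalizer_of_conj_mem (h g hg)

theorem normal_iff_top_le_normalizer {K : Subgroup G} : K.Normal ↔ ⊤ ≤ normalizer (K : Set G) := by
  rw [top_le_iff, normalizer_eq_top_iff]

theorem mem_of_isCyclic_of_pow_card [Finite G] {C H : Subgroup G} (hC : IsCyclic C) (hH : H ≤ C)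
    {x : G} (hx : x ∈ C) (h : x ^ Nat.card H = 1) : x ∈ H := by
  classical
  have := Fintype.ofFinite C
  have h1 := IsCyclic.card_pow_eq_one_le (α := C) (n := Nat.card H) Nat.card_pos
  have h2 : (Finset.univ.filter fun a : C => a ∈ H.subgroupOf C) =
      Finset.univ.filter fun a : C => a ^ Nat.card H = 1 := by
    refine Finset.eq_of_subset_of_card_le (fun a ha => ?_) (h1.trans (le_of_eq ?_))
    · simp only [Finset.mem_filter, Finset.mem_univ, true_and] at ha ⊢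
      have h3 : (a : G) ^ Nat.card H = 1 :=
        congrArg Subtype.val (pow_card_eq_one' (x := (⟨a, ha⟩ : H)))
      exact Subtype.ext h3
    · rw [← card_subgroupOf_of_le hH, Nat.card_eq_fintype_card, Fintype.card_subtype]
  have : (⟨x, hx⟩ : C) ∈ Finset.univ.filter fun a : C => a ^ Nat.card H = 1 := by
    simp only [Finset.mem_filter, Finset.mem_univ, true_and]
    exact Subtype.ext h
  rw [← h2] at this
  exact (Finset.mem_filter.1 this).2

theorem pow_card_eq_one_of_mem {H : Subgroup G} {x : G} (hx : x ∈ H) : x ^ Nat.card H = 1 :=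
  congrArg Subtype.val (pow_card_eq_one' (x := (⟨x, hx⟩ : H)))

theorem orderOf_dvd_card_of_mem {H : Subgroup G} {x : G} (hx : x ∈ H) : orderOf x ∣ Nat.card H :=
  orderOf_dvd_of_pow_eq_one (pow_card_eq_one_of_mem hx)

theorem le_of_isCyclic_of_card_dvd [Finite G] {C H K : Subgroup G} (hC : IsCyclic C) (hH : H ≤ C)
    (hK : K ≤ C) (h : Nat.card H ∣ Nat.card K) : H ≤ K := fun _ hx =>
  mem_of_isCyclic_of_pow_card hC hK (hH hx)
    (orderOf_dvd_iff_pow_eq_one.1 ((orderOf_dvd_card_of_mem hx).trans h))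

theorem eq_of_isCyclic_of_card_eq [Finite G] {C H K : Subgroup G} (hC : IsCyclic C) (hH : H ≤ C)
    (hK : K ≤ C) (h : Nat.card H = Nat.card K) : H = K :=
  le_antisymm (le_of_isCyclic_of_card_dvd hC hH hK h.dvd)
    (le_of_isCyclic_of_card_dvd hC hK hH h.symm.dvd)

theorem normalizer_le_normalizer_of_le_isCyclic [Finite G] {C H : Subgroup G} (hC : IsCyclic C)
    (hH : H ≤ C) : normalizer (C : Set G) ≤ normalizer (H : Set G) := fun g hg =>
  conj_smul_eq_self_iff.1 (eq_of_isCyclic_of_card_eq hC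
    (conj_smul_eq_self_iff.2 hg ▸ conj_smul_mono g hH) hH (card_conj_smul _ _))

theorem normal_of_le_isCyclic [Finite G] {C H : Subgroup G} [C.Normal] (hC : IsCyclic C)
    (hH : H ≤ C) : H.Normal :=
  normal_iff_top_le_normalizer.2
    (le_normalizer_of_normal.trans (normalizer_le_normalizer_of_le_isCyclic hC hH))

theorem isCyclic_top_iff : IsCyclic (⊤ : Subgroup G) ↔ IsCyclic G :=
  ⟨fun _ => isCyclic_of_surjective _ topEquiv.surjective, fun _ => inferInstance⟩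

theorem exists_central_mod {L M N : Subgroup G} (hL : Group.IsNilpotent L) (hML : M ≤ L)
    (hLM : L ≤ normalizer (M : Set G)) (h : ¬ M ≤ N) :
    ∃ x ∈ M, x ∉ N ∧ ∀ g ∈ L, ⁅x, g⁆ ∈ N := by
  by_contra hc
  push Not at hc
  obtain ⟨n, hn⟩ := (isNilpotent_iff_lowerCentralSeries L).1 hL
  have : ∀ k, M ⊓ L.lowerCentralSeries (n - k) ≤ N := by
    intro k
    induction k with
    | zero => simp [hn]
    | succ k ih =>
      intro x hx
      by_contra hxN
      obtain ⟨g, hg, h1⟩ := hc x (mem_inf.1 hx).1 hxN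
      refine h1 (ih (mem_inf.2 ⟨commutator_le_left_of_le_normalizer hLM
        (commutator_mem_commutator (mem_inf.1 hx).1 hg), ?_⟩))
      refine L.lowerCentralSeries_antitone (show n - k ≤ n - (k + 1) + 1 by omega) ?_
      rw [Subgroup.lowerCentralSeries_succ]
      exact commutator_mem_commutator (mem_inf.1 hx).2 hg
  have h2 := this n
  rw [Nat.sub_self, Subgroup.lowerCentralSeries_zero, inf_of_le_left hML] at h2
  exact h h2

/-- the elements which are central in `L` modulo `N`. -/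
def centralMod (L N : Subgroup G) : Subgroup G where
  carrier := {x | x ∈ normalizer (N : Set G) ∧ ∀ g ∈ L, ⁅x, g⁆ ∈ N}
  one_mem' := ⟨one_mem _, fun g _ => by simp⟩
  mul_mem' := by
    rintro x y ⟨hx, hx'⟩ ⟨hy, hy'⟩
    refine ⟨mul_mem hx hy, fun g hg => ?_⟩
    rw [show ⁅x * y, g⁆ = x * ⁅y, g⁆ * x⁻¹ * ⁅x, g⁆ by simp only [commutatorElement_def]; group]
    exact mul_mem (conj_mem_of_mem_normalizer hx (hy' g hg)) (hx' g hg)
  inv_mem' := by
    rintro x ⟨hx, hx'⟩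
    refine ⟨inv_mem hx, fun g hg => ?_⟩
    rw [show ⁅x⁻¹, g⁆ = x⁻¹ * ⁅x, g⁆⁻¹ * x by simp only [commutatorElement_def]; group]
    exact conj_mem_of_mem_normalizer' hx (inv_mem (hx' g hg))

theorem mem_centralMod {L N : Subgroup G} {x : G} :
    x ∈ centralMod L N ↔ x ∈ normalizer (N : Set G) ∧ ∀ g ∈ L, ⁅x, g⁆ ∈ N := Iff.rfl

theorem commutator_centralMod_le {L N : Subgroup G} : ⁅centralMod L N, L⁆ ≤ N :=
  commutator_le.2 fun _ hx g hg => hx.2 g hg

theorem le_centralMod {L N : Subgroup G} (h : L ≤ normalizer (N : Set G)) : N ≤ centralMod L N :=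
  fun _ hx => ⟨le_normalizer hx, fun _ hg =>
    commutator_le_left_of_le_normalizer h (commutator_mem_commutator hx hg)⟩

theorem exists_pow_notMem_pow_mem {p : ℕ} {N : Subgroup G} {x : G} (hx : x ∉ N) {k : ℕ}
    (hk : x ^ p ^ k ∈ N) : ∃ j, x ^ p ^ j ∉ N ∧ (x ^ p ^ j) ^ p ∈ N := by
  induction k with
  | zero => exact absurd (by simpa using hk) hx
  | succ k ih =>
    by_cases h : x ^ p ^ k ∈ N
    · exact ih h
    · exact ⟨k, h, by rwa [← pow_mul, ← pow_succ]⟩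

theorem exists_central_mod_pow [Finite G] {p : ℕ} {L M N : Subgroup G} (hL : Group.IsNilpotent L)
    (hM : IsPGroup p M) (hML : M ≤ L) (hLM : L ≤ normalizer (M : Set G))
    (hLN : L ≤ normalizer (N : Set G)) (h : ¬ M ≤ N) :
    ∃ x ∈ M, x ∉ N ∧ x ^ p ∈ N ∧ ∀ g ∈ L, ⁅x, g⁆ ∈ N := by
  obtain ⟨x, hx, hxN, hc⟩ := exists_central_mod hL hML hLM h
  obtain ⟨k, hk⟩ := isPGroup_iff_forall_mem.1 hM x hx
  obtain ⟨j, h1, h2⟩ := exists_pow_notMem_pow_mem (p := p) (k := k) hxN (hk ▸ one_mem N)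
  exact ⟨_, pow_mem hx _, h1, h2,
    (pow_mem (show x ∈ centralMod L N from ⟨hLN (hML hx), hc⟩) _).2⟩

theorem relIndex_sup_zpowers_of_prime [Finite G] {p : ℕ} (hp : p.Prime) {N : Subgroup G} {x : G}
    (hn : x ∈ normalizer (N : Set G)) (hx : x ∉ N) (hxp : x ^ p ∈ N) :
    N.relIndex (N ⊔ zpowers x) = p := by
  have := Fact.mk hp
  rw [sup_comm, relIndex_sup_of_le_normalizer (zpowers_le.2 hn)]
  have hN : (N.subgroupOf (zpowers x)).Normal := inferInstance
  let y : zpowers x := ⟨x, mem_zpowers x⟩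
  have h1 : orderOf (QuotientGroup.mk' (N.subgroupOf (zpowers x)) y) = p :=
    orderOf_eq_prime (by rw [← map_pow]; exact (QuotientGroup.eq_one_iff _).2 hxp)
      fun h => hx ((QuotientGroup.eq_one_iff (N := N.subgroupOf (zpowers x)) y).1 h)
  rw [relIndex, index_eq_card, ← h1, ← Nat.card_zpowers, ← MonoidHom.map_zpowers, eq_comm,
    card_eq_iff_eq_top]
  rw [show zpowers y = ⊤ from ?_, map_top_mk]
  rw [eq_top_iff]
  rintro ⟨_, k, rfl⟩ -
  exact ⟨k, rfl⟩

theorem le_normalizer_of_commutator_le_of_le {L N K : Subgroup G} (h : ⁅K, L⁆ ≤ N) (hNK : N ≤ K) :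
    L ≤ normalizer (K : Set G) := le_normalizer_iff_commutator_le_left.2 (h.trans hNK)

theorem exists_normal_relIndex_prime [Finite G] {p : ℕ} [hp : Fact p.Prime] {L M N : Subgroup G}
    (hL : Group.IsNilpotent L) (hM : IsPGroup p M) (hML : M ≤ L)
    (hLM : L ≤ normalizer (M : Set G)) (hLN : L ≤ normalizer (N : Set G)) (h : N < M) :
    ∃ K, N < K ∧ K ≤ M ∧ N.relIndex K = p ∧ L ≤ normalizer (K : Set G) ∧ ⁅K, L⁆ ≤ N := by
  obtain ⟨x, hx, hxN, hxp, hc⟩ := exists_central_mod_pow hL hM hML hLM hLN h.not_ge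
  have h1 : ⁅N ⊔ zpowers x, L⁆ ≤ N := (commutator_mono (sup_le (le_centralMod hLN)
    (zpowers_le.2 ⟨hLN (hML hx), hc⟩)) le_rfl).trans commutator_centralMod_le
  exact ⟨N ⊔ zpowers x, left_lt_sup.2 fun h => hxN (zpowers_le.1 h), sup_le h.le (zpowers_le.2 hx),
    relIndex_sup_zpowers_of_prime hp.out (hLN (hML hx)) hxN hxp,
    le_normalizer_of_commutator_le_of_le h1 le_sup_left, h1⟩

theorem exists_normal_between_card [Finite G] {p : ℕ} [hp : Fact p.Prime] {L M N : Subgroup G}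
    (hL : Group.IsNilpotent L) (hM : IsPGroup p M) (hML : M ≤ L)
    (hLM : L ≤ normalizer (M : Set G)) (hLN : L ≤ normalizer (N : Set G)) (h : N ≤ M) (k : ℕ)
    (hk : Nat.card N * p ^ k ≤ Nat.card M) :
    ∃ K, N ≤ K ∧ K ≤ M ∧ Nat.card K = Nat.card N * p ^ k ∧ L ≤ normalizer (K : Set G) := by
  induction k with
  | zero => exact ⟨N, le_rfl, h, by simp, hLN⟩
  | succ k ih =>
    have h0 : Nat.card N * p ^ k < Nat.card N * p ^ (k + 1) :=
      Nat.mul_lt_mul_of_pos_left (Nat.pow_lt_pow_right hp.out.one_lt k.lt_succ_self) Nat.card_pos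
    obtain ⟨K, h1, h2, h3, h4⟩ := ih (h0.le.trans hk)
    obtain ⟨K', h5, h6, h7, h8, -⟩ := exists_normal_relIndex_prime hL hM hML hLM h4
      (lt_of_le_of_ne h2 fun e => by rw [← e, h3] at hk; omega)
    exact ⟨K', h1.trans h5.le, h6, by rw [← card_mul_relIndex h5.le, h7, h3, pow_succ, mul_assoc], h8⟩

theorem exists_normal_card [Finite G] {p : ℕ} [hp : Fact p.Prime] {L M : Subgroup G}
    (hL : Group.IsNilpotent L) (hM : IsPGroup p M) (hML : M ≤ L)
    (hLM : L ≤ normalizer (M : Set G)) (k : ℕ) (hk : p ^ k ≤ Nat.card M) :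
    ∃ K, K ≤ M ∧ Nat.card K = p ^ k ∧ L ≤ normalizer (K : Set G) := by
  obtain ⟨K, -, h2, h3, h4⟩ := exists_normal_between_card (N := ⊥) hL hM hML hLM
    le_normalizer_of_normal bot_le k (by simpa using hk)
  exact ⟨K, h2, by simpa using h3, h4⟩

theorem isMulCommutative_sup_zpowers {A : Subgroup G} (hA : IsMulCommutative A) {x : G}
    (hx : x ∈ centralizer (A : Set G)) : IsMulCommutative (A ⊔ zpowers x : Subgroup G) := by
  rw [← le_centralizer_iff_isMulCommutative] at hA ⊢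
  have h1 : zpowers x ≤ centralizer (A : Set G) := zpowers_le.2 hx
  refine sup_le (le_centralizer_iff.1 (sup_le hA h1)) (le_centralizer_iff.1 (sup_le
    (le_centralizer_iff.1 h1) ?_))
  exact le_centralizer_iff_isMulCommutative.2 inferInstance

/-- a maximal abelian normal subgroup is self-centralising. -/
theorem exists_abelian_self_centralizing [Finite G] {L S A₀ : Subgroup G}
    (hL : Group.IsNilpotent L) (hSL : S ≤ L) (hLS : L ≤ normalizer (S : Set G)) (h0 : A₀ ≤ S)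
    (h1 : IsMulCommutative A₀) (h2 : L ≤ normalizer (A₀ : Set G)) :
    ∃ A, A₀ ≤ A ∧ A ≤ S ∧ IsMulCommutative A ∧ L ≤ normalizer (A : Set G) ∧
      S ⊓ centralizer (A : Set G) ≤ A := by
  obtain ⟨A, hA0, ⟨hAS, hA, hLA⟩, hmax⟩ := exists_maximal_ge
    (P := fun A => A ≤ S ∧ IsMulCommutative A ∧ L ≤ normalizer (A : Set G)) ⟨h0, h1, h2⟩
  refine ⟨A, hA0, hAS, hA, hLA, ?_⟩
  by_contra h
  obtain ⟨x, hx, hxA, hc⟩ := exists_central_mod hL (inf_le_left.trans hSL)
    (le_normalizer_inf hLS (le_normalizer_centralizer hLA)) h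
  have h3 : ⁅A ⊔ zpowers x, L⁆ ≤ A := (commutator_mono (sup_le (le_centralMod hLA)
    (zpowers_le.2 ⟨hLA (hSL (mem_inf.1 hx).1), hc⟩)) le_rfl).trans commutator_centralMod_le
  have := hmax (A ⊔ zpowers x) ⟨sup_le hAS (zpowers_le.2 (mem_inf.1 hx).1),
    isMulCommutative_sup_zpowers hA (mem_inf.1 hx).2,
    le_normalizer_of_commutator_le_of_le h3 le_sup_left⟩ le_sup_left
  exact hxA (this ▸ mem_sup_right (mem_zpowers x))

/-- `Ω₁` of an abelian subgroup. -/
def omegaAb (p : ℕ) (A : Subgroup G) (hA : IsMulCommutative A) : Subgroup G where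
  carrier := {x | x ∈ A ∧ x ^ p = 1}
  one_mem' := ⟨one_mem _, one_pow _⟩
  mul_mem' := by
    rintro x y ⟨hx, hx'⟩ ⟨hy, hy'⟩
    exact ⟨mul_mem hx hy, by
      rw [Commute.mul_pow (isMulCommutative_iff.1 hA x hx y hy), hx', hy', one_mul]⟩
  inv_mem' := fun ⟨hx, hx'⟩ => ⟨inv_mem hx, by rw [inv_pow, hx', inv_one]⟩

theorem mem_omegaAb {p : ℕ} {A : Subgroup G} {hA : IsMulCommutative A} {x : G} :
    x ∈ omegaAb p A hA ↔ x ∈ A ∧ x ^ p = 1 := Iff.rfl

theorem le_normalizer_of_omega [Finite G] {p : ℕ} {L B E : Subgroup G}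
    (hL : L ≤ normalizer (B : Set G)) (hE : ∀ x, x ∈ E ↔ x ∈ B ∧ x ^ p = 1) :
    L ≤ normalizer (E : Set G) :=
  le_normalizer_of_conj_mem fun g hg x hx => (hE _).2
    ⟨conj_mem_of_mem_normalizer (hL hg) ((hE x).1 hx).1, by rw [conj_pow, ((hE x).1 hx).2]; simp⟩

theorem sq_le_card_omegaAb [Finite G] {p : ℕ} [hp : Fact p.Prime] {A : Subgroup G}
    (hA : IsMulCommutative A) (hAp : IsPGroup p A) (hnc : ¬ IsCyclic A) :
    p ^ 2 ≤ Nat.card (omegaAb p A hA) := by
  obtain ⟨q, hq, E, hE, hexp⟩ := exists_elementary_sq_of_not_isCyclic hA hnc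
  have := Fact.mk hq
  obtain rfl : q = p := eq_of_isPGroup_of_dvd hAp hq
    ((dvd_pow_self q two_ne_zero).trans (hE ▸ E.card_subgroup_dvd_card))
  rw [← hE, ← card_map_of_injective A.subtype_injective]
  refine card_le_of_le ?_
  rintro _ ⟨x, hx, rfl⟩
  exact ⟨x.2, congrArg Subtype.val (hexp x hx)⟩

theorem exists_normal_elementary_sq_of_abelian [Finite G] {p : ℕ} [hp : Fact p.Prime]
    {L A : Subgroup G} (hL : Group.IsNilpotent L) (hA : IsMulCommutative A) (hAp : IsPGroup p A)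
    (hAL : A ≤ L) (hLA : L ≤ normalizer (A : Set G)) (hnc : ¬ IsCyclic A) :
    ∃ E ≤ A, Nat.card E = p ^ 2 ∧ IsMulCommutative E ∧ (∀ x ∈ E, x ^ p = 1) ∧
      L ≤ normalizer (E : Set G) := by
  have h1 : omegaAb p A hA ≤ A := fun x hx => hx.1
  obtain ⟨E, h2, h3, h4⟩ := exists_normal_card hL (hAp.to_le h1) (h1.trans hAL)
    (le_normalizer_of_omega hLA fun _ => mem_omegaAb) 2 (sq_le_card_omegaAb hA hAp hnc)
  exact ⟨E, h2.trans h1, h3, isMulCommutative_of_le (h2.trans h1) hA, fun x hx => (h2 hx).2, h4⟩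

theorem isCyclic_bot' : IsCyclic (⊥ : Subgroup G) := inferInstance

/-- for odd `p` a noncyclic normal subgroup contains a normal subgroup of type `(p, p)`. -/
theorem exists_normal_elementary_sq [Finite G] {p : ℕ} [hp : Fact p.Prime] (hp2 : p ≠ 2)
    {L S : Subgroup G} (hL : Group.IsNilpotent L) (hS : IsPGroup p S) (hSL : S ≤ L)
    (hLS : L ≤ normalizer (S : Set G)) (hnc : ¬ IsCyclic S) :
    ∃ E ≤ S, Nat.card E = p ^ 2 ∧ IsMulCommutative E ∧ (∀ x ∈ E, x ^ p = 1) ∧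
      L ≤ normalizer (E : Set G) := by
  obtain ⟨A, -, hAS, hA, hLA, hC⟩ := exists_abelian_self_centralizing (A₀ := ⊥) hL hSL hLS bot_le
    inferInstance le_normalizer_of_normal
  by_cases hc : IsCyclic A
  · obtain ⟨B, h1, h2, h3, h4, -⟩ := exists_normal_relIndex_prime hL hS hSL hLS hLA
      (lt_of_le_of_ne hAS fun h => hnc (h ▸ hc))
    obtain ⟨E, h5, h6, h7⟩ := omega_of_cyclic_index_odd hp2 (hS.to_le h2) h1.le hc h3 fun hB => by
      refine h1.not_ge (le_trans (le_inf h2 ?_) hC)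
      exact le_centralizer_iff.1 (h1.le.trans (le_centralizer_iff_isMulCommutative.2 inferInstance))
    exact ⟨E, fun x hx => h2 ((h7 x).1 hx).1, h5, h6, fun x hx => ((h7 x).1 hx).2,
      le_normalizer_of_omega h4 h7⟩
  · obtain ⟨E, h1, h2⟩ := exists_normal_elementary_sq_of_abelian hL hA (hS.to_le hAS)
      (hAS.trans hSL) hLA hc
    exact ⟨E, h1.trans hAS, h2⟩

theorem not_isCyclic_of_card_sq {p : ℕ} (hp : p.Prime) {E : Subgroup G} (hE : Nat.card E = p ^ 2)
    (hexp : ∀ x ∈ E, x ^ p = 1) : ¬ IsCyclic E := fun h => by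
  obtain ⟨g, hg⟩ := h.exists_generator
  have h1 := orderOf_eq_card_of_forall_mem_zpowers hg
  have h2 : orderOf g ∣ p := orderOf_dvd_of_pow_eq_one (Subtype.ext (hexp g g.2))
  rw [h1, hE] at h2
  have := Nat.le_of_dvd hp.pos h2
  have := hp.one_lt
  nlinarith

theorem exists_two_subgroups_of_card_sq [Finite G] {p : ℕ} (hp : p.Prime) {E : Subgroup G}
    (hE : Nat.card E = p ^ 2) (hexp : ∀ x ∈ E, x ^ p = 1) :
    ∃ H ≤ E, ∃ K ≤ E, Nat.card H = p ∧ Nat.card K = p ∧ H ≠ K := by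
  have := Fact.mk hp
  have hnc := not_isCyclic_of_card_sq hp hE hexp
  obtain ⟨x, hx, hx1⟩ := exists_ne_one_of_ne_bot (H := E) fun h => hnc (h ▸ isCyclic_bot')
  obtain ⟨y, hy, hyx⟩ : ∃ y ∈ E, y ∉ zpowers x := by
    by_contra h
    push Not at h
    exact hnc (isCyclic_iff_exists_le_zpowers.2 ⟨x, hx, h⟩)
  refine ⟨zpowers x, zpowers_le.2 hx, zpowers y, zpowers_le.2 hy, ?_, ?_, fun h => hyx (h ▸ mem_zpowers y)⟩
  · rw [Nat.card_zpowers, orderOf_eq_prime (hexp x hx) hx1]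
  · rw [Nat.card_zpowers, orderOf_eq_prime (hexp y hy) fun h => hyx (h ▸ one_mem _)]

/-- a self-centralising cyclic normal subgroup of a `2`-group has index two unless some element
acts in the modular way. -/
theorem index_two_or_modular [Finite G] {S : Subgroup G} (hS : IsPGroup 2 S) {a : G} {m : ℕ}
    (ha : orderOf a = 2 ^ (m + 1)) (haS : a ∈ S) (hn : S ≤ normalizer (zpowers a : Set G))
    (hC : ∀ g ∈ S, Commute g a → g ∈ zpowers a) (hne : ¬ S ≤ zpowers a) :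
    (zpowers a).relIndex S = 2 ∨
      (2 ≤ m ∧ ∃ b ∈ S, b ∉ zpowers a ∧ b ^ 2 = 1 ∧ b * a * b⁻¹ = a ^ (1 + 2 ^ m)) := by
  by_contra hcon
  rw [not_or] at hcon
  obtain ⟨h1, h2⟩ := hcon
  apply h1
  have odd : ∀ g ∈ S, ∀ r : ℤ, g * a * g⁻¹ = a ^ r → 2 ∣ r - 1 := by
    intro g hg r hr
    obtain ⟨n, hgn⟩ := isPGroup_iff_forall_mem.1 hS g hg
    have h5 := pow_modEq_one_of_conj hr (n := 2 ^ n) (by rw [hgn]; exact Commute.one_left a)
    have h6 : (2 : ℤ) ∣ r ^ 2 ^ n - 1 := Dvd.dvd.trans ⟨2 ^ m, by rw [ha]; push_cast; ring⟩ h5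
    rw [← even_iff_two_dvd, Int.even_sub_one, Int.not_even_iff_odd] at h6 ⊢
    exact (Int.odd_pow' (pow_ne_zero _ two_ne_zero)).1 h6
  have hm : 1 ≤ m := by
    rcases m with _ | m
    · refine absurd (fun g hg => hC g hg ?_) hne
      obtain ⟨r, hr⟩ := conj_mem_of_mem_normalizer (hn hg) (mem_zpowers a)
      simp only at hr
      rw [Commute, SemiconjBy, ← mul_inv_eq_iff_eq_mul, ← hr]
      conv_rhs => rw [← zpow_one a]
      rw [zpow_eq_zpow_iff_modEq, ha, Int.modEq_comm, Int.modEq_iff_dvd]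
      exact_mod_cast odd g hg r hr.symm
    · omega
  obtain ⟨k, rfl⟩ := Nat.exists_eq_add_of_le' hm
  have h4 : (4 : ℤ) ∣ orderOf a := ⟨2 ^ k, by rw [ha]; push_cast; ring⟩
  -- exponents
  have key : ∀ g ∈ S, ∀ r : ℤ, g * a * g⁻¹ = a ^ r → 4 ∣ r - 1 → g ∈ zpowers a := by
    intro g hg r hr h41
    by_contra hga
    obtain ⟨n, hgn⟩ := isPGroup_iff_forall_mem.1 hS g hg
    obtain ⟨j, hj1, hj2⟩ := exists_pow_notMem_pow_mem (p := 2) (k := n) hga (hgn ▸ one_mem _)
    have hjS : g ^ 2 ^ j ∈ S := pow_mem hg _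
    have h5 := pow_conj_eq_zpow hr (2 ^ j)
    have h6 : (4 : ℤ) ∣ r ^ 2 ^ j - 1 := h41.trans (by simpa using sub_dvd_pow_sub_pow r 1 (2 ^ j))
    have h7 : ∀ s : ℤ, g ^ 2 ^ j * a * (g ^ 2 ^ j)⁻¹ = a ^ s → 4 ∣ s - 1 := fun s hs => by
      rw [h5, zpow_eq_zpow_iff_modEq, Int.modEq_iff_dvd] at hs
      have := h4.trans hs
      omega
    obtain ⟨x, hx, h | h | h | h⟩ := exists_normal_form_two ha
      (conj_mem_of_mem_normalizer (hn hjS) (mem_zpowers a)) hj2 fun h => hj1 (hC _ hjS h)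
    · have := h7 (-1) (by simpa using h.2); omega
    · have := h7 (-1) (by simpa using h.2); omega
    · refine h2 ⟨h.1, _, mul_mem (zpowers_le.2 haS hx) hjS,
        fun e => hj1 ((mul_mem_cancel_left hx).1 e), h.2.1, ?_⟩
      rw [show x * g ^ 2 ^ j * a * (x * g ^ 2 ^ j)⁻¹ = x * (g ^ 2 ^ j * a * (g ^ 2 ^ j)⁻¹) * x⁻¹ by group,
        h.2.2, ((commute_of_mem_zpowers hx).pow_right _).eq, mul_inv_cancel_right]
    · obtain ⟨l, rfl⟩ : ∃ l, k = l + 1 := ⟨k - 1, by omega⟩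
      have := h7 _ (by rw [h.2.2, ← zpow_natCast])
      rw [Nat.cast_sub Nat.one_le_two_pow] at this
      push_cast at this
      rw [pow_succ, pow_succ] at this
      omega
  obtain ⟨b, hb, hba⟩ := SetLike.not_le_iff_exists.1 hne
  rw [relIndex_eq_two_iff]
  refine ⟨b, hb, fun g hg => ?_⟩
  by_cases hga : g ∈ zpowers a
  · exact .inr ⟨hga, fun h => hba ((mul_mem_cancel_left hga).1 h)⟩
  refine .inl ⟨?_, hga⟩
  obtain ⟨r, hr⟩ := conj_mem_of_mem_normalizer (hn hg) (mem_zpowers a)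
  obtain ⟨s, hs⟩ := conj_mem_of_mem_normalizer (hn hb) (mem_zpowers a)
  simp only at hr hs
  refine key _ (mul_mem hg hb) (r * s) ?_ ?_
  · rw [show g * b * a * (g * b)⁻¹ = g * (b * a * b⁻¹) * g⁻¹ by group, ← hs,
      Transfer.conj_zpow_eq hr.symm]
  · have e1 := odd g hg r hr.symm
    have e2 := odd b hb s hs.symm
    have e3 : ¬ 4 ∣ r - 1 := fun h => hga (key g hg r hr.symm h)
    have e4 : ¬ 4 ∣ s - 1 := fun h => hba (key b hb s hs.symm h)
    obtain ⟨u, rfl⟩ : ∃ u, r = 4 * u + 3 := ⟨r / 4, by omega⟩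
    obtain ⟨v, rfl⟩ : ∃ v, s = 4 * v + 3 := ⟨s / 4, by omega⟩
    exact ⟨4 * u * v + 3 * u + 3 * v + 2, by ring⟩

theorem modular_of_dvd' {p m : ℕ} {a b : G} (ha : orderOf a = p ^ (m + 1)) {r : ℤ}
    (h : b * a * b⁻¹ = a ^ r) (h1 : (p : ℤ) ∣ r - 1) : Commute b (a ^ p ^ m) := by
  rw [Commute, SemiconjBy, ← mul_inv_eq_iff_eq_mul, ← conj_pow, h, ← zpow_natCast, ← zpow_mul,
    ← zpow_natCast, zpow_eq_zpow_iff_modEq, ha, Int.modEq_comm, Int.modEq_iff_dvd]
  push_cast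
  rw [← sub_one_mul, pow_succ']
  exact mul_dvd_mul_right h1 _

/-- `2`-groups all of whose abelian normal subgroups are cyclic. -/
theorem two_group_normal_form [Finite G] {S : Subgroup G} (hS : IsPGroup 2 S)
    (h : ∀ A ≤ S, S ≤ normalizer (A : Set G) → IsMulCommutative A → IsCyclic A) (hnc : ¬ IsCyclic S) :
    ∃ (a b : G) (m : ℕ), orderOf a = 2 ^ (m + 1) ∧ b ∉ zpowers a ∧ S = zpowers a ⊔ zpowers b ∧
      Nat.card S = 2 ^ (m + 2) ∧
      ((2 ≤ m ∧ b ^ 2 = 1 ∧ b * a * b⁻¹ = a⁻¹) ∨ (1 ≤ m ∧ b ^ 2 = a ^ 2 ^ m ∧ b * a * b⁻¹ = a⁻¹) ∨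
        (2 ≤ m ∧ b ^ 2 = 1 ∧ b * a * b⁻¹ = a ^ (2 ^ m - 1))) := by
  have := Fact.mk Nat.prime_two
  obtain ⟨A, -, hAS, hA, hSA, hC⟩ := exists_abelian_self_centralizing (A₀ := ⊥) hS.isNilpotent
    le_rfl le_normalizer bot_le inferInstance le_normalizer_of_normal
  obtain ⟨a, rfl⟩ := (Subgroup.isCyclic_iff_exists_zpowers_eq_top A).1 (h A hAS hSA hA)
  have haS : a ∈ S := hAS (mem_zpowers a)
  have hC' : ∀ g ∈ S, Commute g a → g ∈ zpowers a := fun g hg hc => hC (mem_inf.2 ⟨hg,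
    mem_centralizer_iff.2 fun x hx => (Commute.of_mem_zpowers hc.symm hx (mem_zpowers g)).eq⟩)
  have hne : ¬ S ≤ zpowers a := fun h => hnc (isCyclic_iff_exists_le_zpowers.2 ⟨a, haS, h⟩)
  obtain ⟨m, ha⟩ := exists_orderOf_eq_pow hS haS
  rcases m with _ | m
  · rw [pow_zero, orderOf_eq_one_iff] at ha
    exact absurd (fun g hg => hC' g hg (ha ▸ Commute.one_right g)) hne
  have nomod : ∀ b ∈ S, b ∉ zpowers a → b ^ 2 = 1 → 2 ≤ m → b * a * b⁻¹ ≠ a ^ (1 + 2 ^ m) := by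
    intro b hb hba hb2 hm e
    obtain ⟨E, h1, h2, h3⟩ := omega_of_modular_two hm ha hba e hb2
    have h4 : zpowers a ⊔ zpowers b ≤ S := sup_le hAS (zpowers_le.2 hb)
    refine not_isCyclic_of_card_sq Nat.prime_two h1 (fun x hx => ((h3 x).1 hx).2)
      (h E (fun x hx => h4 ((h3 x).1 hx).1) (le_normalizer_of_omega ?_ h3) h2)
    refine le_normalizer_of_commutator_le_of_le (N := zpowers a) ?_ le_sup_left
    refine (commutator_mono h4 le_rfl).trans (commutator_le.2 fun x hx y hy => ?_)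
    obtain ⟨r, hr⟩ := conj_mem_of_mem_normalizer (hSA hx) (mem_zpowers a)
    obtain ⟨s, hs⟩ := conj_mem_of_mem_normalizer (hSA hy) (mem_zpowers a)
    simp only at hr hs
    refine hC' _ (commutator_le_self S (commutator_mem_commutator hx hy)) ?_
    have e1 : x * y * a * (x * y)⁻¹ = y * x * a * (y * x)⁻¹ := by
      rw [show x * y * a * (x * y)⁻¹ = x * (y * a * y⁻¹) * x⁻¹ by group,
        show y * x * a * (y * x)⁻¹ = y * (x * a * x⁻¹) * y⁻¹ by group, ← hs,
        Transfer.conj_zpow_eq hr.symm, ← hr, Transfer.conj_zpow_eq hs.symm, mul_comm]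
    obtain ⟨t, ht⟩ := conj_mem_of_mem_normalizer' (hSA (mul_mem hy hx)) (mem_zpowers a)
    simp only at ht
    rw [Commute, SemiconjBy, ← mul_inv_eq_iff_eq_mul, commutatorElement_def]
    calc x * y * x⁻¹ * y⁻¹ * a * (x * y * x⁻¹ * y⁻¹)⁻¹
        = x * y * ((y * x)⁻¹ * a * (y * x)) * (x * y)⁻¹ := by group
      _ = y * x * ((y * x)⁻¹ * a * (y * x)) * (y * x)⁻¹ := by
        rw [← ht, ← conj_zpow, ← conj_zpow, e1]
      _ = a := by group
  have hi : (zpowers a).relIndex S = 2 := by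
    rcases index_two_or_modular hS ha haS hSA hC' hne with h | ⟨hm, b, hb, hba, hb2, e⟩
    · exact h
    · exact absurd e (nomod b hb hba hb2 hm)
  obtain ⟨b, hb, hba⟩ := SetLike.not_le_iff_exists.1 hne
  obtain ⟨x, hx, hcase⟩ := exists_normal_form_two ha
    (conj_mem_of_mem_normalizer (hSA hb) (mem_zpowers a)) (hi ▸ pow_relIndex_mem hAS hSA hb)
    fun h => hba (hC' b hb h)
  have h1 : x * b ∉ zpowers a := fun h => hba ((mul_mem_cancel_left hx).1 h)
  have h2 : x * b ∈ S := mul_mem (hAS hx) hb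
  have h3 : x * b * a * (x * b)⁻¹ = b * a * b⁻¹ := by
    rw [show x * b * a * (x * b)⁻¹ = x * (b * a * b⁻¹) * x⁻¹ by group,
      (Commute.of_mem_zpowers (Commute.refl a) hx
        (conj_mem_of_mem_normalizer (hSA hb) (mem_zpowers a))).eq, mul_inv_cancel_right]
  have hs := sup_zpowers_eq_of_relIndex_prime hAS (hi ▸ Nat.prime_two) h2 h1
  have hm : 1 ≤ m := by
    rcases m with _ | m
    · refine absurd (hC' b hb ?_) hba
      rcases conj_cases_two ha (conj_mem_of_mem_normalizer (hSA hb) (mem_zpowers a))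
        (commute_of_mem_zpowers (hi ▸ pow_relIndex_mem hAS hSA hb)) with h | h | h | h
      · exact h
      · rw [inv_eq_of_mul_eq_one_right (show a * a = 1 by
          rw [← pow_two, ← orderOf_dvd_iff_pow_eq_one, ha]; rfl)] at h
        exact mul_inv_eq_iff_eq_mul.1 h
      · omega
      · omega
    · omega
  refine ⟨a, x * b, m, ha, h1, hs.symm, by
    rw [← card_mul_relIndex hAS, hi, Nat.card_zpowers, ha, ← pow_succ], ?_⟩
  rw [← h3] at hcase
  generalize x * b = c at *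
  rcases hcase with h4 | h4 | h4 | h4
  · refine .inl ⟨?_, h4⟩
    by_contra hm2
    obtain rfl : m = 1 := by omega
    have hz : Commute (a ^ 2) c := by
      rw [Commute, SemiconjBy, eq_comm, ← mul_inv_eq_iff_eq_mul, ← conj_pow, h4.2, inv_pow,
        inv_eq_iff_mul_eq_one, ← pow_add, ← orderOf_dvd_iff_pow_eq_one, ha]; rfl
    have hza : zpowers (a ^ 2) ≤ zpowers a := zpowers_le.2 (pow_mem (mem_zpowers a) _)
    have hE := h (zpowers (a ^ 2) ⊔ zpowers c) (sup_le (hza.trans hAS) (zpowers_le.2 h2)) (by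
      rw [← hs]
      refine sup_le (zpowers_le.2 ?_) (le_sup_right.trans le_normalizer)
      rw [← conj_smul_eq_self_iff, smul_sup]
      refine eq_of_le_of_card_le (sup_le ?_ ?_) (by rw [← smul_sup, card_conj_smul])
      · exact (conj_smul_eq_self_iff.2 (mem_normalizer_zpowers (by
          rw [show a * a ^ 2 * a⁻¹ = a ^ 2 by group]; exact mem_zpowers _))).le.trans
          le_sup_left
      · rintro _ ⟨_, ⟨k, rfl⟩, rfl⟩
        show a * c ^ k * a⁻¹ ∈ _
        rw [← conj_zpow, show a * c * a⁻¹ = a * (c * a * c⁻¹)⁻¹ * c by group, h4.2, inv_inv, ← pow_two]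
        exact zpow_mem (mul_mem (mem_sup_left (mem_zpowers _)) (mem_sup_right (mem_zpowers _))) k)
      (isMulCommutative_zpowers_sup hz)
    refine not_isCyclic_of_card_sq Nat.prime_two ?_ ?_ hE
    · rw [card_zpowers_sup_zpowers hz (zpowers_inf_eq_bot_of_prime Nat.prime_two h4.1
        fun h => h1 (hza h)), orderOf_eq_prime h4.1 (fun h => h1 (h ▸ one_mem _)),
        orderOf_pow_of_dvd two_ne_zero (ha ▸ ⟨2, rfl⟩), ha]
      rfl
    · intro y hy
      obtain ⟨u, hu, v, hv, rfl⟩ := (mem_sup_of_le_normalizer' (zpowers_le.2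
        (mem_normalizer_zpowers (by rw [← hz.eq]; simp)))).1 hy
      rw [(Commute.of_mem_zpowers hz hu hv).mul_pow, pow_eq_one_of_mem_zpowers h4.1 hv,
        pow_eq_one_of_mem_zpowers (by rw [← pow_mul, ← orderOf_dvd_iff_pow_eq_one, ha]; rfl) hu,
        one_mul]
  · exact .inr (.inl ⟨hm, h4⟩)
  · exact absurd h4.2.2 (nomod c h2 h1 h4.2.1 h4.1)
  · exact .inr (.inr h4)

theorem nonempty_quaternion_of_gens [Finite G] {S : Subgroup G} {a b : G} {m : ℕ}
    (ha : orderOf a = 2 ^ (m + 1)) (hb : b ∉ zpowers a) (hS : S = zpowers a ⊔ zpowers b)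
    (h1 : b ^ 2 = a ^ 2 ^ m) (h2 : b * a * b⁻¹ = a⁻¹) :
    Nonempty (S ≃* QuaternionGroup (2 ^ m)) := by
  rw [hS, ← Transfer.closure_pair_eq]
  exact Transfer.nonempty_quaternion_closure (by rw [ha, pow_succ']) h2 h1 hb

theorem nonempty_dihedral_of_gens [Finite G] {S : Subgroup G} {a b : G}
    (hb : b ∉ zpowers a) (hS : S = zpowers a ⊔ zpowers b)
    (h1 : b ^ 2 = 1) (h2 : b * a * b⁻¹ = a⁻¹) :
    Nonempty (S ≃* DihedralGroup (orderOf a)) := by
  rw [hS, ← Transfer.closure_pair_eq]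
  exact Transfer.nonempty_dihedral_closure h2 h1 hb

/-- a `p`-group whose abelian subgroups are cyclic is cyclic or generalized quaternion. -/
theorem isCyclic_or_quaternion [Finite G] {p : ℕ} [hp : Fact p.Prime] {S : Subgroup G}
    (hS : IsPGroup p S)
    (h : ∀ E ≤ S, Nat.card E = p ^ 2 → IsMulCommutative E → (∀ x ∈ E, x ^ p = 1) → False) :
    IsCyclic S ∨ (p = 2 ∧ ∃ (a b : G) (m : ℕ), 1 ≤ m ∧ orderOf a = 2 ^ (m + 1) ∧ b ∉ zpowers a ∧
      S = zpowers a ⊔ zpowers b ∧ Nat.card S = 2 ^ (m + 2) ∧ b ^ 2 = a ^ 2 ^ m ∧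
      b * a * b⁻¹ = a⁻¹) := by
  by_cases hc : IsCyclic S
  · exact .inl hc
  by_cases hp2 : p = 2
  · subst hp2
    refine .inr ⟨rfl, ?_⟩
    have hab : ∀ A ≤ S, IsMulCommutative A → IsCyclic A := fun A hAS hA => by
      by_contra hA'
      obtain ⟨E, h1, h2, h3, h4, -⟩ := exists_normal_elementary_sq_of_abelian
        (hS.to_le hAS).isNilpotent hA (hS.to_le hAS) le_rfl le_normalizer hA'
      exact h E (h1.trans hAS) h2 h3 h4
    obtain ⟨a, b, m, ha, hb, hs, hcard, hcase⟩ := two_group_normal_form hS (fun A hA _ => hab A hA) hc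
    have key : b ^ 2 = 1 → Commute b (a ^ 2 ^ m) → False := fun hb2 hz => by
      have hza : zpowers (a ^ 2 ^ m) ≤ zpowers a := zpowers_le.2 (pow_mem (mem_zpowers a) _)
      refine h (zpowers (a ^ 2 ^ m) ⊔ zpowers b) (hs ▸ sup_le_sup_right hza _) ?_
        (isMulCommutative_zpowers_sup hz.symm) fun y hy => ?_
      · rw [card_zpowers_sup_zpowers hz.symm (zpowers_inf_eq_bot_of_prime Nat.prime_two hb2
          fun h => hb (hza h)), orderOf_eq_prime hb2 (fun h => hb (h ▸ one_mem _)),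
          orderOf_pow_of_dvd (pow_ne_zero _ two_ne_zero) (ha ▸ pow_dvd_pow 2 m.le_succ), ha,
          pow_succ', Nat.mul_div_cancel _ (pow_pos two_pos m), pow_two]
      · obtain ⟨u, hu, v, hv, rfl⟩ := (mem_sup_of_le_normalizer' (zpowers_le.2
          (mem_normalizer_zpowers (by rw [hz.eq]; simp)))).1 hy
        rw [(Commute.of_mem_zpowers hz.symm hu hv).mul_pow, pow_eq_one_of_mem_zpowers hb2 hv,
          pow_eq_one_of_mem_zpowers (pow_pow_pow_eq_one ha) hu, one_mul]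
    rcases hcase with h1 | h1 | h1
    · refine (key h1.2.1 (modular_of_dvd' ha (r := -1) (by simpa using h1.2.2) ⟨-1, by norm_num⟩)).elim
    · exact ⟨a, b, m, h1.1, ha, hb, hs, hcard, h1.2⟩
    · refine (key h1.2.1 (modular_of_dvd' ha (by rw [h1.2.2, ← zpow_natCast]) ?_)).elim
      obtain ⟨k, rfl⟩ := Nat.exists_eq_add_of_le' h1.1
      exact ⟨2 ^ (k + 1) - 1, by rw [Nat.cast_sub Nat.one_le_two_pow]; push_cast; ring⟩
  · obtain ⟨E, h1, h2, h3, h4, -⟩ := exists_normal_elementary_sq hp2 hS.isNilpotent hS le_rfl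
      le_normalizer hc
    exact (h E h1 h2 h3 h4).elim

end Cfsg.Agent.Solv
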