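import Cfsg.Agent.Lib.Solv.Hall
import Cfsg.Agent.Lib.Transfer.Count
import Cfsg.Agent.Lib.Comp.SylIn

/-! Counting elements through their `π`-parts; Frobenius' theorem on the solutions of `x ^ n = c`. -/

namespace Cfsg.Agent.Solv
open Pointwise Subgroup Cfsg.Agent.Transfer

section gen
variable {α β : Type*}

open Classical in
theorem dvd_sum_of_fiber [Fintype α] (f : α → β) (g : α → ℕ) {d : ℕ}
    (h : ∀ x, d ∣ ∑ y, if f y = f x then g y else 0) : d ∣ ∑ x, g x := by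
  rw [← Finset.sum_fiberwise_of_maps_to (s := Finset.univ) (t := Finset.univ.image f) (g := f)
    (fun x _ => Finset.mem_image_of_mem f (Finset.mem_univ x))]
  refine Finset.dvd_sum fun j hj => ?_
  obtain ⟨x, -, rfl⟩ := Finset.mem_image.1 hj
  rw [Finset.sum_filter]
  exact h x

theorem dvd_cnt_of_fiber [Finite α] {p : α → Prop} (f : α → β) {d : ℕ}
    (h : ∀ x, p x → d ∣ Nat.card {y // p y ∧ f y = f x}) : d ∣ Nat.card {x // p x} := by
  classical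
  have := Fintype.ofFinite α
  rw [cnt_eq_sum]
  refine dvd_sum_of_fiber f _ fun x => ?_
  by_cases h1 : ∃ y, p y ∧ f y = f x
  · obtain ⟨y, h1, h2⟩ := h1
    have := h y h1
    rw [cnt_eq_sum, h2] at this
    convert this using 2 with z
    by_cases h3 : p z <;> by_cases h4 : f z = f x <;> simp [h3, h4]
  · rw [Finset.sum_eq_zero]
    · exact dvd_zero _
    · intro z _
      by_cases h3 : p z <;> by_cases h4 : f z = f x <;> simp [h3, h4]
      exact h1 ⟨z, h3, h4⟩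

theorem exists_pi_split (π : Set ℕ) {n : ℕ} (hn : n ≠ 0) : ∃ a b, n = a * b ∧
    (∀ q : ℕ, q.Prime → q ∣ a → q ∈ π) ∧ ∀ q : ℕ, q.Prime → q ∣ b → q ∉ π := by
  induction n using Nat.recOnMul with
  | zero => exact absurd rfl hn
  | one => exact ⟨1, 1, rfl, fun q hq h => absurd (Nat.dvd_one.1 h) hq.ne_one,
      fun q hq h => absurd (Nat.dvd_one.1 h) hq.ne_one⟩
  | prime p hp =>
    by_cases h : p ∈ π
    · exact ⟨p, 1, by simp, fun q hq h1 => (Nat.prime_dvd_prime_iff_eq hq hp).1 h1 ▸ h,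
        fun q hq h => absurd (Nat.dvd_one.1 h) hq.ne_one⟩
    · exact ⟨1, p, by simp, fun q hq h => absurd (Nat.dvd_one.1 h) hq.ne_one,
        fun q hq h1 => (Nat.prime_dvd_prime_iff_eq hq hp).1 h1 ▸ h⟩
  | mul a b iha ihb =>
    obtain ⟨a1, a2, rfl, h1, h2⟩ := iha (left_ne_zero_of_mul hn)
    obtain ⟨b1, b2, rfl, h3, h4⟩ := ihb (right_ne_zero_of_mul hn)
    exact ⟨a1 * b1, a2 * b2, by ring, fun q hq h => ((Nat.Prime.dvd_mul hq).1 h).elim (h1 q hq) (h3 q hq),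
      fun q hq h => ((Nat.Prime.dvd_mul hq).1 h).elim (h2 q hq) (h4 q hq)⟩

theorem dvd_of_forall_prime_pow {d n : ℕ} (hd : d ≠ 0)
    (h : ∀ p k : ℕ, p.Prime → p ^ k ∣ d → p ^ k ∣ n) : d ∣ n :=
  (Nat.dvd_iff_prime_pow_dvd_dvd n d).2 fun p k hp hk => h p k hp hk

end gen

variable {G : Type*} [Group G] {π : Set ℕ}

/-- `x` is a `π`-element. -/
def PiE (π : Set ℕ) (x : G) : Prop := ∀ q : ℕ, q.Prime → q ∣ orderOf x → q ∈ π

theorem PiE.coprime {u v : G} (hu : PiE π u) (hv : PiE πᶜ v) : (orderOf u).Coprime (orderOf v) :=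
  Nat.coprime_of_dvd fun q hq h1 h2 => hv q hq h2 (hu q hq h1)

theorem piE_one : PiE π (1 : G) := fun q hq h => by
  rw [orderOf_one] at h; exact absurd (Nat.dvd_one.1 h) hq.ne_one

theorem PiE.of_dvd {H : Type*} [Group H] {u : G} {v : H} (hu : PiE π u) (h : orderOf v ∣ orderOf u) : PiE π v :=
  fun q hq h1 => hu q hq (h1.trans h)

theorem PiE.conj {u : G} (hu : PiE π u) (g : G) : PiE π (g * u * g⁻¹) :=
  hu.of_dvd (by rw [Transfer.orderOf_conj])

theorem piE_conj_iff {u g : G} : PiE π (g * u * g⁻¹) ↔ PiE π u := by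
  unfold PiE; rw [Transfer.orderOf_conj]

theorem PiE.inv {u : G} (hu : PiE π u) : PiE π u⁻¹ := hu.of_dvd (by rw [orderOf_inv])

theorem PiE.pow {u : G} (hu : PiE π u) (n : ℕ) : PiE π (u ^ n) := hu.of_dvd (orderOf_pow_dvd n)

theorem PiE.of_mem_zpowers {u v : G} (hu : PiE π u) (h : v ∈ zpowers u) : PiE π v :=
  hu.of_dvd (orderOf_dvd_of_mem_zpowers h)

theorem PiE.mul {u v : G} (hu : PiE π u) (hv : PiE π v) (h : Commute u v) : PiE π (u * v) :=
  fun q hq h1 => ((Nat.Prime.dvd_mul hq).1 (h1.trans h.orderOf_mul_dvd_mul_orderOf)).elim (hu q hq) (hv q hq)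

theorem PiE.map {H : Type*} [Group H] {u : G} (hu : PiE π u) (f : G →* H) : PiE π (f u) :=
  hu.of_dvd (orderOf_map_dvd f u)

theorem PiE.mono {ρ : Set ℕ} {u : G} (hu : PiE π u) (h : π ⊆ ρ) : PiE ρ u := fun q hq h1 => h (hu q hq h1)

theorem PiE.eq_one [Finite G] {u : G} (hu : PiE π u) (hv : PiE πᶜ u) : u = 1 :=
  orderOf_eq_one_iff.1 ((Nat.coprime_self _).1 (hu.coprime hv))

theorem piE_of_pow_eq_one {u : G} {n : ℕ} (h : u ^ n = 1) (hn : ∀ q : ℕ, q.Prime → q ∣ n → q ∈ π) : PiE π u :=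
  fun q hq h1 => hn q hq (h1.trans (orderOf_dvd_of_pow_eq_one h))

theorem piE_coe {H : Subgroup G} {x : H} : PiE π (x : G) ↔ PiE π x := by
  unfold PiE; rw [orderOf_coe]

theorem piE_singleton [Finite G] {p : ℕ} (hp : p.Prime) {u : G} : PiE {p} u ↔ ∃ k, orderOf u = p ^ k := by
  refine ⟨fun h => ⟨_, Nat.eq_prime_pow_of_unique_prime_dvd (orderOf_pos u).ne' fun {q} hq h1 => h q hq h1⟩, ?_⟩
  rintro ⟨k, hk⟩ q hq h1
  exact (Nat.prime_dvd_prime_iff_eq hq hp).1 (hq.dvd_of_dvd_pow (hk ▸ h1))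

theorem piE_singleton' [Finite G] {p : ℕ} (hp : p.Prime) {u : G} : PiE {p} u ↔ ∃ k, u ^ p ^ k = 1 := by
  refine ⟨fun h => ?_, fun ⟨k, hk⟩ => piE_of_pow_eq_one hk fun q hq h1 =>
    (Nat.prime_dvd_prime_iff_eq hq hp).1 (hq.dvd_of_dvd_pow h1)⟩
  obtain ⟨k, hk⟩ := (piE_singleton hp).1 h
  exact ⟨k, hk ▸ pow_orderOf_eq_one u⟩

theorem piE_compl_singleton {p : ℕ} (hp : p.Prime) {u : G} : PiE {p}ᶜ u ↔ ¬ p ∣ orderOf u :=
  ⟨fun h h1 => h p hp h1 rfl, fun h q _ h1 h2 => h (Set.mem_singleton_iff.1 h2 ▸ h1)⟩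

theorem exists_piPart [Finite G] (π : Set ℕ) (x : G) :
    ∃ u ∈ zpowers x, ∃ v ∈ zpowers x, x = u * v ∧ PiE π u ∧ PiE πᶜ v := by
  obtain ⟨a, b, hab, ha, hb⟩ := exists_pi_split π (orderOf_pos x).ne'
  have hc : IsCoprime (a : ℤ) b :=
    Nat.isCoprime_iff_coprime.2 (Nat.coprime_of_dvd fun q hq h1 h2 => hb q hq h2 (ha q hq h1))
  obtain ⟨i, j, hij⟩ := hc
  have h1 : x ^ ((a : ℤ) * b) = 1 := by rw [← Nat.cast_mul, ← hab, zpow_natCast, pow_orderOf_eq_one]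
  refine ⟨x ^ (j * b), zpow_mem (mem_zpowers x) _, x ^ (i * a), zpow_mem (mem_zpowers x) _, ?_,
    piE_of_pow_eq_one (n := a) ?_ ha, piE_of_pow_eq_one (n := b) ?_ hb⟩
  · rw [← zpow_add, add_comm, hij, zpow_one]
  · rw [← zpow_natCast, ← zpow_mul, show j * b * a = a * b * j by ring, zpow_mul, h1, one_zpow]
  · rw [← zpow_natCast, ← zpow_mul, show i * a * b = a * b * i by ring, zpow_mul, h1, one_zpow]

theorem mem_zpowers_mul_of_coprime {u v : G} (hc : Commute u v) (h : (orderOf u).Coprime (orderOf v)) :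
    u ∈ zpowers (u * v) := by
  obtain ⟨m, hm⟩ := exists_pow_eq_self_of_coprime (x := u) h.symm
  refine ⟨(orderOf v * m : ℕ), ?_⟩
  simp only [zpow_natCast]
  rw [hc.mul_pow, pow_mul, pow_mul, hm, pow_orderOf_eq_one, one_pow, mul_one]

theorem mem_zpowers_mul_of_coprime' {u v : G} (hc : Commute u v) (h : (orderOf u).Coprime (orderOf v)) :
    v ∈ zpowers (u * v) := by
  rw [hc.eq]; exact mem_zpowers_mul_of_coprime hc.symm h.symm

theorem piPart_unique [Finite G] {u v u' v' : G} (hu : PiE π u) (hv : PiE πᶜ v) (hc : Commute u v)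
    (hu' : PiE π u') (hv' : PiE πᶜ v') (hc' : Commute u' v') (h : u * v = u' * v') : u = u' ∧ v = v' := by
  have h1 := mem_zpowers_mul_of_coprime hc (hu.coprime hv)
  have h2 := mem_zpowers_mul_of_coprime' hc (hu.coprime hv)
  have h3 := mem_zpowers_mul_of_coprime hc' (hu'.coprime hv')
  have h4 := mem_zpowers_mul_of_coprime' hc' (hu'.coprime hv')
  rw [← h] at h3 h4
  have hx : ∀ a ∈ zpowers (u * v), ∀ b ∈ zpowers (u * v), Commute a b := by
    rintro _ ⟨i, rfl⟩ _ ⟨j, rfl⟩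
    exact Commute.zpow_zpow_self _ _ _
  have h5 : u'⁻¹ * u = v' * v⁻¹ := by
    rw [inv_mul_eq_iff_eq_mul, ← mul_assoc, ← h, mul_inv_cancel_right]
  have h6 : u'⁻¹ * u = 1 := (hu'.inv.mul hu (hx _ (inv_mem h3) _ h1)).eq_one
    (h5 ▸ hv'.mul hv.inv (hx _ h4 _ (inv_mem h2)))
  exact ⟨(inv_mul_eq_one.1 h6).symm, (mul_inv_eq_one.1 (h5 ▸ h6)).symm⟩

theorem commute_of_mem_zpowers' {a x : G} (h : x ∈ zpowers a) : Commute a x := by
  obtain ⟨i, rfl⟩ := h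
  exact Commute.self_zpow a i

theorem cnt_piPart₂ [Fintype G] {β : Type*} [Finite β] (π : Set ℕ) (P : G → β → Prop) :
    Nat.card {z : G × β // P z.1 z.2} =
      ∑ v, Nat.card {z : G × β // PiE π z.1 ∧ PiE πᶜ v ∧ Commute z.1 v ∧ P (z.1 * v) z.2} := by
  choose a ha b hb h1 h2 h3 using exists_piPart (G := G) π
  have hc : ∀ x, Commute (a x) (b x) := fun x => by
    obtain ⟨i, hi⟩ := ha x
    obtain ⟨j, hj⟩ := hb x
    rw [← hi, ← hj]; exact Commute.zpow_zpow_self _ _ _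
  rw [cnt_eq_sum_fiber _ (fun z : G × β => b z.1)]
  refine Finset.sum_congr rfl fun v _ => cnt_eq_of_bij (fun z => (a z.1, z.2)) ?_ ?_ ?_
  · rintro z ⟨h, rfl⟩
    exact ⟨h2 _, h3 _, hc _, by rwa [← h1]⟩
  · rintro z w ⟨-, h⟩ ⟨-, h'⟩ h4
    exact Prod.ext (by rw [h1 z.1, h1 w.1, h, h', show a z.1 = a w.1 from (Prod.ext_iff.1 h4).1]) (Prod.ext_iff.1 h4).2
  · rintro ⟨u, y⟩ ⟨h4, h5, h6, h7⟩
    have := piPart_unique (h2 _) (h3 _) (hc _) h4 h5 h6 (h1 (u * v)).symm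
    exact ⟨(u * v, y), ⟨h7, this.2⟩, Prod.ext this.1 rfl⟩

theorem cnt_piPart [Fintype G] (π : Set ℕ) (P : G → Prop) :
    Nat.card {x // P x} = ∑ v, Nat.card {u // PiE π u ∧ PiE πᶜ v ∧ Commute u v ∧ P (u * v)} := by
  have h := cnt_piPart₂ (β := Unit) π fun x _ => P x
  rw [← cnt_eq_of_bij (p := P) (fun x => (x, ())) (fun _ h => h) (fun _ _ _ _ h => (Prod.ext_iff.1 h).1)
    fun y h => ⟨y.1, h, rfl⟩] at h
  rw [h]
  refine Finset.sum_congr rfl fun v _ => (cnt_eq_of_bij (fun x => (x, ())) (fun _ h => h)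
    (fun _ _ _ _ h => (Prod.ext_iff.1 h).1) fun y h => ⟨y.1, h, rfl⟩).symm

theorem card_class_eq_relIndex [Finite G] (K : Subgroup G) (a : G) :
    Nat.card {y : G // ∃ h ∈ K, h * a * h⁻¹ = y} = (centralizer ({a} : Set G)).relIndex K := by
  refine Nat.eq_of_mul_eq_mul_right (Nat.card_pos (α := (K ⊓ centralizer ({a} : Set G) : Subgroup G))) ?_
  rw [card_class_mul, mul_comm, inf_comm, Solv.card_inf_mul_relIndex]

theorem dvd_sum_class [Fintype G] (K : Subgroup G) (g : G → ℕ) {d : ℕ}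
    (hg : ∀ k ∈ K, ∀ v, g (k * v * k⁻¹) = g v)
    (h : ∀ v, d ∣ (centralizer ({v} : Set G)).relIndex K * g v) : d ∣ ∑ v, g v := by
  classical
  refine dvd_sum_of_fiber (fun v => {y | ∃ h ∈ K, h * v * h⁻¹ = y}) g fun x => ?_
  have key : ∀ y : G, {z | ∃ h ∈ K, h * y * h⁻¹ = z} = {z | ∃ h ∈ K, h * x * h⁻¹ = z} ↔
      ∃ h ∈ K, h * x * h⁻¹ = y := fun y => by
    constructor
    · intro h1
      have : y ∈ {z | ∃ h ∈ K, h * y * h⁻¹ = z} := ⟨1, one_mem _, by simp⟩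
      rwa [h1] at this
    · rintro ⟨k, hk, rfl⟩
      ext z
      constructor
      · rintro ⟨h, hh, rfl⟩
        exact ⟨h * k, mul_mem hh hk, by group⟩
      · rintro ⟨h, hh, rfl⟩
        exact ⟨h * k⁻¹, mul_mem hh (inv_mem hk), by group⟩
  rw [sum_cnt_eq_mul (p := fun y => ∃ h ∈ K, h * x * h⁻¹ = y) (m := g x), card_class_eq_relIndex]
  · exact h x
  · intro y hy
    rw [if_pos ((key y).2 hy)]
    obtain ⟨k, hk, rfl⟩ := hy
    exact hg k hk x
  · exact fun y hy => if_neg fun h1 => hy ((key y).1 h1)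

theorem cnt_parts_conj {K : Subgroup G} {P : G → Prop} (hP : ∀ k ∈ K, ∀ x, P x → P (k * x * k⁻¹))
    {k : G} (hk : k ∈ K) (v : G) :
    Nat.card {u // PiE π u ∧ PiE πᶜ (k * v * k⁻¹) ∧ Commute u (k * v * k⁻¹) ∧ P (u * (k * v * k⁻¹))} =
      Nat.card {u // PiE π u ∧ PiE πᶜ v ∧ Commute u v ∧ P (u * v)} := by
  symm
  refine cnt_eq_of_bij (fun u => k * u * k⁻¹) ?_ (fun _ _ _ _ h => by simpa using h) ?_
  · rintro u ⟨h1, h2, h3, h4⟩
    refine ⟨h1.conj k, h2.conj k, h3.conj k, ?_⟩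
    convert hP k hk _ h4 using 1; group
  · rintro u ⟨h1, h2, h3, h4⟩
    refine ⟨k⁻¹ * u * k⁻¹⁻¹, ⟨h1.conj _, piE_conj_iff.1 h2, ?_, ?_⟩, by group⟩
    · convert h3.conj k⁻¹ using 1; group
    · convert hP k⁻¹ (inv_mem hk) _ h4 using 1; group

/-- Main tool: divisibility of the size of a `K`-invariant set, section by section. -/
theorem dvd_cnt_of_parts [Finite G] (π : Set ℕ) (K : Subgroup G) {P : G → Prop} {d : ℕ}
    (hP : ∀ k ∈ K, ∀ x, P x → P (k * x * k⁻¹))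
    (h : ∀ v, PiE πᶜ v → d ∣ (centralizer ({v} : Set G)).relIndex K *
      Nat.card {u // PiE π u ∧ Commute u v ∧ P (u * v)}) : d ∣ Nat.card {x // P x} := by
  have := Fintype.ofFinite G
  rw [cnt_piPart π]
  refine dvd_sum_class K _ (fun k hk v => cnt_parts_conj hP hk v) fun v => ?_
  by_cases hv : PiE πᶜ v
  · convert h v hv using 2
    exact cnt_congr fun u => by simp [hv]
  · rw [cnt_eq_zero fun u hu => hv hu.2.1]; simp

/-- The central `π`-elements of `K`. -/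
def piCenter (π : Set ℕ) (K : Subgroup G) : Subgroup G where
  carrier := {v | v ∈ K ∧ PiE π v ∧ K ≤ centralizer {v}}
  one_mem' := ⟨one_mem _, piE_one, fun x _ => by simp [mem_centralizer_singleton_iff]⟩
  mul_mem' := by
    rintro a b ⟨h1, h2, h3⟩ ⟨h4, h5, h6⟩
    refine ⟨mul_mem h1 h4, h2.mul h5 (mem_centralizer_singleton_iff.1 (h6 h1)), fun x hx => ?_⟩
    exact mem_centralizer_singleton_iff.2 (Commute.mul_right (mem_centralizer_singleton_iff.1 (h3 hx))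
      (mem_centralizer_singleton_iff.1 (h6 hx)))
  inv_mem' := by
    rintro a ⟨h1, h2, h3⟩
    exact ⟨inv_mem h1, h2.inv, fun x hx => mem_centralizer_singleton_iff.2
      (Commute.inv_right (mem_centralizer_singleton_iff.1 (h3 hx)))⟩

theorem dvd_mul_of_gcd_dvd {a b c d : ℕ} (h : d ∣ a * b) (hc : Nat.gcd d b ∣ c) : d ∣ a * c :=
  (Nat.dvd_gcd (dvd_mul_left d a) h).trans (by rw [Nat.gcd_mul_left]; exact Nat.mul_dvd_mul_left a hc)

theorem relIndex_mul_card_inf' (C K : Subgroup G) : C.relIndex K * Nat.card (K ⊓ C : Subgroup G) = Nat.card K := by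
  rw [mul_comm, inf_comm, Solv.card_inf_mul_relIndex]

theorem mem_of_mul_mem {K : Subgroup G} {u v : G} (hu : PiE π u) (hv : PiE πᶜ v) (hc : Commute u v)
    (h : u * v ∈ K) : u ∈ K ∧ v ∈ K :=
  ⟨zpowers_le.2 h (mem_zpowers_mul_of_coprime hc (hu.coprime hv)),
    zpowers_le.2 h (mem_zpowers_mul_of_coprime' hc (hu.coprime hv))⟩

theorem coprime_card_piCenter [Finite G] (K : Subgroup G) {d : ℕ} (hd : ∀ q : ℕ, q.Prime → q ∣ d → q ∈ π) :
    d.Coprime (Nat.card (piCenter πᶜ K)) := by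
  refine Nat.coprime_of_dvd fun q hq h1 h2 => ?_
  haveI := Fact.mk hq
  obtain ⟨x, hx, h3⟩ := Comp.exists_mem_orderOf_eq h2
  exact hx.2.1 q hq (by rw [h3]) (hd q hq h1)

/-- The number of `π`-elements of `K` is divisible by `|K|_π`. -/
theorem dvd_cnt_piE [Finite G] (π : Set ℕ) (K : Subgroup G) : ∀ d : ℕ, (∀ q : ℕ, q.Prime → q ∣ d → q ∈ π) →
    d ∣ Nat.card K → d ∣ Nat.card {u // u ∈ K ∧ PiE π u} := by
  classical
  have := Fintype.ofFinite G
  induction K using Comp.subgroup_induction with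
  | h K ih =>
  intro d hd hK
  have h1 := cnt_piPart π (· ∈ K)
  set g : G → ℕ := fun v => Nat.card {u // PiE π u ∧ PiE πᶜ v ∧ Commute u v ∧ u * v ∈ K} with hg
  have h2 : ∀ v, v ∈ K → PiE πᶜ v → g v = Nat.card {u // u ∈ K ⊓ centralizer {v} ∧ PiE π u} :=
    fun v h3 h4 => cnt_congr fun u => ⟨fun ⟨a, b, c, e⟩ => ⟨mem_inf.2 ⟨(mem_of_mul_mem a b c e).1,
      mem_centralizer_singleton_iff.2 c⟩, a⟩, fun ⟨a, b⟩ => ⟨b, h4, mem_centralizer_singleton_iff.1 a.2,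
        mul_mem a.1 h3⟩⟩
  have h3 : ∀ v, ¬ (v ∈ K ∧ PiE πᶜ v) → g v = 0 := fun v hv =>
    cnt_eq_zero fun u ⟨a, b, c, e⟩ => hv ⟨(mem_of_mul_mem a b c e).2, b⟩
  have h4 : d ∣ ∑ v, if K ≤ centralizer {v} then 0 else g v := by
    refine dvd_sum_class K _ (fun k hk v => ?_) fun v => ?_
    · refine if_congr ?_ rfl (cnt_parts_conj (P := (· ∈ K)) (fun k hk x hx => mul_mem (mul_mem hk hx) (inv_mem hk)) hk v)
      rw [← Comp.cj_centralizer_singleton]
      conv_lhs => rw [← Comp.cj_eq_self_of_mem hk, Comp.cj_le_cj_iff]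
    · split_ifs with h5
      · simp
      by_cases h6 : v ∈ K ∧ PiE πᶜ v
      · rw [h2 v h6.1 h6.2]
        refine dvd_mul_of_gcd_dvd (by rwa [relIndex_mul_card_inf']) (ih _ (inf_lt_left.2 h5) _
          (fun q hq h7 => hd q hq (h7.trans (Nat.gcd_dvd_left _ _))) (Nat.gcd_dvd_right _ _))
      · simp [h3 v h6]
  have h5 : ∑ v, (if K ≤ centralizer {v} then g v else 0) =
      Nat.card (piCenter πᶜ K) * Nat.card {u // u ∈ K ∧ PiE π u} := by
    refine sum_cnt_eq_mul (p := (· ∈ piCenter πᶜ K)) (fun v hv => ?_) fun v hv => ?_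
    · rw [if_pos hv.2.2, h2 v hv.1 hv.2.1, inf_eq_left.2 hv.2.2]
    · split_ifs with h5
      · exact h3 v fun h6 => hv ⟨h6.1, h6.2, h5⟩
      · rfl
  refine (coprime_card_piCenter K hd).dvd_of_dvd_mul_left ?_
  rw [← h5, Nat.dvd_add_iff_left h4, ← Finset.sum_add_distrib]
  convert hK using 1
  rw [show Nat.card K = _ from h1]
  exact Finset.sum_congr rfl fun v _ => by split_ifs <;> simp [hg]

theorem card_pow_eq_one_zpowers [Finite G] {u : G} {n : ℕ} (h : n ∣ orderOf u) :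
    Nat.card {t // t ∈ zpowers u ∧ t ^ n = 1} = n := by
  obtain ⟨m, hm⟩ := h
  have h0 := orderOf_pos u
  have hm0 : m ≠ 0 := by rintro rfl; simp [hm] at h0
  have hn0 : n ≠ 0 := by rintro rfl; simp [hm] at h0
  have h1 : orderOf (u ^ m) = n := by
    rw [orderOf_pow_of_dvd hm0 ⟨n, by rw [hm, mul_comm]⟩, hm, Nat.mul_div_cancel _ (Nat.pos_of_ne_zero hm0)]
  conv_rhs => rw [← h1, ← Nat.card_zpowers]
  refine cnt_congr fun t => ⟨?_, ?_⟩
  · rintro ⟨⟨i, rfl⟩, h2⟩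
    rw [← zpow_natCast, ← zpow_mul, ← orderOf_dvd_iff_zpow_eq_one, hm, Nat.cast_mul, mul_comm i] at h2
    obtain ⟨j, rfl⟩ := Int.dvd_of_mul_dvd_mul_left (by exact_mod_cast hn0) h2
    exact ⟨j, by simp only; rw [zpow_mul, zpow_natCast]⟩
  · intro ht
    exact ⟨zpowers_le.2 (pow_mem (mem_zpowers u) m) ht,
      orderOf_dvd_iff_pow_eq_one.1 (h1 ▸ orderOf_dvd_of_mem_zpowers ht)⟩

theorem orderOf_eq_mul_of_pow [Finite G] {p b : ℕ} (hp : p.Prime) {w : G} (h1 : PiE {p} (w ^ p ^ b))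
    (h2 : w ^ p ^ b ≠ 1) : orderOf w = p ^ b * orderOf (w ^ p ^ b) := by
  obtain ⟨k, hk⟩ := (piE_singleton' hp).1 h1
  obtain ⟨m, hm⟩ := (piE_singleton hp).1 ((piE_singleton' (u := w) hp).2 ⟨b + k, by rw [pow_add, pow_mul, hk]⟩)
  have h3 : p ^ b ∣ orderOf w := by
    rw [hm]
    refine pow_dvd_pow _ (le_of_not_ge fun h => h2 (orderOf_dvd_iff_pow_eq_one.1 ?_))
    rw [hm]; exact pow_dvd_pow _ h
  rw [orderOf_pow_of_dvd (pow_ne_zero _ hp.ne_zero) h3, Nat.mul_div_cancel' h3]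

theorem zpowers_eq_of_orderOf_le [Finite G] {u w : G} (h : w ∈ zpowers u) (h1 : orderOf u ≤ orderOf w) :
    zpowers w = zpowers u :=
  Solv.eq_of_le_of_card_le (zpowers_le.2 h) (by rwa [Nat.card_zpowers, Nat.card_zpowers])

theorem pow_dvd_cnt_of_ne_one [Finite G] {p : ℕ} (hp : p.Prime) (K : Subgroup G) (b : ℕ) {c : G}
    (h1 : PiE {p} c) (h2 : c ≠ 1) : p ^ b ∣ Nat.card {u // u ∈ K ∧ u ^ p ^ b = c} := by
  refine dvd_cnt_of_fiber zpowers fun u ⟨hu, h3⟩ => dvd_of_eq ?_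
  have h4 := orderOf_eq_mul_of_pow hp (h3 ▸ h1) (h3 ▸ h2)
  conv_lhs => rw [← card_pow_eq_one_zpowers (u := u) (n := p ^ b) ⟨_, h4⟩]
  refine cnt_eq_of_bij (fun t => u * t) ?_ (fun _ _ _ _ h => mul_left_cancel h) ?_
  · rintro t ⟨h5, h6⟩
    have h7 : (u * t) ^ p ^ b = c := by rw [(commute_of_mem_zpowers' h5).mul_pow, h3, h6, mul_one]
    refine ⟨⟨mul_mem hu (zpowers_le.2 hu h5), h7⟩, zpowers_eq_of_orderOf_le (mul_mem (mem_zpowers u) h5) ?_⟩
    rw [h4, orderOf_eq_mul_of_pow (w := u * t) (b := b) hp (h7 ▸ h1) (h7 ▸ h2), h3, h7]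
  · rintro w ⟨⟨-, h5⟩, h6⟩
    have h7 : w ∈ zpowers u := h6 ▸ mem_zpowers w
    refine ⟨u⁻¹ * w, ⟨mul_mem (inv_mem (mem_zpowers u)) h7, ?_⟩, by simp⟩
    rw [(commute_of_mem_zpowers' h7).inv_left.mul_pow, inv_pow, h3, h5, inv_mul_cancel]

theorem dvd_cnt_prime_pow [Finite G] {p : ℕ} (hp : p.Prime) (K : Subgroup G) (b : ℕ) {c : G}
    (h1 : PiE {p} c) {d : ℕ} (hd : d ∣ p ^ b) (hK : d ∣ Nat.card K) :
    d ∣ Nat.card {u // u ∈ K ∧ u ^ p ^ b = c} := by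
  by_cases h2 : c = 1
  swap
  · exact hd.trans (pow_dvd_cnt_of_ne_one hp K b h1 h2)
  subst h2
  have h3 := dvd_cnt_piE {p} K d (fun q hq h => (Nat.prime_dvd_prime_iff_eq hq hp).1
    (hq.dvd_of_dvd_pow (h.trans hd))) hK
  rw [cnt_split _ (fun u => u ^ p ^ b = 1)] at h3
  have h4 : d ∣ Nat.card {u // (u ∈ K ∧ PiE {p} u) ∧ ¬ u ^ p ^ b = 1} := by
    refine dvd_cnt_of_fiber (fun u => u ^ p ^ b) fun u hu => ?_
    refine (hd.trans (pow_dvd_cnt_of_ne_one hp K b (hu.1.2.pow _) hu.2)).trans (dvd_of_eq (Eq.symm ?_))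
    refine cnt_congr fun w => ⟨fun h => ⟨h.1.1.1, h.2⟩, fun h => ⟨⟨⟨h.1, ?_⟩, h.2 ▸ hu.2⟩, h.2⟩⟩
    obtain ⟨k, hk⟩ := (piE_singleton' hp).1 (hu.1.2.pow (p ^ b))
    exact (piE_singleton' hp).2 ⟨b + k, by rw [pow_add, pow_mul, h.2, hk]⟩
  refine ((Nat.dvd_add_iff_left h4).2 h3).trans (dvd_of_eq (Eq.symm ?_))
  exact cnt_congr fun u => ⟨fun h => ⟨⟨h.1, (piE_singleton' hp).2 ⟨b, h.2⟩⟩, h.2⟩, fun h => ⟨h.1.1, h.2⟩⟩

theorem eq_of_pow_eq_of_coprime [Finite G] {x y : G} {m : ℕ} (hx : m.Coprime (orderOf x))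
    (hy : m.Coprime (orderOf y)) (h : x ^ m = y ^ m) : x = y := by
  have h1 := Nat.ModEq.pow_totient (hx.mul_right hy)
  obtain ⟨k, hk⟩ := Nat.exists_eq_succ_of_ne_zero (Nat.totient_pos.2 (Nat.mul_pos (orderOf_pos x) (orderOf_pos y))).ne'
  rw [hk] at h1
  have h2 := pow_eq_pow_iff_modEq.2 (h1.of_mul_right (orderOf y))
  have h3 := pow_eq_pow_iff_modEq.2 (h1.of_mul_left (orderOf x))
  rw [pow_one, pow_succ', pow_mul] at h2 h3
  rw [← h2, ← h3, h]

/-- Frobenius: for `c` centralised by `K`, `gcd(n, |K|)` divides the number of `x ∈ K` with `x ^ n = c`. -/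
theorem frobenius_dvd_cnt [Finite G] (K : Subgroup G) {c : G} (hc : K ≤ centralizer {c}) {n d : ℕ}
    (hn : d ∣ n) (hK : d ∣ Nat.card K) : d ∣ Nat.card {x // x ∈ K ∧ x ^ n = c} := by
  rcases eq_or_ne n 0 with rfl | h0
  · by_cases h : c = 1
    · convert hK using 1
      exact cnt_congr fun x => by simp [h]
    · rw [cnt_eq_zero fun x hx => h (by simpa using hx.2.symm)]; exact dvd_zero _
  refine dvd_of_forall_prime_pow (ne_zero_of_dvd_ne_zero h0 hn) fun p j hp hj => ?_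
  refine dvd_cnt_of_parts {p} K (fun k hk x hx => ⟨mul_mem (mul_mem hk hx.1) (inv_mem hk), ?_⟩) fun v hv => ?_
  · rw [conj_pow, hx.2, mem_centralizer_singleton_iff.1 (hc hk), mul_inv_cancel_right]
  by_cases h1 : ∃ u, PiE {p} u ∧ Commute u v ∧ u * v ∈ K ∧ (u * v) ^ n = c
  swap
  · rw [cnt_eq_zero fun u hu => h1 ⟨u, hu⟩]; simp
  obtain ⟨u, h1, h2, h3, h4⟩ := h1
  obtain ⟨b, m, hm, rfl⟩ := Nat.exists_eq_pow_mul_and_not_dvd h0 p hp.ne_one
  have h5 : p ^ j ∣ p ^ b :=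
    (Nat.Coprime.pow_left j ((hp.coprime_iff_not_dvd).2 hm)).dvd_of_dvd_mul_right (hj.trans hn)
  have h6 : ∀ w : G, PiE {p} w → m.Coprime (orderOf w) := fun w hw =>
    Nat.coprime_of_dvd fun q hq h7 h8 => hm (Set.mem_singleton_iff.1 (hw q hq h8) ▸ h7)
  refine dvd_mul_of_gcd_dvd (by rw [relIndex_mul_card_inf']; exact hj.trans hK) ?_
  convert dvd_cnt_prime_pow hp (K ⊓ centralizer {v}) b (h1.pow (p ^ b)) ((Nat.gcd_dvd_left _ _).trans h5)
    (Nat.gcd_dvd_right _ _) using 1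
  refine cnt_congr fun w => ⟨fun ⟨a1, a2, a3, a4⟩ => ⟨mem_inf.2 ⟨(mem_of_mul_mem a1 hv a2 a3).1,
    mem_centralizer_singleton_iff.2 a2⟩, eq_of_pow_eq_of_coprime (h6 _ (a1.pow _)) (h6 _ (h1.pow _)) ?_⟩,
    fun ⟨a1, a2⟩ => ?_⟩
  · rw [← h4, a2.mul_pow, h2.mul_pow] at a4
    rw [← pow_mul, ← pow_mul, mul_right_cancel a4]
  · have a3 : Commute w v := mem_centralizer_singleton_iff.1 a1.2
    obtain ⟨k, hk⟩ := (piE_singleton' hp).1 (h1.pow (p ^ b))
    refine ⟨(piE_singleton' hp).2 ⟨b + k, by rw [pow_add, pow_mul, a2, hk]⟩, a3,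
      mul_mem a1.1 (mem_of_mul_mem h1 hv h2 h3).2, ?_⟩
    rw [← h4, a3.mul_pow, h2.mul_pow, pow_mul, a2, ← pow_mul]

theorem frobenius_dvd [Finite G] {n d : ℕ} (hn : d ∣ n) (hK : d ∣ Nat.card G) :
    d ∣ Nat.card {x : G // x ^ n = 1} := by
  convert frobenius_dvd_cnt (G := G) ⊤ (c := 1) (fun x _ => by simp [mem_centralizer_singleton_iff]) hn
    (by rwa [card_top]) using 1
  exact cnt_congr fun x => by simp

theorem card_gen_zpowers [Finite G] (u : G) : Nat.card {w // zpowers w = zpowers u} = (orderOf u).totient := by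
  classical
  have := Fintype.ofFinite G
  have h := IsCyclic.card_orderOf_eq_totient (α := zpowers u) (d := orderOf u) (by rw [Fintype.card_zpowers])
  rw [← h, ← Fintype.card_subtype, ← Nat.card_eq_fintype_card]
  symm
  refine cnt_eq_of_bij (fun w : zpowers u => (w : G)) (fun w hw => zpowers_eq_of_orderOf_le w.2
    (by rw [orderOf_coe, hw])) (fun _ _ _ _ h => Subtype.ext h) fun w hw => ⟨⟨w, hw ▸ mem_zpowers w⟩, ?_, rfl⟩
  rw [← orderOf_coe, ← Nat.card_zpowers, ← Nat.card_zpowers, hw]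

theorem totient_dvd_cnt [Finite G] {P : G → Prop} {n : ℕ} (h : ∀ u, P u → orderOf u = n)
    (hP : ∀ u w, zpowers w = zpowers u → P u → P w) : n.totient ∣ Nat.card {u // P u} := by
  refine dvd_cnt_of_fiber zpowers fun u hu => dvd_of_eq ?_
  rw [← h u hu, ← card_gen_zpowers]
  exact cnt_congr fun w => ⟨fun h1 => ⟨hP u w h1 hu, h1⟩, fun h1 => h1.2⟩

theorem cnt_eq_cnt_zpowers_mul [Finite G] {P : G → Prop} {n : ℕ} (h : ∀ u, P u → orderOf u = n)
    (hP : ∀ u w, zpowers w = zpowers u → P u → P w) :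
    Nat.card {u // P u} = Nat.card {U : Subgroup G // ∃ u, P u ∧ zpowers u = U} * n.totient := by
  refine cnt_eq_mul_of_fiber zpowers (fun u hu => ⟨u, hu, rfl⟩) ?_
  rintro _ ⟨u, hu, rfl⟩
  rw [← h u hu, ← card_gen_zpowers]
  exact cnt_congr fun w => ⟨fun h1 => h1.2, fun h1 => ⟨hP u w h1 hu, h1⟩⟩

theorem card_orbit_eq_relIndex {X : Type*} [MulAction G X] (S : Subgroup G) (x : X) :
    Nat.card {y // ∃ g ∈ S, g • x = y} = (MulAction.stabilizer G x).relIndex S := by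
  rw [relIndex, show (MulAction.stabilizer G x).subgroupOf S = MulAction.stabilizer S x from rfl,
    MulAction.index_stabilizer, ← Nat.card_coe_set_eq]
  exact cnt_congr fun y => ⟨fun ⟨g, hg, h⟩ => ⟨⟨g, hg⟩, h⟩, fun ⟨g, h⟩ => ⟨g, g.2, h⟩⟩

theorem dvd_cnt_of_action {X : Type*} [Finite X] [MulAction G X] (S : Subgroup G) {Q : X → Prop} {d : ℕ}
    (hQ : ∀ g ∈ S, ∀ x, Q x → Q (g • x)) (h : ∀ x, Q x → d ∣ (MulAction.stabilizer G x).relIndex S) :
    d ∣ Nat.card {x // Q x} := by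
  refine dvd_cnt_of_fiber (fun x => {y | ∃ g ∈ S, g • x = y}) fun x hx => ?_
  convert h x hx using 1
  rw [← card_orbit_eq_relIndex]
  refine cnt_congr fun y => ⟨fun h1 => ?_, ?_⟩
  · have : y ∈ {z | ∃ g ∈ S, g • y = z} := ⟨1, one_mem _, one_smul _ _⟩
    rwa [h1.2] at this
  · rintro ⟨k, hk, rfl⟩
    refine ⟨hQ k hk x hx, Set.ext fun z => ⟨?_, ?_⟩⟩
    · rintro ⟨g, hg, rfl⟩
      exact ⟨g * k, mul_mem hg hk, mul_smul _ _ _⟩
    · rintro ⟨g, hg, rfl⟩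
      exact ⟨g * k⁻¹, mul_mem hg (inv_mem hk), by rw [mul_smul, inv_smul_smul]⟩

theorem card_dvd_cnt_of_mul [Finite G] (A : Subgroup G) {Q : G → Prop}
    (hQ : ∀ a ∈ A, ∀ x, Q x → Q (a * x)) : Nat.card A ∣ Nat.card {x // Q x} := by
  refine dvd_cnt_of_action A hQ fun x _ => dvd_of_eq ?_
  rw [show MulAction.stabilizer G x = ⊥ from Subgroup.ext fun g => by simp, relIndex_bot_left]

theorem card_conj_eq_relIndex (S U : Subgroup G) :
    Nat.card {V : Subgroup G // ∃ g ∈ S, MulAut.conj g • U = V} = (normalizer (U : Set G)).relIndex S := by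
  letI := MulAction.compHom (Subgroup G) (MulAut.conj (G := G))
  refine (card_orbit_eq_relIndex S U).trans ?_
  congr 1
  exact Subgroup.ext fun g => conj_smul_eq_self_iff

theorem dvd_cnt_of_conj [Finite G] (S : Subgroup G) {Q : Subgroup G → Prop} {d : ℕ}
    (hQ : ∀ g ∈ S, ∀ U, Q U → Q (MulAut.conj g • U))
    (h : ∀ U, Q U → d ∣ (normalizer (U : Set G)).relIndex S) : d ∣ Nat.card {U // Q U} := by
  letI := MulAction.compHom (Subgroup G) (MulAut.conj (G := G))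
  refine dvd_cnt_of_action S hQ fun U hU => ?_
  convert h U hU using 2
  exact Subgroup.ext fun g => conj_smul_eq_self_iff

theorem prime_dvd_relIndex [Finite G] {p : ℕ} [hp : Fact p.Prime] {S N : Subgroup G} (hS : IsPGroup p S)
    (h : ¬ S ≤ N) : p ∣ N.relIndex S := by
  obtain ⟨k, hk⟩ := hS.index (N.subgroupOf S)
  rw [relIndex, hk]
  refine dvd_pow_self _ ?_
  rintro rfl
  exact h (relIndex_eq_one.1 hk)

/-- A conjugation-invariant family of subgroups, counted modulo `p`. -/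
theorem cnt_modEq_normalized [Finite G] {p : ℕ} [hp : Fact p.Prime] {S : Subgroup G} (hS : IsPGroup p S)
    {Q : Subgroup G → Prop} (hQ : ∀ g ∈ S, ∀ U, Q U → Q (MulAut.conj g • U)) :
    Nat.card {U // Q U} ≡ Nat.card {U // Q U ∧ S ≤ normalizer (U : Set G)} [MOD p] := by
  rw [cnt_split Q (fun U => S ≤ normalizer (U : Set G))]
  refine ((Nat.modEq_iff_dvd' (Nat.le_add_right _ _)).2 ?_).symm
  rw [Nat.add_sub_cancel_left]
  refine dvd_cnt_of_conj S (fun g hg U hU => ⟨hQ g hg U hU.1, fun h => hU.2 ?_⟩)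
    fun U hU => prime_dvd_relIndex hS hU.2
  rw [normalizer_conj_smul, ← conj_smul_eq_self_iff.2 (le_normalizer hg)] at h
  simpa only [conj_inv_smul_conj_smul] using conj_smul_mono g⁻¹ h

end Cfsg.Agent.Solv
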