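import Cfsg.Agent.Lib.Solv.PGrp
import Cfsg.Agent.Lib.Solv.Hall
import Cfsg.Agent.S0144

/-! Factorised groups. -/

set_option autoImplicit false
open Pointwise Subgroup commutatorElement

namespace Cfsg.Agent.Solv

universe u

variable {G : Type*} [Group G]

/-- every element of `S` is a product of an element of `H` and an element of `K`. -/
def IsProd (S H K : Subgroup G) : Prop := ∀ g ∈ S, ∃ h ∈ H, ∃ k ∈ K, g = h * k

theorem isProd_top {H K : Subgroup G} : IsProd ⊤ H K ↔ ∀ g, ∃ h ∈ H, ∃ k ∈ K, g = h * k :=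
  ⟨fun h g => h g trivial, fun h g _ => h g⟩

theorem IsProd.symm {S H K : Subgroup G} (h : IsProd S H K) : IsProd S K H := fun g hg => by
  obtain ⟨a, ha, b, hb, e⟩ := h g⁻¹ (inv_mem hg)
  exact ⟨b⁻¹, inv_mem hb, a⁻¹, inv_mem ha, by rw [← mul_inv_rev, ← e, inv_inv]⟩

theorem IsProd.mono {S H K S' H' K' : Subgroup G} (h : IsProd S H K) (h1 : S' ≤ S) (h2 : H ≤ H')
    (h3 : K ≤ K') : IsProd S' H' K' := fun g hg => by
  obtain ⟨a, ha, b, hb, e⟩ := h g (h1 hg)
  exact ⟨a, h2 ha, b, h3 hb, e⟩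

theorem IsProd.le_sup {S H K : Subgroup G} (h : IsProd S H K) : S ≤ H ⊔ K := fun g hg => by
  obtain ⟨a, ha, b, hb, rfl⟩ := h g hg
  exact mul_mem (mem_sup_left ha) (mem_sup_right hb)

theorem IsProd.coe_eq {S H K : Subgroup G} (h : IsProd S H K) (h1 : H ≤ S) (h2 : K ≤ S) :
    (S : Set G) = H * K := by
  ext g
  refine ⟨fun hg => ?_, ?_⟩
  · obtain ⟨a, ha, b, hb, rfl⟩ := h g hg
    exact Set.mul_mem_mul ha hb
  · rintro ⟨a, ha, b, hb, rfl⟩
    exact mul_mem (h1 ha) (h2 hb)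

theorem isProd_of_coe_eq {S H K : Subgroup G} (h : (S : Set G) = H * K) : IsProd S H K :=
  fun g hg => by
    obtain ⟨a, ha, b, hb, e⟩ := (h ▸ hg : g ∈ (H : Set G) * K)
    exact ⟨a, ha, b, hb, e.symm⟩

theorem le_left_of_coe_eq {S H K : Subgroup G} (h : (S : Set G) = H * K) : H ≤ S := fun a ha => by
  rw [← SetLike.mem_coe, h]; exact ⟨a, ha, 1, one_mem K, mul_one a⟩

theorem le_right_of_coe_eq {S H K : Subgroup G} (h : (S : Set G) = H * K) : K ≤ S := fun a ha => by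
  rw [← SetLike.mem_coe, h]; exact ⟨1, one_mem H, a, ha, one_mul a⟩

theorem IsProd.map {G' : Type*} [Group G'] (f : G →* G') {S H K : Subgroup G} (h : IsProd S H K) :
    IsProd (S.map f) (H.map f) (K.map f) := by
  rintro _ ⟨g, hg, rfl⟩
  obtain ⟨a, ha, b, hb, rfl⟩ := h g hg
  exact ⟨_, mem_map_of_mem f ha, _, mem_map_of_mem f hb, map_mul f a b⟩

theorem IsProd.map_mk {H K : Subgroup G} (h : IsProd ⊤ H K) (N : Subgroup G) [N.Normal] :
    IsProd ⊤ (H.map (QuotientGroup.mk' N)) (K.map (QuotientGroup.mk' N)) :=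
  map_top_mk N ▸ h.map _

theorem IsProd.subgroupOf {S H K : Subgroup G} (h : IsProd S H K) (h1 : H ≤ S) (h2 : K ≤ S) :
    IsProd ⊤ (H.subgroupOf S) (K.subgroupOf S) := fun g _ => by
  obtain ⟨a, ha, b, hb, e⟩ := h g g.2
  exact ⟨⟨a, h1 ha⟩, ha, ⟨b, h2 hb⟩, hb, Subtype.ext e⟩

/-- Dedekind's law for products. -/
theorem IsProd.inf_right {S H K L : Subgroup G} (h : IsProd S H K) (h1 : L ≤ S) (h2 : H ≤ L) :
    IsProd L H (K ⊓ L) := fun g hg => by
  obtain ⟨a, ha, b, hb, rfl⟩ := h g (h1 hg)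
  exact ⟨a, ha, b, mem_inf.2 ⟨hb, (mul_mem_cancel_left (h2 ha)).1 hg⟩, rfl⟩

theorem isProd_sup_of_le_normalizer {H N : Subgroup G} (h : H ≤ normalizer (N : Set G)) :
    IsProd (H ⊔ N) H N := fun _ hg => (mem_sup_of_le_normalizer h).1 hg

theorem isProd_sup_of_comm {H K : Subgroup G}
    (h : ∀ k ∈ K, ∀ a ∈ H, ∃ a' ∈ H, ∃ k' ∈ K, k * a = a' * k') : IsProd (H ⊔ K) H K := by
  have h' : ∀ a ∈ H, ∀ k ∈ K, ∃ a' ∈ H, ∃ k' ∈ K, (a * k)⁻¹ = a' * k' := fun a ha k hk => by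
    rw [mul_inv_rev]; exact h _ (inv_mem hk) _ (inv_mem ha)
  let S : Subgroup G :=
    { carrier := {g | ∃ a ∈ H, ∃ k ∈ K, g = a * k}
      one_mem' := ⟨1, one_mem _, 1, one_mem _, (mul_one 1).symm⟩
      mul_mem' := by
        rintro _ _ ⟨a, ha, k, hk, rfl⟩ ⟨b, hb, l, hl, rfl⟩
        obtain ⟨a', ha', k', hk', e⟩ := h k hk b hb
        exact ⟨a * a', mul_mem ha ha', k' * l, mul_mem hk' hl, by
          rw [mul_assoc, ← mul_assoc k, e]; group⟩
      inv_mem' := by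
        rintro _ ⟨a, ha, k, hk, rfl⟩
        exact h' a ha k hk }
  exact fun g hg => (sup_le (fun a ha => ⟨a, ha, 1, one_mem _, (mul_one a).symm⟩)
    (fun k hk => ⟨1, one_mem _, k, hk, (one_mul k).symm⟩) : H ⊔ K ≤ S) hg

theorem isProd_sup_of_mul_comm {H K : Subgroup G} (h : (H : Set G) * K = K * H) :
    IsProd (H ⊔ K) H K := isProd_sup_of_comm fun k hk a ha => by
  obtain ⟨a', ha', k', hk', e⟩ := (h ▸ Set.mul_mem_mul hk ha : k * a ∈ (H : Set G) * K)
  exact ⟨a', ha', k', hk', e.symm⟩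

theorem IsProd.mul_comm {S H K : Subgroup G} (h : IsProd S H K) (h1 : H ≤ S) (h2 : K ≤ S) :
    (H : Set G) * K = K * H := by rw [← h.coe_eq h1 h2, h.symm.coe_eq h2 h1]

theorem IsProd.sup {S H K : Subgroup G} (h : IsProd S H K) (h1 : H ≤ S) (h2 : K ≤ S) :
    IsProd (H ⊔ K) H K := h.mono (sup_le h1 h2) le_rfl le_rfl

theorem relIndex_eq_iff_isProd [Finite G] {S H K : Subgroup G} (h : H ≤ S) :
    K.relIndex H = K.relIndex S ↔ IsProd S H K := by
  let e := quotientSubgroupOfEmbeddingOfLE K h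
  constructor
  · intro h1 g hg
    obtain ⟨a, ha⟩ := (e.injective.bijective_of_nat_card_le h1.ge).2 (⟨g, hg⟩ : S)
    induction a using QuotientGroup.induction_on with | H a => ?_
    have h2 : (a : G)⁻¹ * g ∈ K :=
      (QuotientGroup.eq (s := K.subgroupOf S) (a := inclusion h a) (b := ⟨g, hg⟩)).1 ha
    exact ⟨a, a.2, _, h2, by group⟩
  · intro h1
    refine Nat.card_eq_of_bijective e ⟨e.injective, fun x => ?_⟩
    induction x using QuotientGroup.induction_on with | H g => ?_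
    obtain ⟨a, ha, b, hb, e1⟩ := h1 g g.2
    refine ⟨(⟨a, ha⟩ : H), QuotientGroup.eq.2 ?_⟩
    show a⁻¹ * g ∈ K
    rw [e1]; simpa using hb

theorem IsProd.card_mul [Finite G] {S H K : Subgroup G} (h : IsProd S H K) (h1 : H ≤ S)
    (h2 : K ≤ S) : Nat.card S * Nat.card (H ⊓ K : Subgroup G) = Nat.card H * Nat.card K := by
  rw [← card_mul_relIndex h2, ← (relIndex_eq_iff_isProd h1).2 h, ← card_inf_mul_relIndex K H,
    inf_comm K H]
  ring

theorem card_mul_card_le [Finite G] {S H K : Subgroup G} (h1 : H ≤ S) (h2 : K ≤ S) :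
    Nat.card H * Nat.card K ≤ Nat.card S * Nat.card (H ⊓ K : Subgroup G) := by
  rw [← card_mul_relIndex h2, ← card_inf_mul_relIndex K H, inf_comm K H]
  have := relIndex_le_of_le_right (H := K) h1 FiniteIndex.index_ne_zero
  calc _ = Nat.card (H ⊓ K : Subgroup G) * Nat.card K * K.relIndex H := by ring
    _ ≤ Nat.card (H ⊓ K : Subgroup G) * Nat.card K * K.relIndex S := Nat.mul_le_mul_left _ this
    _ = _ := by ring

theorem isProd_of_card_le [Finite G] {S H K : Subgroup G} (h1 : H ≤ S) (h2 : K ≤ S)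
    (h : Nat.card S * Nat.card (H ⊓ K : Subgroup G) ≤ Nat.card H * Nat.card K) : IsProd S H K := by
  rw [← relIndex_eq_iff_isProd h1]
  refine le_antisymm (relIndex_le_of_le_right (H := K) h1 FiniteIndex.index_ne_zero) ?_
  rw [← card_mul_relIndex h2, ← card_inf_mul_relIndex K H, inf_comm K H] at h
  refine Nat.le_of_mul_le_mul_left (c := Nat.card (H ⊓ K : Subgroup G) * Nat.card K) ?_
    (Nat.mul_pos Nat.card_pos Nat.card_pos)
  calc _ = Nat.card K * K.relIndex S * Nat.card (H ⊓ K : Subgroup G) := by ring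
    _ ≤ _ := h
    _ = _ := by ring

theorem relIndex_inf_of_coprime [Finite G] {S H K : Subgroup G} (h1 : H ≤ S) (h2 : K ≤ S)
    (h : (H.relIndex S).Coprime (K.relIndex S)) : K.relIndex H = K.relIndex S := by
  refine le_antisymm (relIndex_le_of_le_right (H := K) h1 FiniteIndex.index_ne_zero) ?_
  refine Nat.le_of_dvd (Nat.pos_of_ne_zero FiniteIndex.index_ne_zero)
    (h.symm.dvd_of_dvd_mul_right ?_)
  rw [← inf_relIndex_right K H, relIndex_mul_relIndex _ _ _ inf_le_right h1]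
  exact relIndex_dvd_of_le_left S inf_le_left

theorem isProd_of_coprime [Finite G] {S H K : Subgroup G} (h1 : H ≤ S) (h2 : K ≤ S)
    (h : (H.relIndex S).Coprime (K.relIndex S)) : IsProd S H K :=
  (relIndex_eq_iff_isProd h1).1 (relIndex_inf_of_coprime h1 h2 h)

theorem isProd_top_of_coprime [Finite G] {H K : Subgroup G} (h : H.index.Coprime K.index) :
    IsProd ⊤ H K := isProd_of_coprime le_top le_top (by simpa using h)

theorem IsProd.relIndex_eq_index [Finite G] {H K : Subgroup G} (h : IsProd ⊤ H K) :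
    K.relIndex H = K.index := by rw [(relIndex_eq_iff_isProd le_top).2 h, relIndex_top_right]

theorem IsProd.index_dvd_card [Finite G] {H K : Subgroup G} (h : IsProd ⊤ H K) :
    K.index ∣ Nat.card H := h.relIndex_eq_index ▸ relIndex_dvd_card K H

theorem IsProd.card_dvd [Finite G] {S H K : Subgroup G} (h : IsProd S H K) (h1 : H ≤ S)
    (h2 : K ≤ S) : Nat.card S ∣ Nat.card H * Nat.card K := Dvd.intro _ (h.card_mul h1 h2)

theorem IsProd.exists_conj {H K : Subgroup G} (h : IsProd ⊤ H K) (x y : G) :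
    ∃ g : G, MulAut.conj x • H = MulAut.conj g • H ∧ MulAut.conj y • K = MulAut.conj g • K := by
  obtain ⟨a, ha, b, hb, e⟩ := h (x⁻¹ * y) trivial
  refine ⟨x * a, ?_, ?_⟩
  · rw [← conj_smul_conj_smul, conj_smul_eq_self_iff.2 (le_normalizer ha)]
  · rw [show y = x * a * b by rw [mul_assoc, ← e]; group, ← conj_smul_conj_smul,
      conj_smul_eq_self_iff.2 (le_normalizer hb)]

theorem IsProd.conj_smul {S H K : Subgroup G} (h : IsProd S H K) (g : G) :
    IsProd (MulAut.conj g • S) (MulAut.conj g • H) (MulAut.conj g • K) := h.map _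



theorem IsProd.conj_conj {H K : Subgroup G} (h : IsProd ⊤ H K) (x y : G) :
    IsProd ⊤ (MulAut.conj x • H) (MulAut.conj y • K) := by
  obtain ⟨g, h1, h2⟩ := h.exists_conj x y
  rw [h1, h2, ← conj_smul_top g]
  exact h.conj_smul g

theorem IsProd.normalClosure_le {H K N : Subgroup G} (h : IsProd ⊤ H K)
    (hH : H ≤ normalizer (N : Set G)) (hN : N ≤ K) : normalClosure (N : Set G) ≤ K := by
  refine (normalClosure_le_normal (N := K.normalCore) fun n hn g => ?_).trans (normalCore_le K)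
  obtain ⟨a, ha, b, hb, rfl⟩ := h.symm g trivial
  rw [show a * b * n * (a * b)⁻¹ = a * (b * n * b⁻¹) * a⁻¹ by group]
  exact mul_mem (mul_mem ha (hN (conj_mem_of_mem_normalizer (hH hb) hn))) (inv_mem ha)

/-- a `p`-subgroup normalised by one factor lies in the other factor if that has `p'`-index. -/
theorem IsProd.le_of_not_dvd_index [Finite G] {p : ℕ} [Fact p.Prime] {H K N : Subgroup G}
    (h : IsProd ⊤ H K) (hH : H ≤ normalizer (N : Set G)) (hN : IsPGroup p N)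
    (hK : ¬ p ∣ K.index) : N ≤ K := by
  obtain ⟨P, hP⟩ := exists_isSylowIn p K
  have hP' : IsSylowIn p P ⊤ := ⟨le_top, hP.isPGroup, by
    rw [relIndex_top_right, ← relIndex_mul_index hP.le]
    exact fun hd => ((Fact.out : p.Prime).dvd_mul.1 hd).elim hP.not_dvd hK⟩
  obtain ⟨g, -, hg⟩ := hP'.exists_le_conj hN le_top
  obtain ⟨a, ha, b, hb, rfl⟩ := h g trivial
  rw [← conj_smul_conj_smul] at hg
  intro n hn
  have := conj_smul_le_of_mem hP.le hb (mem_conj_smul.1 (hg (conj_mem_of_mem_normalizer (hH ha) hn)))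
  simpa [mul_assoc] using this

theorem exists_normal_pgroup_of_solvable [Finite G] {H : Subgroup G} (hs : Group.IsSolvable H)
    (h : H ≠ ⊥) : ∃ p : ℕ, p.Prime ∧ ∃ N ≤ H, N ≠ ⊥ ∧ H ≤ normalizer (N : Set G) ∧
      IsMulCommutative N ∧ ∀ x ∈ N, x ^ p = 1 := by
  have := (nontrivial_iff_ne_bot H).2 h
  obtain ⟨M, -, h1, h2, -, h3, p, hp, h4⟩ := exists_elementary_normal_le (⊤ : Subgroup H)
    (isSolvable_top_iff.2 hs) top_ne_bot
  refine ⟨p, hp, M.map H.subtype, map_subtype_le _,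
    fun e => h2 ((Subgroup.map_eq_bot_iff_of_injective M H.subtype_injective).1 e), ?_,
    inferInstance, ?_⟩
  · rw [← normal_subgroupOf_iff_le_normalizer (map_subtype_le _), ← comap_subtype,
      comap_map_eq_self_of_injective H.subtype_injective]
    exact h1
  · rintro _ ⟨x, hx, rfl⟩
    exact congrArg Subtype.val (h4 x hx)

theorem normalClosure_ne_bot {N : Subgroup G} (h : N ≠ ⊥) : normalClosure (N : Set G) ≠ ⊥ :=
  fun e => h (eq_bot_iff.2 (e ▸ le_normalClosure))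

theorem index_map_mk_dvd (N : Subgroup G) [N.Normal] (H : Subgroup G) :
    (H.map (QuotientGroup.mk' N)).index ∣ H.index :=
  index_map_dvd H (QuotientGroup.mk'_surjective N)

theorem isSolvable_of_two_factorizations_aux (G : Type u) [Group G] [Finite G] :
    ∀ H₁ H₂ H₃ : Subgroup G, Group.IsSolvable H₁ → Group.IsSolvable H₂ → Group.IsSolvable H₃ →
      IsProd ⊤ H₁ H₂ → IsProd ⊤ H₁ H₃ → H₂.index.Coprime H₃.index → Group.IsSolvable G := by
  induction G, ‹Group G›, ‹Finite G› using card_induction' with | h G ih => ?_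
  intro H₁ H₂ H₃ h₁ h₂ h₃ h12 h13 hcop
  by_cases hb : H₁ = ⊥
  · have := h12.le_sup
    rw [hb, bot_sup_eq] at this
    exact isSolvable_top_iff.1 (isSolvable_of_le this h₂)
  obtain ⟨p, hp, N, -, hN, hn, -, hexp⟩ := exists_normal_pgroup_of_solvable h₁ hb
  have := Fact.mk hp
  have hNp : IsPGroup p N := isPGroup_of_pow_eq_one hexp
  have hs : Group.IsSolvable (normalClosure (N : Set G)) := by
    by_cases h : p ∣ H₂.index
    · exact isSolvable_of_le (h13.normalClosure_le hn (h13.le_of_not_dvd_index hn hNp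
        fun h' => hp.one_lt.ne' (Nat.eq_one_of_dvd_coprimes hcop h h'))) h₃
    · exact isSolvable_of_le (h12.normalClosure_le hn (h12.le_of_not_dvd_index hn hNp h)) h₂
  exact isSolvable_of_normal_of_quotient _ hs (ih _ (card_quotient_lt (normalClosure_ne_bot hN)) _ _ _
    (isSolvable_map _ h₁) (isSolvable_map _ h₂) (isSolvable_map _ h₃) (h12.map_mk _) (h13.map_mk _)
    (Nat.Coprime.of_dvd (index_map_mk_dvd _ _) (index_map_mk_dvd _ _) hcop))

theorem isSolvable_of_two_factorizations [Finite G] {H₁ H₂ H₃ : Subgroup G}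
    (h₁ : Group.IsSolvable H₁) (h₂ : Group.IsSolvable H₂) (h₃ : Group.IsSolvable H₃)
    (h12 : IsProd ⊤ H₁ H₂) (h13 : IsProd ⊤ H₁ H₃) (h : H₂.index.Coprime H₃.index) :
    Group.IsSolvable G := isSolvable_of_two_factorizations_aux G H₁ H₂ H₃ h₁ h₂ h₃ h12 h13 h

/-- Wielandt: three solvable subgroups of pairwise coprime indices. -/
theorem isSolvable_of_three_coprime [Finite G] {H₁ H₂ H₃ : Subgroup G}
    (h₁ : Group.IsSolvable H₁) (h₂ : Group.IsSolvable H₂) (h₃ : Group.IsSolvable H₃)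
    (h12 : H₁.index.Coprime H₂.index) (h13 : H₁.index.Coprime H₃.index)
    (h : H₂.index.Coprime H₃.index) : Group.IsSolvable G :=
  isSolvable_of_two_factorizations h₁ h₂ h₃ (isProd_top_of_coprime h12) (isProd_top_of_coprime h13) h

/-- Burnside's theorem. -/
theorem isSolvable_of_primes_subset [Finite G] {p q : ℕ} (hp : p.Prime) (hq : q.Prime)
    (h : ∀ r : ℕ, r.Prime → r ∣ Nat.card G → r = p ∨ r = q) : Group.IsSolvable G := by
  have h0 : Nat.card G ≠ 0 := Nat.card_pos.ne'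
  obtain ⟨a, m, hm, e⟩ := Nat.exists_eq_pow_mul_and_not_dvd h0 p hp.ne_one
  have h1 : m = q ^ m.primeFactorsList.length := Nat.eq_prime_pow_of_unique_prime_dvd
    (fun e' => h0 (by rw [e, e', mul_zero])) fun {r} hr hrm =>
      (h r hr (e ▸ hrm.mul_left _)).resolve_left fun e' => hm (e' ▸ hrm)
  exact S0144.result p q a _ hp hq (h1 ▸ e)

theorem isSolvable_of_card_primeFactors_le_two [Finite G] (h : (Nat.card G).primeFactors.card ≤ 2) :
    Group.IsSolvable G := by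
  have h0 : Nat.card G ≠ 0 := Nat.card_pos.ne'
  have hm : ∀ r : ℕ, r.Prime → r ∣ Nat.card G → r ∈ (Nat.card G).primeFactors :=
    fun r hr hd => Nat.mem_primeFactors.2 ⟨hr, hd, h0⟩
  by_cases h1 : ∃ p, p ∈ (Nat.card G).primeFactors
  · obtain ⟨p, hp⟩ := h1
    by_cases h2 : ∃ q ∈ (Nat.card G).primeFactors, q ≠ p
    · obtain ⟨q, hq, hqp⟩ := h2
      refine isSolvable_of_primes_subset (Nat.prime_of_mem_primeFactors hp)
        (Nat.prime_of_mem_primeFactors hq) fun r hr hd => ?_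
      by_contra h3
      push Not at h3
      have := Finset.two_lt_card.2 ⟨p, hp, q, hq, r, hm r hr hd, hqp.symm, h3.1.symm, h3.2.symm⟩
      omega
    · push Not at h2
      exact isSolvable_of_primes_subset (Nat.prime_of_mem_primeFactors hp)
        (Nat.prime_of_mem_primeFactors hp) fun r hr hd => .inl (h2 r (hm r hr hd))
  · exact isSolvable_of_primes_subset Nat.prime_two Nat.prime_two fun r hr hd =>
      absurd ⟨r, hm r hr hd⟩ h1

theorem factorization_card_of_not_dvd_index [Finite G] {H : Subgroup G} {q : ℕ}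
    (h : ¬ q ∣ H.index) : (Nat.card H).factorization q = (Nat.card G).factorization q := by
  rw [← H.card_mul_index, Nat.factorization_mul Nat.card_pos.ne' FiniteIndex.index_ne_zero,
    Finsupp.add_apply, Nat.factorization_eq_zero_of_not_dvd h, add_zero]

/-- Hall's criterion for solvability. -/
theorem isSolvable_of_complements_aux (G : Type u) [Group G] [Finite G] :
    (∀ p : ℕ, p.Prime → ∃ H : Subgroup G, H.index = p ^ (Nat.card G).factorization p) →
      Group.IsSolvable G := by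
  induction G, ‹Group G›, ‹Finite G› using card_induction' with | h G ih => ?_
  intro h
  by_cases h2 : (Nat.card G).primeFactors.card ≤ 2
  · exact isSolvable_of_card_primeFactors_le_two h2
  have key : ∀ p ∈ (Nat.card G).primeFactors, ∃ H : Subgroup G, Group.IsSolvable H ∧
      ∃ k, H.index = p ^ k := by
    intro p hp
    have hp' := Nat.prime_of_mem_primeFactors hp
    obtain ⟨H, hH⟩ := h p hp'
    refine ⟨H, ih _ (card_lt_of_ne_top fun e => ?_) fun q hq => ?_, _, hH⟩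
    · rw [e, index_top, eq_comm, Nat.pow_eq_one] at hH
      exact hH.elim hp'.ne_one (hp'.factorization_pos_of_dvd Nat.card_pos.ne'
        (Nat.dvd_of_mem_primeFactors hp)).ne'
    by_cases hqp : q = p
    · subst hqp
      refine ⟨⊤, ?_⟩
      have h3 := congrArg (fun n => n.factorization q) H.card_mul_index
      rw [Nat.factorization_mul Nat.card_pos.ne' FiniteIndex.index_ne_zero, Finsupp.add_apply, hH,
        hq.factorization_pow, Finsupp.single_eq_same, add_eq_right] at h3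
      rw [h3, index_top, pow_zero]
    · obtain ⟨K, hK⟩ := h q hq
      have hc : H.index.Coprime K.index := by
        rw [hH, hK]; exact Nat.coprime_pow_primes _ _ hp' hq (Ne.symm hqp)
      refine ⟨K.subgroupOf H, ((isProd_top_of_coprime hc).relIndex_eq_index.trans hK).trans ?_⟩
      rw [factorization_card_of_not_dvd_index]
      rw [hH]
      exact fun hd => hqp ((Nat.prime_dvd_prime_iff_eq hq hp').1 (hq.dvd_of_dvd_pow hd))
  obtain ⟨p, hp, q, hq, r, hr, hpq, hpr, hqr⟩ := Finset.two_lt_card.1 (not_le.1 h2)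
  obtain ⟨H₁, h₁, a, ha⟩ := key p hp
  obtain ⟨H₂, h₂, b, hb⟩ := key q hq
  obtain ⟨H₃, h₃, c, hc⟩ := key r hr
  have hp' := Nat.prime_of_mem_primeFactors hp
  have hq' := Nat.prime_of_mem_primeFactors hq
  have hr' := Nat.prime_of_mem_primeFactors hr
  exact isSolvable_of_three_coprime h₁ h₂ h₃ (ha ▸ hb ▸ Nat.coprime_pow_primes _ _ hp' hq' hpq)
    (ha ▸ hc ▸ Nat.coprime_pow_primes _ _ hp' hr' hpr) (hb ▸ hc ▸ Nat.coprime_pow_primes _ _ hq' hr' hqr)

/-- Itô's theorem. -/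
theorem ito_commutator {A B : Subgroup G} (hA : IsMulCommutative A) (hB : IsMulCommutative B)
    (h : IsProd (A ⊔ B) A B) : IsMulCommutative (⁅A, B⁆ : Subgroup G) := by
  have ha := Solv.isMulCommutative_iff.1 hA
  have hb := Solv.isMulCommutative_iff.1 hB
  have key : ∀ a ∈ A, ∀ b ∈ B, ∀ a₁ ∈ A, ∀ b₁ ∈ B, ⁅a₁, b₁⁆ * ⁅a, b⁆ = ⁅a, b⁆ * ⁅a₁, b₁⁆ := by
    intro a haA b hbB a₁ ha₁ b₁ hb₁
    -- conjugates of `⁅a, b⁆`
    have e1 : ∀ x ∈ A, ∀ y ∈ B, x * y * ⁅a, b⁆ * (x * y)⁻¹ = y * x * ⁅a, b⁆ * (y * x)⁻¹ := by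
      intro x hx y hy
      obtain ⟨a₂, ha₂, b₂, hb₂, e₂⟩ := h.symm.symm (y * a * y⁻¹)
        (mul_mem (mul_mem (mem_sup_right hy) (mem_sup_left haA)) (inv_mem (mem_sup_right hy)))
      obtain ⟨b₃, hb₃, a₃, ha₃, e₃⟩ := h.symm (x * b * x⁻¹)
        (mul_mem (mul_mem (mem_sup_left hx) (mem_sup_right hbB)) (inv_mem (mem_sup_left hx)))
      have l1 : y * ⁅a, b⁆ * y⁻¹ = ⁅a₂, b⁆ := by
        calc y * ⁅a, b⁆ * y⁻¹ = (y * a * y⁻¹) * (y * b) * y⁻¹ * (y * a * y⁻¹)⁻¹ * (y * b⁻¹) * y⁻¹ := by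
              simp only [commutatorElement_def]; group
          _ = a₂ * (b₂ * b) * b₂⁻¹ * a₂⁻¹ * b⁻¹ := by
              rw [e₂, hb y hy b hbB, hb y hy b⁻¹ (inv_mem hbB)]; group
          _ = _ := by rw [hb b₂ hb₂ b hbB, commutatorElement_def]; group
      have l2 : ∀ c ∈ A, x * ⁅c, b⁆ * x⁻¹ = ⁅c, b₃⁆ := fun c hc => by
        calc x * ⁅c, b⁆ * x⁻¹ = (x * c) * x⁻¹ * (x * b * x⁻¹) * (x * c⁻¹) * x⁻¹ * (x * b * x⁻¹)⁻¹ := by
              simp only [commutatorElement_def]; group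
          _ = c * b₃ * (a₃ * c⁻¹) * a₃⁻¹ * b₃⁻¹ := by
              rw [e₃, ha x hx c hc, ha x hx c⁻¹ (inv_mem hc)]; group
          _ = _ := by rw [ha a₃ ha₃ c⁻¹ (inv_mem hc), commutatorElement_def]; group
      have l3 : y * ⁅a, b₃⁆ * y⁻¹ = ⁅a₂, b₃⁆ := by
        calc y * ⁅a, b₃⁆ * y⁻¹ = (y * a * y⁻¹) * (y * b₃) * y⁻¹ * (y * a * y⁻¹)⁻¹ * (y * b₃⁻¹) * y⁻¹ := by
              simp only [commutatorElement_def]; group
          _ = a₂ * (b₂ * b₃) * b₂⁻¹ * a₂⁻¹ * b₃⁻¹ := by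
              rw [e₂, hb y hy b₃ hb₃, hb y hy b₃⁻¹ (inv_mem hb₃)]; group
          _ = _ := by rw [hb b₂ hb₂ b₃ hb₃, commutatorElement_def]; group
      calc x * y * ⁅a, b⁆ * (x * y)⁻¹ = x * (y * ⁅a, b⁆ * y⁻¹) * x⁻¹ := by group
        _ = y * (x * ⁅a, b⁆ * x⁻¹) * y⁻¹ := by rw [l1, l2 a₂ ha₂, l2 a haA, l3]
        _ = _ := by group
    have e2 := e1 a₁⁻¹ (inv_mem ha₁) b₁⁻¹ (inv_mem hb₁)
    rw [commutatorElement_def a₁]
    calc a₁ * b₁ * a₁⁻¹ * b₁⁻¹ * ⁅a, b⁆
        = a₁ * b₁ * (a₁⁻¹ * b₁⁻¹ * ⁅a, b⁆ * (a₁⁻¹ * b₁⁻¹)⁻¹) * (a₁⁻¹ * b₁⁻¹) := by group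
      _ = _ := by rw [e2]; group
  rw [Subgroup.commutator_def]
  refine isMulCommutative_closure ?_
  rintro _ ⟨a, ha, b, hb, rfl⟩ _ ⟨a', ha', b', hb', rfl⟩
  exact key a' ha' b' hb' a ha b hb

theorem commutator_sup_le_of_abelian {A B : Subgroup G} (hA : IsMulCommutative A)
    (hB : IsMulCommutative B) : ⁅A ⊔ B, A ⊔ B⁆ ≤ ⁅A, B⁆ := by
  have hn : A ⊔ B ≤ normalizer ((⁅A, B⁆ : Subgroup G) : Set G) :=
    sup_le (normalizer_commutator_ge_left A B) (normalizer_commutator_ge_right A B)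
  have h1 : ∀ {X : Subgroup G}, X ≤ A ⊔ B → ⁅A, X⁆ ≤ ⁅A, B⁆ → ⁅B, X⁆ ≤ ⁅A, B⁆ →
      ⁅A ⊔ B, X⁆ ≤ ⁅A, B⁆ := fun {X} _ h2 h3 =>
    (commutator_mono (sup_le (fun a ha => mem_centralMod.2 ⟨hn (mem_sup_left ha), fun g hg =>
      h2 (commutator_mem_commutator ha hg)⟩) fun a ha => mem_centralMod.2 ⟨hn (mem_sup_right ha), fun g hg =>
      h3 (commutator_mem_commutator ha hg)⟩) le_rfl).trans commutator_centralMod_le
  have hAA : ⁅A, A⁆ ≤ ⁅A, B⁆ := (commutator_self_eq_bot_iff.2 hA).le.trans bot_le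
  have hBB : ⁅B, B⁆ ≤ ⁅A, B⁆ := (commutator_self_eq_bot_iff.2 hB).le.trans bot_le
  refine h1 le_rfl ?_ ?_
  · rw [commutator_comm]; exact h1 le_sup_left hAA (commutator_comm B A).le
  · rw [commutator_comm]; exact h1 le_sup_right le_rfl hBB

theorem ito_derivedSeries {A B : Subgroup G} (hA : IsMulCommutative A) (hB : IsMulCommutative B)
    (h : IsProd ⊤ A B) : derivedSeries G 2 = ⊥ := by
  have h1 : A ⊔ B = ⊤ := top_le_iff.1 h.le_sup
  have h2 := commutator_sup_le_of_abelian hA hB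
  rw [h1] at h2
  rw [eq_bot_iff, ← commutator_self_eq_bot_iff.2 (ito_commutator hA hB (h1 ▸ h))]
  exact commutator_mono h2 h2

end Cfsg.Agent.Solv
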