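import Cfsg.Agent.Lib.Solv.PGrp

/-! Elementary abelian subgroups as modules over `ZMod p`. -/

set_option autoImplicit false
open Pointwise Subgroup commutatorElement

namespace Cfsg.Agent.Solv

variable {G : Type*} [Group G] {p : ℕ} {V : Subgroup G}

/-- an elementary abelian subgroup written additively. -/
def EMod (_h : IsElementaryAbelian p V) : Type _ := Additive V

namespace EMod

variable {h : IsElementaryAbelian p V}

instance instAddCommGroupEMod : AddCommGroup (EMod h) :=
  { (inferInstance : AddGroup (Additive V)) with add_comm := fun a b => h.1.1.1 a b }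

/-- the element of the ambient group. -/
def val (x : EMod h) : G := (Additive.toMul (α := V) x : V)

/-- the module element of a group element. -/
def mk (h : IsElementaryAbelian p V) (v : G) (hv : v ∈ V) : EMod h := Additive.ofMul (⟨v, hv⟩ : V)

theorem val_mem (x : EMod h) : x.val ∈ V := (Additive.toMul (α := V) x).2

@[simp] theorem val_mk (v : G) (hv : v ∈ V) : (mk h v hv).val = v := rfl

@[simp] theorem mk_val (x : EMod h) : mk h x.val x.val_mem = x := rfl

theorem val_injective : Function.Injective (val : EMod h → G) := fun _ _ e => Subtype.ext e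

theorem ext' {x y : EMod h} (e : x.val = y.val) : x = y := val_injective e

@[simp] theorem val_add (x y : EMod h) : (x + y).val = x.val * y.val := rfl

@[simp] theorem val_zero : (0 : EMod h).val = 1 := rfl

@[simp] theorem val_neg (x : EMod h) : (-x).val = x.val⁻¹ := rfl

@[simp] theorem val_sub (x y : EMod h) : (x - y).val = x.val * y.val⁻¹ := by
  rw [sub_eq_add_neg, val_add, val_neg]

@[simp] theorem val_nsmul (n : ℕ) (x : EMod h) : (n • x).val = x.val ^ n := rfl

@[simp] theorem val_zsmul (n : ℤ) (x : EMod h) : (n • x).val = x.val ^ n := rfl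

theorem val_eq_one {x : EMod h} : x.val = 1 ↔ x = 0 := ⟨fun e => ext' e, fun e => e ▸ rfl⟩

instance instModuleEMod : Module (ZMod p) (EMod h) :=
  AddCommGroup.zmodModule fun x => ext' (h.2 _ x.val_mem)

instance instFiniteEMod [Finite V] : Finite (EMod h) := inferInstanceAs (Finite V)

theorem card_eq : Nat.card (EMod h) = Nat.card V := rfl

theorem val_natCast_smul (n : ℕ) (x : EMod h) : ((n : ZMod p) • x).val = x.val ^ n := by
  rw [Nat.cast_smul_eq_nsmul, val_nsmul]

theorem val_intCast_smul (n : ℤ) (x : EMod h) : ((n : ZMod p) • x).val = x.val ^ n := by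
  rw [Int.cast_smul_eq_zsmul, val_zsmul]

theorem nontrivial (hV : V ≠ ⊥) : Nontrivial (EMod h) := (nontrivial_iff_ne_bot V).2 hV

theorem card_eq_pow_finrank [Fact p.Prime] [Finite V] :
    Nat.card V = p ^ Module.finrank (ZMod p) (EMod h) := by
  rw [← card_eq (h := h), Module.natCard_eq_pow_finrank (K := ZMod p), Nat.card_zmod]

/-- the conjugation representation. -/
def rep (h : IsElementaryAbelian p V) : normalizer (V : Set G) →* Module.End (ZMod p) (EMod h) where
  toFun g := AddMonoidHom.toZModLinearMap p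
    { toFun := fun x => mk h (g * x.val * (g : G)⁻¹) (conj_mem_of_mem_normalizer g.2 x.val_mem)
      map_zero' := ext' (by simp)
      map_add' := fun x y => ext' (by simp [mul_assoc]) }
  map_one' := LinearMap.ext fun x => ext' (show ((1 : G) * x.val * (1 : G)⁻¹) = x.val by simp)
  map_mul' a b := LinearMap.ext fun x => ext'
    (show ((a : G) * b * x.val * ((a : G) * b)⁻¹) = a * (b * x.val * (b : G)⁻¹) * (a : G)⁻¹ by group)

@[simp] theorem val_rep (g : normalizer (V : Set G)) (x : EMod h) :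
    (rep h g x).val = g * x.val * (g : G)⁻¹ := rfl

theorem rep_eq_one_iff {g : normalizer (V : Set G)} :
    rep h g = 1 ↔ (g : G) ∈ centralizer (V : Set G) := by
  rw [mem_centralizer_iff]
  constructor
  · intro e v hv
    have := congrArg val (LinearMap.congr_fun e (mk h v hv))
    exact (mul_inv_eq_iff_eq_mul.1 this).symm
  · intro e
    exact LinearMap.ext fun x => ext' (mul_inv_eq_iff_eq_mul.2 (e _ x.val_mem).symm)

/-- the submodule of a subgroup. -/
def sub (h : IsElementaryAbelian p V) (U : Subgroup G) : Submodule (ZMod p) (EMod h) :=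
  AddSubgroup.toZModSubmodule p
    { carrier := {x | x.val ∈ U}
      zero_mem' := one_mem U
      add_mem' := fun {x y} hx hy => show x.val * y.val ∈ U from mul_mem hx hy
      neg_mem' := fun {x} hx => show x.val⁻¹ ∈ U from inv_mem hx }

@[simp] theorem mem_sub {U : Subgroup G} {x : EMod h} : x ∈ sub h U ↔ x.val ∈ U := Iff.rfl

/-- the subgroup of a submodule. -/
def grp (W : Submodule (ZMod p) (EMod h)) : Subgroup G where
  carrier := {v | ∃ hv : v ∈ V, mk h v hv ∈ W}
  one_mem' := ⟨one_mem V, W.zero_mem⟩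
  mul_mem' := fun ⟨hx, hx'⟩ ⟨hy, hy'⟩ => ⟨mul_mem hx hy, W.add_mem hx' hy'⟩
  inv_mem' := fun ⟨hx, hx'⟩ => ⟨inv_mem hx, W.neg_mem hx'⟩

theorem mem_grp {W : Submodule (ZMod p) (EMod h)} {v : G} :
    v ∈ grp W ↔ ∃ hv : v ∈ V, mk h v hv ∈ W := Iff.rfl

theorem val_mem_grp {W : Submodule (ZMod p) (EMod h)} {x : EMod h} : x.val ∈ grp W ↔ x ∈ W :=
  ⟨fun ⟨_, hx⟩ => hx, fun hx => ⟨x.val_mem, hx⟩⟩

theorem grp_le (W : Submodule (ZMod p) (EMod h)) : grp W ≤ V := fun _ hv => hv.1

@[simp] theorem sub_grp (W : Submodule (ZMod p) (EMod h)) : sub h (grp W) = W :=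
  Submodule.ext fun _ => val_mem_grp

theorem grp_sub (U : Subgroup G) : grp (sub h U) = V ⊓ U :=
  Subgroup.ext fun _ => ⟨fun ⟨h1, h2⟩ => mem_inf.2 ⟨h1, h2⟩,
    fun h1 => ⟨(mem_inf.1 h1).1, (mem_inf.1 h1).2⟩⟩

theorem grp_eq_bot {W : Submodule (ZMod p) (EMod h)} : grp W = ⊥ ↔ W = ⊥ := by
  rw [eq_bot_iff_forall, Submodule.eq_bot_iff]
  exact ⟨fun H x hx => val_eq_one.1 (H _ (val_mem_grp.2 hx)),
    fun H v ⟨hv, hv'⟩ => congrArg val (H _ hv')⟩

theorem grp_eq_top {W : Submodule (ZMod p) (EMod h)} : grp W = V ↔ W = ⊤ := by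
  rw [Submodule.eq_top_iff']
  exact ⟨fun H x => val_mem_grp.1 (H.symm ▸ x.val_mem),
    fun H => le_antisymm (grp_le W) fun v hv => ⟨hv, H _⟩⟩

theorem sub_eq_bot {U : Subgroup G} : sub h U = ⊥ ↔ V ⊓ U = ⊥ := by rw [← grp_eq_bot, grp_sub]

theorem sub_eq_top {U : Subgroup G} : sub h U = ⊤ ↔ V ≤ U := by
  rw [← grp_eq_top, grp_sub, inf_eq_left]

theorem card_grp (W : Submodule (ZMod p) (EMod h)) : Nat.card (grp W) = Nat.card W :=
  Nat.card_congr ⟨fun v => ⟨mk h v v.2.1, v.2.2⟩, fun x => ⟨x.1.val, val_mem_grp.2 x.2⟩,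
    fun _ => rfl, fun _ => rfl⟩

theorem card_grp_eq_pow [Fact p.Prime] [Finite V] (W : Submodule (ZMod p) (EMod h)) :
    Nat.card (grp W) = p ^ Module.finrank (ZMod p) W := by
  rw [card_grp, Module.natCard_eq_pow_finrank (K := ZMod p), Nat.card_zmod]

theorem mem_normalizer_grp [Finite G] {W : Submodule (ZMod p) (EMod h)} {g : G}
    (hg : g ∈ normalizer (V : Set G)) (H : ∀ x ∈ W, rep h ⟨g, hg⟩ x ∈ W) :
    g ∈ normalizer (grp W : Set G) :=
  mem_normalizer_of_conj_mem fun _ ⟨hv, hv'⟩ => ⟨conj_mem_of_mem_normalizer hg hv, H _ hv'⟩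

theorem rep_mem_sub {U : Subgroup G} {g : normalizer (V : Set G)}
    (hg : (g : G) ∈ normalizer (U : Set G)) {x : EMod h} (hx : x ∈ sub h U) : rep h g x ∈ sub h U :=
  conj_mem_of_mem_normalizer hg hx

end EMod

open Polynomial in
theorem exists_eigenvector_of_pow_eq [hp : Fact p.Prime] {M : Type*} [AddCommGroup M]
    [Module (ZMod p) M] [Nontrivial M] (f : Module.End (ZMod p) M) (hf : f ^ p = f) :
    ∃ (c : ZMod p) (x : M), x ≠ 0 ∧ f x = c • x := by
  by_contra hcon
  push Not at hcon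
  have h1 : (X ^ p - X : (ZMod p)[X]) = ∏ c : ZMod p, (X - C c) := by
    have h2 := FiniteField.roots_X_pow_card_sub_X (ZMod p)
    rw [ZMod.card] at h2
    have h3 : (X ^ p - X : (ZMod p)[X]).Monic := monic_X_pow_sub (by
      rw [degree_X]; exact_mod_cast hp.out.one_lt)
    rw [← prod_multiset_X_sub_C_of_monic_of_roots_card_eq h3 (by
      rw [h2, FiniteField.X_pow_card_sub_X_natDegree_eq _ hp.out.one_lt]; simp), h2]
    rfl
  have h2 : ∀ s : Finset (ZMod p), Function.Injective (aeval f (∏ c ∈ s, (X - C c))) := by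
    intro s
    induction s using Finset.induction_on with
    | empty => exact fun _ _ e => by simpa using e
    | insert a s ha ih =>
      rw [Finset.prod_insert ha, map_mul]
      rw [Module.End.coe_mul]
      refine Function.Injective.comp ?_ ih
      rw [injective_iff_map_eq_zero]
      intro x hx
      by_contra h0
      exact hcon a x h0 (by simpa [sub_eq_zero] using hx)
  have h3 := h2 Finset.univ
  rw [← h1, map_sub, map_pow, aeval_X, hf, sub_self] at h3
  obtain ⟨x, hx⟩ := exists_ne (0 : M)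
  exact hx (h3 (by simp))

theorem exists_eigen_of_pow_mem_centralizer [hp : Fact p.Prime] (h : IsElementaryAbelian p V)
    (hV : V ≠ ⊥) {a : G} (ha : a ∈ normalizer (V : Set G))
    (h1 : a ^ (p - 1) ∈ centralizer (V : Set G)) :
    ∃ k : ℕ, ∃ v ∈ V, v ≠ 1 ∧ a * v * a⁻¹ = v ^ k := by
  have := EMod.nontrivial (h := h) hV
  obtain ⟨c, x, hx, e⟩ := exists_eigenvector_of_pow_eq (EMod.rep h ⟨a, ha⟩) (by
    rw [← pow_sub_one_mul hp.out.ne_zero, ← map_pow, EMod.rep_eq_one_iff.2 h1, one_mul])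
  refine ⟨c.val, x.val, x.val_mem, fun h0 => hx (EMod.val_eq_one.1 h0), ?_⟩
  rw [← EMod.val_natCast_smul, ZMod.natCast_zmod_val, ← e]; rfl

/-- an irreducible module for an abelian group of exponent dividing `p - 1` has order `p`. -/
theorem card_eq_prime_of_irreducible [Finite G] [hp : Fact p.Prime] (h : IsElementaryAbelian p V)
    (hV : V ≠ ⊥) {L : Subgroup G} (hL : L ≤ normalizer (V : Set G))
    (h1 : ∀ a ∈ L, a ^ (p - 1) ∈ centralizer (V : Set G)) (h2 : ⁅L, L⁆ ≤ centralizer (V : Set G))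
    (hirr : ∀ U ≤ V, L ≤ normalizer (U : Set G) → U = ⊥ ∨ U = V) : Nat.card V = p := by
  obtain ⟨v, hv, hv1⟩ := exists_ne_one_of_ne_bot hV
  have key : ∀ a ∈ L, ∃ k : ℕ, ∀ v ∈ V, a * v * a⁻¹ = v ^ k := by
    intro a ha
    obtain ⟨k, w, hw, hw1, e⟩ := exists_eigen_of_pow_mem_centralizer h hV (hL ha) (h1 a ha)
    let U : Subgroup G :=
      { carrier := {v | v ∈ V ∧ a * v * a⁻¹ = v ^ k}
        one_mem' := ⟨one_mem _, by simp⟩
        mul_mem' := fun {x y} hx hy => ⟨mul_mem hx.1 hy.1, by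
          rw [Commute.mul_pow (Solv.isMulCommutative_iff.1 h.1 x hx.1 y hy.1), ← hx.2, ← hy.2]; group⟩
        inv_mem' := fun {x} hx => ⟨inv_mem hx.1, by rw [inv_pow, ← hx.2]; group⟩ }
    rcases hirr U (fun x hx => hx.1) (le_normalizer_of_conj_mem fun g hg x hx =>
      ⟨conj_mem_of_mem_normalizer (hL hg) hx.1, by
        have h3 := mem_centralizer_iff.1 (h2 (commutator_mem_commutator (inv_mem ha) (inv_mem hg))) x hx.1
        rw [conj_pow, ← hx.2]
        simp only [commutatorElement_def, inv_inv] at h3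
        calc a * (g * x * g⁻¹) * a⁻¹ = g * a * (a⁻¹ * g⁻¹ * a * g * x) * (a * g)⁻¹ := by group
          _ = _ := by rw [← h3]; group⟩) with e1 | e1
    · exact absurd (mem_bot.1 (e1 ▸ (⟨hw, e⟩ : w ∈ U))) hw1
    · exact ⟨k, fun v hv => (e1 ▸ hv : v ∈ U).2⟩
  rcases hirr (zpowers v) (zpowers_le.2 hv) (fun a ha => mem_normalizer_zpowers (by
    obtain ⟨k, hk⟩ := key a ha
    rw [hk v hv]; exact pow_mem (mem_zpowers v) k)) with e | e
  · exact absurd (zpowers_eq_bot.1 e) hv1
  · rw [← e, Nat.card_zpowers, orderOf_eq_prime (h.2 v hv) hv1]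

end Cfsg.Agent.Solv
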