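import Cfsg.Agent.Lib.Solv.Fact
import Cfsg.Agent.Lib.Comp.Subn

/-! Wielandt's zipper lemma and permutable subgroups. -/

set_option autoImplicit false
open Pointwise Subgroup commutatorElement

namespace Cfsg.Agent.Solv

open Comp (SubnIn)

variable {G : Type*} [Group G]

theorem sup_induction' {A B : Subgroup G} {P : G → Prop} {x : G} (hx : x ∈ A ⊔ B)
    (hA : ∀ a ∈ A, P a) (hB : ∀ b ∈ B, P b) (hmul : ∀ x y, P x → P y → P (x * y)) : P x := by
  rw [sup_eq_iSup] at hx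
  refine iSup_induction (C := P) _ hx (fun i y hy => ?_) (hA 1 (one_mem A)) hmul
  cases i
  exacts [hB y hy, hA y hy]

theorem isProd_iSup_left {ι : Sort*} {A : ι → Subgroup G} {C : Subgroup G}
    (h : ∀ i, IsProd (A i ⊔ C) (A i) C) : IsProd ((⨆ i, A i) ⊔ C) (⨆ i, A i) C := by
  refine isProd_sup_of_comm fun k hk a ha => ?_
  revert k
  refine iSup_induction (C := fun a => ∀ k ∈ C, ∃ a' ∈ ⨆ i, A i, ∃ k' ∈ C, k * a = a' * k') _ ha
    (fun i a ha k hk => ?_) (fun k hk => ⟨1, one_mem _, k, hk, by simp⟩) fun x y hx hy k hk => ?_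
  · obtain ⟨a', ha', k', hk', e⟩ := h i (k * a) (mul_mem (mem_sup_right hk) (mem_sup_left ha))
    exact ⟨a', mem_iSup_of_mem i ha', k', hk', e⟩
  · obtain ⟨a', ha', k', hk', e⟩ := hx k hk
    obtain ⟨a'', ha'', k'', hk'', e'⟩ := hy k' hk'
    exact ⟨a' * a'', mul_mem ha' ha'', k'', hk'', by rw [← mul_assoc, e, mul_assoc, e', mul_assoc]⟩

theorem isProd_sup_left {A B C : Subgroup G} (hA : IsProd (A ⊔ C) A C) (hB : IsProd (B ⊔ C) B C) :
    IsProd (A ⊔ B ⊔ C) (A ⊔ B) C := by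
  rw [sup_eq_iSup (x := A)]
  exact isProd_iSup_left fun i => by cases i; exacts [hB, hA]

theorem normalClosure_le_of_forall_conj {A M : Subgroup G} (h : ∀ g : G, MulAut.conj g • A ≤ M) :
    normalClosure (A : Set G) ≤ M :=
  (normalClosure_le_normal (N := M.normalCore) fun _ ha g => h g (conj_mem_conj_smul g ha)).trans
    (normalCore_le M)

/-- Kegel's lemma. -/
theorem exists_normal_of_forall_isProd [Finite G] {A B : Subgroup G}
    (h : ∀ x : G, IsProd (A ⊔ MulAut.conj x • B) A (MulAut.conj x • B)) (hne : ¬ IsProd ⊤ A B) :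
    ∃ N : Subgroup G, N.Normal ∧ N ≠ ⊤ ∧ (A ≤ N ∨ B ≤ N) := by
  obtain ⟨A', hA, ⟨h1, h2⟩, hmax⟩ := exists_maximal_ge (P := fun A =>
    (∀ x : G, IsProd (A ⊔ MulAut.conj x • B) A (MulAut.conj x • B)) ∧ ¬ IsProd ⊤ A B) ⟨h, hne⟩
  by_cases hn : A'.Normal
  · exact ⟨A', hn, fun e => h2 fun g _ => ⟨g, e ▸ trivial, 1, one_mem _, (mul_one g).symm⟩, .inl hA⟩
  refine ⟨normalClosure B, inferInstance, fun e => hn ?_, .inr le_normalClosure⟩
  rw [normal_iff_top_le_normalizer, ← e]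
  refine normalClosure_le_of_forall_conj fun x b hb => ?_
  have h3 := hmax (A' ⊔ MulAut.conj b • A') ⟨fun y => isProd_sup_left (h1 y) ?_, fun h4 => h2 ?_⟩
    le_sup_left
  · exact conj_smul_eq_self_iff.1 (eq_of_le_of_card_le (le_sup_right.trans h3.le) (card_conj_smul _ _).ge)
  · have := (h1 (b⁻¹ * y)).conj_smul b
    rwa [smul_sup, conj_smul_conj_smul, mul_inv_cancel_left] at this
  · have h5 := (h4.conj_conj 1 x).le_sup
    rw [conj_one_smul] at h5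
    have h6 : IsProd ⊤ A' (MulAut.conj x • B) := (h1 x).mono (h5.trans (sup_le (sup_le le_sup_left
      (conj_smul_le_of_mem le_sup_left (mem_sup_right hb))) le_sup_right)) le_rfl le_rfl
    have := h6.conj_conj 1 x⁻¹
    rwa [conj_one_smul, conj_inv_smul_conj_smul] at this

theorem subnIn_conj_smul {H M : Subgroup G} (h : SubnIn H M) (g : G) :
    SubnIn (MulAut.conj g • H) (MulAut.conj g • M) := h.map _

theorem exists_le_normalizer_sSup [Finite G] (M : Subgroup G) : ∀ S S₀ : Set (Subgroup G),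
    (∀ U ∈ S, SubnIn U M) → (∀ U ∈ S, ∀ g ∈ M, MulAut.conj g • U ∈ S) → S₀ ⊂ S →
      ∃ X ∈ S, X ∉ S₀ ∧ X ≤ normalizer ((sSup S₀ : Subgroup G) : Set G) := by
  induction M using Comp.subgroup_induction with | h M ih => ?_
  intro S S₀ hS hc h0
  obtain ⟨X, hX, hX0⟩ := Set.exists_of_ssubset h0
  rcases (SubnIn.sSup fun U hU => hS U (h0.1 hU)).eq_or_exists_lt with e | ⟨N, h1, h2, h3⟩
  · exact ⟨X, hX, hX0, e ▸ ((hS X hX).le.trans (e ▸ le_normalizer))⟩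
  by_cases h4 : S₀ = {U ∈ S | U ≤ N}
  · refine ⟨X, hX, hX0, (hS X hX).le.trans (Comp.le_normalizer_sSup fun g hg K hK => ?_)⟩
    rw [h4] at hK ⊢
    exact ⟨hc K hK.1 g hg, Comp.cj_le_of_mem hK.2 (h2 hg)⟩
  · obtain ⟨Y, hY, h5⟩ := ih N h1 {U ∈ S | U ≤ N} S₀ (fun U hU => (hS U hU.1).of_le hU.2 h1.le)
      (fun U hU g hg => ⟨hc U hU.1 g (h1.le hg), conj_smul_le_of_mem hU.2 hg⟩)
      (ssubset_of_subset_of_ne (fun U hU => ⟨h0.1 hU, (le_sSup hU).trans h3.le⟩) h4)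
    exact ⟨Y, hY.1, h5⟩

theorem zipper_aux [Finite G] {M : Subgroup G} {U : Set (Subgroup G)} (hU : U.Nonempty)
    (hUM : ∀ V ∈ U, V ≤ M) (S : Subgroup G → Set (Subgroup G))
    (hS : ∀ V ∈ U, ∀ B ∈ S V, SubnIn B V)
    (hc : ∀ V ∈ U, ∀ B ∈ S V, ∀ g ∈ V, MulAut.conj g • B ∈ S V)
    (h2 : ∀ V ∈ U, ∀ W ∈ U, ∀ B ∈ S W, B ≤ V → B ∈ S V)
    (h3 : ∀ V ∈ U, ∀ W ∈ U, ∃ X ∈ U,
      normalizer ((sSup (S V ∩ S W) : Subgroup G) : Set G) ⊓ M ≤ X) :
    ∃ M ∈ U, ∀ V ∈ U, V ≤ M := by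
  have key : ∀ T : Set (Subgroup G), ∀ V ∈ U, ∀ W ∈ U, (∀ K ∈ U, V ≤ K → K = V) →
      (∀ K ∈ U, W ≤ K → K = W) → S V ∩ S W = T → V = W := by
    intro T
    induction T using (wellFounded_gt (α := Set (Subgroup G))).induction with | _ T ih => ?_
    intro V hV W hW hVm hWm hT
    obtain ⟨X', hX', h4⟩ := h3 V hV W hW
    obtain ⟨X, hX'X, hX, hXm⟩ := exists_maximal_ge (P := fun K => K ∈ U) hX'
    rw [hT] at h4
    have h5 : ∀ V ∈ U, (∀ K ∈ U, V ≤ K → K = V) → T ⊆ S V → V = X := by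
      intro V hV hVm hTV
      rcases hTV.eq_or_ssubset with e | e
      · refine (hVm X hX (le_trans (le_inf ?_ (hUM V hV)) (h4.trans hX'X))).symm
        rw [e]
        exact Comp.le_normalizer_sSup fun g hg K hK => hc V hV K hK g hg
      · obtain ⟨Y, hY, hYT, h6⟩ := exists_le_normalizer_sSup V _ _ (hS V hV) (hc V hV) e
        refine ih (S V ∩ S X) (ssubset_of_subset_of_ne (fun B hB => ⟨hTV hB, h2 X hX V hV B (hTV hB) ?_⟩)
          fun e => hYT (e ▸ ⟨hY, h2 X hX V hV Y hY ?_⟩)) V hV X hX hVm hXm rfl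
        · exact le_trans (le_inf ((le_sSup hB).trans le_normalizer)
            ((hS V hV B (hTV hB)).le.trans (hUM V hV))) (h4.trans hX'X)
        · exact le_trans (le_inf h6 ((hS V hV Y hY).le.trans (hUM V hV))) (h4.trans hX'X)
    rw [h5 V hV hVm (hT ▸ Set.inter_subset_left), h5 W hW hWm (hT ▸ Set.inter_subset_right)]
  obtain ⟨V, hV⟩ := hU
  obtain ⟨X, -, hX, hXm⟩ := exists_maximal_ge (P := fun K => K ∈ U) hV
  refine ⟨X, hX, fun W hW => ?_⟩
  obtain ⟨Y, hWY, hY, hYm⟩ := exists_maximal_ge (P := fun K => K ∈ U) hW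
  exact key _ Y hY X hX hYm hXm rfl ▸ hWY

/-- Wielandt's zipper lemma. -/
theorem zipper [Finite G] {A M : Subgroup G} (hAM : A ≤ M)
    (h : ∀ V, A ≤ V → V < M → SubnIn A V) (hn : ¬ SubnIn A M) :
    ∃ K, A ≤ K ∧ K < M ∧ ∀ V, A ≤ V → V < M → V ≤ K := by
  have hA : A < M := lt_of_le_of_ne hAM fun e => hn (e ▸ SubnIn.refl _)
  have hc : ∀ g ∈ M, ∀ V, MulAut.conj g • A ≤ V → V < M → SubnIn (MulAut.conj g • A) V := by
    intro g hg V h1 h2
    have := subnIn_conj_smul (h (MulAut.conj g⁻¹ • V)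
      (conj_inv_smul_conj_smul g A ▸ conj_smul_mono _ h1) (lt_of_le_of_ne
        (conj_smul_le_of_mem h2.le (inv_mem hg)) fun e => h2.ne (by
          rw [← conj_smul_conj_inv_smul g V, e, conj_smul_eq_self_iff.2 (le_normalizer hg)]))) g
    rwa [conj_smul_conj_inv_smul] at this
  obtain ⟨K, hK, h1⟩ := zipper_aux (M := M) (U := {V | A ≤ V ∧ V < M}) ⟨A, le_rfl, hA⟩
    (fun V hV => hV.2.le) (fun V => {B | (∃ g ∈ M, B = MulAut.conj g • A) ∧ B ≤ V})
    (by rintro V hV _ ⟨⟨g, hg, rfl⟩, h1⟩; exact hc g hg V h1 hV.2)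
    (by
      rintro V hV _ ⟨⟨g, hg, rfl⟩, h1⟩ x hx
      exact ⟨⟨x * g, mul_mem (hV.2.le hx) hg, conj_smul_conj_smul _ _ _⟩, conj_smul_le_of_mem h1 hx⟩)
    (fun V _ W _ B hB h1 => ⟨hB.1, h1⟩) fun V hV W hW => by
      have h1 : A ≤ sSup ({B | (∃ g ∈ M, B = MulAut.conj g • A) ∧ B ≤ V} ∩
          {B | (∃ g ∈ M, B = MulAut.conj g • A) ∧ B ≤ W}) :=
        le_sSup ⟨⟨⟨1, one_mem _, (conj_one_smul A).symm⟩, hV.1⟩,
          ⟨⟨1, one_mem _, (conj_one_smul A).symm⟩, hW.1⟩⟩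
      have h2 : sSup ({B | (∃ g ∈ M, B = MulAut.conj g • A) ∧ B ≤ V} ∩
          {B | (∃ g ∈ M, B = MulAut.conj g • A) ∧ B ≤ W}) ≤ V := sSup_le fun B hB => hB.1.2
      refine ⟨_, ⟨le_inf (h1.trans le_normalizer) hAM, lt_of_le_of_ne inf_le_right fun e => hn ?_⟩,
        le_rfl⟩
      exact (h _ h1 (h2.trans_lt hV.2)).trans
        (SubnIn.of_normalizer (h2.trans hV.2.le) (inf_eq_right.1 e))
  exact ⟨K, hK.1, hK.2, fun V h2 h3 => h1 V ⟨h2, h3⟩⟩

/-- Wielandt's subnormality criterion. -/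
theorem subnIn_of_forall_conj [Finite G] {A : Subgroup G} (M : Subgroup G) : A ≤ M →
    (∀ g ∈ M, SubnIn A (A ⊔ MulAut.conj g • A)) → SubnIn A M := by
  induction M using Comp.subgroup_induction with | h M ih => ?_
  intro hAM h
  by_contra hn
  have h0 : ∀ V, A ≤ V → V < M → SubnIn A V := fun V h1 h2 =>
    ih V h2 h1 fun g hg => h g (h2.le hg)
  obtain ⟨K, -, h2, h3⟩ := zipper hAM h0 hn
  have h4 : A ⊔ ⁅A, M⁆ ≤ K := by
    rw [Comp.sup_commutator_eq_iSup]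
    refine iSup_le fun g => le_sup_right.trans (h3 (A ⊔ MulAut.conj (g : G) • A) le_sup_left
      (lt_of_le_of_ne (sup_le hAM (conj_smul_le_of_mem hAM g.2)) fun e => hn (e ▸ h g g.2)))
  exact hn ((h0 _ le_sup_left (h4.trans_lt h2)).trans
    (SubnIn.of_normalizer (h4.trans h2.le) (Comp.le_normalizer_sup_commutator A M)))

theorem SubnIn.exists_lt_normalizer {A M : Subgroup G} (h : SubnIn A M) (hne : A ≠ M) :
    ∃ L, A < L ∧ L ≤ normalizer (A : Set G) ∧ SubnIn L M := by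
  induction h with
  | refl => exact absurd rfl hne
  | step H K M h1 h2 h3 ih =>
    rcases h1.eq_or_lt with rfl | h4
    · exact ih hne
    · exact ⟨K, h4, h2, h3⟩

/-- the join of the subnormal subgroups contained in a proper subgroup. -/
theorem exists_subnormal_join [Finite G] {M : Subgroup G} (hM : M ≠ ⊤) :
    ∃ L ≤ M, (∀ N : Subgroup G, N.IsSubnormal → N ≤ M → N ≤ L) ∧ M < normalizer (L : Set G) := by
  let S : Set (Subgroup G) := {N | N.IsSubnormal ∧ N ≤ M}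
  have h1 : sSup S ≤ M := sSup_le fun N hN => hN.2
  refine ⟨sSup S, h1, fun N h2 h3 => le_sSup ⟨h2, h3⟩, lt_of_le_of_ne
    (Comp.le_normalizer_sSup fun g hg K hK => ⟨hK.1.smul (MulAut.conj g), conj_smul_le_of_mem hK.2 hg⟩)
    fun e => ?_⟩
  obtain ⟨L, h2, h3, h4⟩ := SubnIn.exists_lt_normalizer
    (Comp.SubnIn.sSup (S := S) fun K hK => Comp.SubnIn.of_isSubnormal hK.1)
    fun e => hM (top_le_iff.1 (e ▸ h1))
  exact h2.not_ge (le_sSup ⟨h4.isSubnormal, e ▸ h3⟩)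

theorem le_normalCore_of_isSubnormal [Finite G] {M N : Subgroup G} (hM : IsCoatom M)
    (hN : N.IsSubnormal) (h : N ≤ M) : N ≤ M.normalCore := by
  obtain ⟨L, h1, h2, h3⟩ := exists_subnormal_join hM.1
  have := normalizer_eq_top_iff.1 (hM.2 _ h3)
  exact (h2 N hN h).trans (normal_le_normalCore.2 h1)

theorem isSubnormal_of_le_nilpotent_normal [Finite G] {A N : Subgroup G} [N.Normal]
    (hN : Group.IsNilpotent N) (h : A ≤ N) : A.IsSubnormal :=
  ((Comp.subnIn_of_isNilpotent hN h).trans (Comp.SubnIn.of_normal N)).isSubnormal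

end Cfsg.Agent.Solv
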