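import Cfsg.Agent.Lib.Solv.Basic

/-! Conjugacy part of the Schur–Zassenhaus theorem and its internal forms. -/

set_option autoImplicit false
open Pointwise Subgroup

namespace Cfsg.Agent.Solv

universe u

section
variable {G : Type*} [Group G]

theorem sz_conj_abelian [Finite G] (A : Subgroup G) [A.Normal] [IsMulCommutative A]
    (hA : (Nat.card A).Coprime A.index)
    (H K : Subgroup G) (hH : Subgroup.IsComplement' A H) (hK : Subgroup.IsComplement' A K) :
    ∃ a ∈ A, MulAut.conj a • H = K := by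
  have key : ∀ L : Subgroup G, IsComplement' A L → ∃ α : A.QuotientDiff,
      MulAction.stabilizer G α = L := by
    intro L hL
    let T : A.LeftTransversal := ⟨L, hL.symm⟩
    let α : A.QuotientDiff := Quotient.mk'' T
    refine ⟨α, ?_⟩
    symm
    apply eq_of_le_of_card_le
    · intro l hl
      rw [MulAction.mem_stabilizer_iff]
      refine congrArg Quotient.mk'' (?_ : MulOpposite.op l⁻¹ • T = T)
      apply Subtype.ext
      change MulOpposite.op l⁻¹ • (L : Set G) = L
      ext x
      rw [Set.mem_smul_set_iff_inv_smul_mem]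
      simp [mul_mem_cancel_right hl]
    · rw [IsComplement'.card_eq_index hL,
        IsComplement'.card_eq_index (isComplement'_stabilizer_of_coprime hA)]
  obtain ⟨α, rfl⟩ := key H hH
  obtain ⟨β, rfl⟩ := key K hK
  obtain ⟨a, rfl⟩ := Subgroup.exists_smul_eq hA α β
  refine ⟨a, a.2, ?_⟩
  change _ = MulAction.stabilizer G ((a : G) • α)
  rw [MulAction.stabilizer_smul_eq_stabilizer_map_conj]
  rfl

theorem IsComplement'.subgroupOf {N H U : Subgroup G} [N.Normal] (h : IsComplement' N H)
    (hU : H ≤ U) : IsComplement' (N.subgroupOf U) (H.subgroupOf U) := by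
  apply isComplement'_of_inf_eq_bot_of_sup_eq_top
  · rw [eq_bot_iff]
    rintro x ⟨h1, h2⟩
    have : (x : G) ∈ N ⊓ H := ⟨h1, h2⟩
    rw [IsComplement'.inf_eq_bot h, mem_bot] at this
    exact Subtype.ext this
  · rw [eq_top_iff]
    rintro x -
    obtain ⟨n, hn, a, ha, hx⟩ := IsComplement'.exists_mul h x
    have hn' : n ∈ U := by
      have := x.2
      rw [hx] at this
      exact (mul_mem_cancel_right (hU ha)).1 this
    have : x = ⟨n, hn'⟩ * ⟨a, hU ha⟩ := Subtype.ext hx
    rw [this]
    exact mul_mem (mem_sup_left hn) (mem_sup_right ha)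

theorem IsComplement'.map_mk {N H : Subgroup G} [Finite G] [N.Normal] (h : IsComplement' N H)
    (hN : (Nat.card N).Coprime N.index) (L : Subgroup G) [L.Normal] :
    IsComplement' (N.map (QuotientGroup.mk' L)) (H.map (QuotientGroup.mk' L)) := by
  have : (N.map (QuotientGroup.mk' L)).Normal := Normal.map inferInstance _ (QuotientGroup.mk'_surjective L)
  apply isComplement'_of_inf_eq_bot_of_sup_eq_top
  · apply inf_eq_bot_of_coprime'
    rw [← IsComplement'.card_eq_index h] at hN
    exact (hN.coprime_dvd_left (card_map_dvd _ _)).coprime_dvd_right (card_map_dvd _ _)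
  · rw [← Subgroup.map_sup, h.sup_eq_top, map_top_of_surjective _ (QuotientGroup.mk'_surjective L)]

theorem isSolvable_quotient_subgroupOf {N : Subgroup G} [N.Normal] (h : Group.IsSolvable (G ⧸ N))
    (U : Subgroup G) : Group.IsSolvable (U ⧸ N.subgroupOf U) := by
  refine Group.isSolvable_of_isSolvable_injective
    (f := QuotientGroup.map (N.subgroupOf U) N U.subtype (le_refl (N.comap U.subtype))) ?_
  rw [injective_iff_map_eq_one]
  intro x hx
  induction x using QuotientGroup.induction_on with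
  | H x =>
    exact (QuotientGroup.eq_one_iff _).2 ((QuotientGroup.eq_one_iff (x : G)).1 hx)

theorem isSolvable_quotient_map {N : Subgroup G} [N.Normal] (h : Group.IsSolvable (G ⧸ N))
    {G' : Type*} [Group G'] (f : G →* G') (hf : Function.Surjective f) [(N.map f).Normal] :
    Group.IsSolvable (G' ⧸ N.map f) := by
  refine Group.isSolvable_of_surjective
    (f := QuotientGroup.map N (N.map f) f (le_comap_map f N)) ?_
  intro x
  induction x using QuotientGroup.induction_on with
  | H x =>
    obtain ⟨y, rfl⟩ := hf x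
    exact ⟨y, rfl⟩

theorem isSolvable_quotient_of_le {N M : Subgroup G} [N.Normal] [M.Normal] (hNM : N ≤ M)
    (h : Group.IsSolvable (G ⧸ N)) : Group.IsSolvable (G ⧸ M) := by
  refine Group.isSolvable_of_surjective
    (f := QuotientGroup.map N M (MonoidHom.id G) hNM) ?_
  intro x
  induction x using QuotientGroup.induction_on with
  | H x => exact ⟨x, rfl⟩

theorem conj_of_conj_subgroupOf {H K U : Subgroup G} (hH : H ≤ U) (hK : K ≤ U) (g : U)
    (h : MulAut.conj g • H.subgroupOf U = K.subgroupOf U) : MulAut.conj (g : G) • H = K := by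
  have := congrArg (Subgroup.map U.subtype) h
  rwa [map_conj_smul, subgroupOf_map_subtype, subgroupOf_map_subtype, inf_of_le_left hH,
    inf_of_le_left hK] at this

theorem isComplement'_conj_smul {N H : Subgroup G} [N.Normal] (h : IsComplement' N H) (g : G) :
    IsComplement' N (MulAut.conj g • H) := by
  apply isComplement'_of_inf_eq_bot_of_sup_eq_top
  · rw [← Normal.conj_smul_eq_self g N, ← smul_inf, IsComplement'.inf_eq_bot h, smul_bot]
  · rw [← Normal.conj_smul_eq_self g N, ← smul_sup, h.sup_eq_top, conj_smul_top]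

end

theorem sz_conj_aux (G : Type u) [Group G] [Finite G] : ∀ (N : Subgroup G) [N.Normal]
    (_ : (Nat.card N).Coprime N.index) (_ : Group.IsSolvable N ∨ Group.IsSolvable (G ⧸ N))
    (H K : Subgroup G) (_ : Subgroup.IsComplement' N H) (_ : Subgroup.IsComplement' N K),
    ∃ g : G, MulAut.conj g • H = K := by
  induction G, ‹Group G›, ‹Finite G› using card_induction' with
  | h G ih =>
  intro N _ hN hsolv H K hH hK
  -- proper subgroups
  have sub : ∀ (U H K : Subgroup G), U ≠ ⊤ → IsComplement' N H → IsComplement' N K → H ≤ U →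
      K ≤ U → ∃ g : G, MulAut.conj g • H = K := by
    intro U H K hU hH hK hHU hKU
    have h1 : (Nat.card (N.subgroupOf U)).Coprime (N.subgroupOf U).index :=
      (hN.coprime_dvd_left (card_comap_dvd_of_injective N U.subtype U.subtype_injective)).coprime_dvd_right
        (relIndex_dvd_index_of_normal N U)
    obtain ⟨g, hg⟩ := ih U (card_lt_of_ne_top hU) (N.subgroupOf U) h1
      (hsolv.imp (isSolvable_subgroupOf · U) (isSolvable_quotient_subgroupOf · U))
      _ _ (IsComplement'.subgroupOf hH hHU) (IsComplement'.subgroupOf hK hKU)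
    exact ⟨g, conj_of_conj_subgroupOf hHU hKU g hg⟩
  -- quotients
  have quo : ∀ (L : Subgroup G) [L.Normal], L ≠ ⊥ → K ⊔ L ≠ ⊤ → ∃ g : G, MulAut.conj g • H = K := by
    intro L _ hL hKL
    have : (N.map (QuotientGroup.mk' L)).Normal :=
      Normal.map inferInstance _ (QuotientGroup.mk'_surjective L)
    have h1 : (Nat.card (N.map (QuotientGroup.mk' L))).Coprime (N.map (QuotientGroup.mk' L)).index :=
      (hN.coprime_dvd_left (card_map_dvd _ _)).coprime_dvd_right
        (index_map_dvd _ (QuotientGroup.mk'_surjective L))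
    obtain ⟨g, hg⟩ := ih (G ⧸ L) (card_quotient_lt hL) (N.map (QuotientGroup.mk' L)) h1
      (hsolv.imp (isSolvable_map _ ·) (isSolvable_quotient_map · _ (QuotientGroup.mk'_surjective L)))
      _ _ (IsComplement'.map_mk hH hN L) (IsComplement'.map_mk hK hN L)
    obtain ⟨g, rfl⟩ := QuotientGroup.mk'_surjective L g
    rw [← map_conj_smul] at hg
    have h2 : MulAut.conj g • H ≤ K ⊔ L := (map_mk_le_map_mk_iff L).1 hg.le
    obtain ⟨g', hg'⟩ := sub (K ⊔ L) _ K hKL (isComplement'_conj_smul hH g) hK h2 le_sup_left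
    exact ⟨g' * g, by rw [← conj_smul_conj_smul, hg']⟩
  by_cases hb : N = ⊥
  · subst hb
    rw [isComplement'_bot_left] at hH hK
    exact ⟨1, by rw [hH, hK, conj_smul_top]⟩
  by_cases ht : N = ⊤
  · subst ht
    rw [isComplement'_top_left] at hH hK
    exact ⟨1, by rw [hH, hK, smul_bot]⟩
  rcases hsolv with hs | hs
  · obtain ⟨L, hLN, hLn, hL, -, hc, -⟩ := exists_elementary_normal_le N hs hb
    by_cases hKL : K ⊔ L = ⊤
    · have : N = L := by
        have := dedekind (B := K) hLN le_normalizer_of_normal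
        rw [sup_comm L K, hKL, top_inf_eq, inf_comm, IsComplement'.inf_eq_bot hK, sup_bot_eq] at this
        exact this
      subst this
      obtain ⟨a, -, ha⟩ := sz_conj_abelian N hN H K hH hK
      exact ⟨a, ha⟩
    · exact quo L hL hKL
  · have hnt : (⊤ : Subgroup (G ⧸ N)) ≠ ⊥ := by
      intro h
      apply ht
      rw [eq_top_iff, ← map_mk_eq_bot_iff N, map_top_of_surjective _ (QuotientGroup.mk'_surjective N), h]
    obtain ⟨M', -, hMn, hM', -, -, p, hp, hpM⟩ :=
      exists_elementary_normal_le (⊤ : Subgroup (G ⧸ N)) (isSolvable_top_iff.2 hs) hnt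
    have := Fact.mk hp
    have hpM' : IsPGroup p M' := isPGroup_of_pow_eq_one hpM
    obtain ⟨k, hk⟩ := IsPGroup.iff_card.1 hpM'
    set M := M'.comap (QuotientGroup.mk' N) with hMdef
    have hNM : N ≤ M := le_comap_mk N M'
    have hk0 : k ≠ 0 := by
      rintro rfl
      exact hM' (card_eq_one.1 (by simpa using hk))
    have hpN : ¬ p ∣ Nat.card N := by
      intro hd
      have : p ∣ N.index := by
        rw [index_eq_card]
        exact (hk ▸ dvd_pow_self p hk0 : p ∣ Nat.card M').trans (card_subgroup_dvd_card M')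
      exact hp.one_lt.ne' (Nat.eq_one_of_dvd_coprimes hN hd this)
    -- `L ⊓ M` is a Sylow subgroup of `M`
    have syl : ∀ L : Subgroup G, IsComplement' N L →
        ∃ P : Sylow p M, (P : Subgroup M) = L.subgroupOf M ∧ L ⊓ M ≠ ⊥ := by
      intro L hL
      have h1 : N ⊔ (L ⊓ M) = M := by
        rw [← dedekind hNM le_normalizer_of_normal, hL.sup_eq_top, top_inf_eq]
      have h2 : (L ⊓ M) ⊓ N = ⊥ := by
        rw [eq_bot_iff, ← IsComplement'.inf_eq_bot hL]
        exact le_inf inf_le_right (inf_le_left.trans inf_le_left)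
      have h3 := card_sup_of_disjoint (le_normalizer_of_normal : L ⊓ M ≤ _) h2
      rw [sup_comm, h1, hMdef, card_comap_mk, hk] at h3
      have h4 : Nat.card (L ⊓ M : Subgroup G) = p ^ k :=
        (Nat.eq_of_mul_eq_mul_right Nat.card_pos h3).symm
      have h5 : IsPGroup p (L.subgroupOf M) := IsPGroup.of_card (by rw [card_subgroupOf, h4])
      have h6 : (L.subgroupOf M).index = Nat.card N := by
        have := (L.subgroupOf M).card_mul_index
        rw [card_subgroupOf, h4, hMdef, card_comap_mk, hk] at this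
        exact Nat.eq_of_mul_eq_mul_left (pow_pos hp.pos k) this
      refine ⟨h5.toSylow (h6 ▸ hpN), rfl, ?_⟩
      intro h
      rw [h, card_bot] at h4
      exact hk0 ((Nat.pow_eq_one.1 h4.symm).resolve_left hp.one_lt.ne')
    obtain ⟨P, hP, -⟩ := syl H hH
    obtain ⟨Q, hQ, hKM⟩ := syl K hK
    obtain ⟨m, hm⟩ := MulAction.exists_smul_eq M P Q
    have h1 : MulAut.conj (m : G) • (H ⊓ M) = K ⊓ M := by
      apply conj_of_conj_subgroupOf inf_le_right inf_le_right
      rw [inf_subgroupOf_right, inf_subgroupOf_right, ← hP, ← hQ, ← hm]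
      rfl
    rw [smul_inf, Normal.conj_smul_eq_self (m : G) M] at h1
    by_cases hU : normalizer ((K ⊓ M : Subgroup G) : Set G) = ⊤
    · have : (K ⊓ M).Normal := normalizer_eq_top_iff.1 hU
      refine quo (K ⊓ M) hKM ?_
      rw [sup_of_le_left inf_le_left]
      rintro rfl
      rw [isComplement'_top_right] at hK
      exact hb hK
    · obtain ⟨g, hg⟩ := sub _ _ K hU (isComplement'_conj_smul hH m) hK
        (h1 ▸ le_normalizer_inf le_normalizer le_normalizer_of_normal)
        (le_normalizer_inf le_normalizer le_normalizer_of_normal)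
      exact ⟨g * m, by rw [← conj_smul_conj_smul, hg]⟩

variable {G : Type*} [Group G] [Finite G]

/-- Schur–Zassenhaus, conjugacy, with the conjugating element in `N`. -/
theorem sz_conj (N : Subgroup G) [N.Normal]
    (hN : (Nat.card N).Coprime N.index) (hs : Group.IsSolvable N ∨ Group.IsSolvable (G ⧸ N))
    {H K : Subgroup G} (hH : Subgroup.IsComplement' N H) (hK : Subgroup.IsComplement' N K) :
    ∃ g ∈ N, MulAut.conj g • H = K := by
  obtain ⟨g, hg⟩ := sz_conj_aux G N hN hs H K hH hK
  obtain ⟨n, hn, a, ha, rfl⟩ := IsComplement'.exists_mul hH g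
  exact ⟨n, hn, by rw [← hg, ← conj_smul_conj_smul, conj_smul_eq_self_of_mem ha]⟩

omit [Finite G] in
theorem isComplement'_subgroupOf_sup {A K : Subgroup G} (hAK : A ≤ normalizer (K : Set G))
    (hd : K ⊓ A = ⊥) : IsComplement' (K.subgroupOf (K ⊔ A)) (A.subgroupOf (K ⊔ A)) := by
  have : (K.subgroupOf (K ⊔ A)).Normal :=
    (normal_subgroupOf_iff_le_normalizer le_sup_left).2 (sup_le le_normalizer hAK)
  apply isComplement'_of_inf_eq_bot_of_sup_eq_top
  · rw [eq_bot_iff]
    rintro x ⟨h1, h2⟩
    have : (x : G) ∈ K ⊓ A := ⟨h1, h2⟩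
    rw [hd, mem_bot] at this
    exact Subtype.ext this
  · rw [← subgroupOf_sup le_sup_left le_sup_right, subgroupOf_self]

/-- internal form of Schur–Zassenhaus conjugacy: two subgroups `A`, `B` normalising `K`, of order
coprime to `|K|`, with `K ⊔ A = K ⊔ B` are conjugate under `K`. -/
theorem sz_conj_internal {A B K : Subgroup G} (hAK : A ≤ normalizer (K : Set G))
    (hcop : (Nat.card A).Coprime (Nat.card K)) (hs : Group.IsSolvable A ∨ Group.IsSolvable K)
    (hd : K ⊓ B = ⊥) (hB : K ⊔ B = K ⊔ A) : ∃ k ∈ K, MulAut.conj k • A = B := by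
  have hn : (K.subgroupOf (K ⊔ A)).Normal :=
    (normal_subgroupOf_iff_le_normalizer le_sup_left).2 (sup_le le_normalizer hAK)
  have hA := isComplement'_subgroupOf_sup hAK (inf_eq_bot_of_coprime' hcop.symm)
  have hBA : B ≤ K ⊔ A := hB ▸ le_sup_right
  have hB' := isComplement'_subgroupOf_sup (hBA.trans (sup_le le_normalizer hAK)) hd
  rw [hB] at hB'
  have h1 : (Nat.card (K.subgroupOf (K ⊔ A))).Coprime (K.subgroupOf (K ⊔ A)).index := by
    rw [← IsComplement'.card_eq_index hA, card_subgroupOf_of_le le_sup_left,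
      card_subgroupOf_of_le le_sup_right]
    exact hcop.symm
  obtain ⟨g, hg, h⟩ := sz_conj (K.subgroupOf (K ⊔ A)) h1 (by
    rcases hs with hs | hs
    · exact Or.inr (isSolvable_of_mulEquiv hA.symm.QuotientMulEquiv.symm (isSolvable_subgroupOf hs _))
    · exact Or.inl (isSolvable_subgroupOf hs _)) hA hB'
  exact ⟨g, hg, conj_of_conj_subgroupOf le_sup_right hBA g h⟩

/-- containment form: a subgroup `B ≤ K ⊔ A` meeting... of order coprime to `|K|` lies in a
`K`-conjugate of `A`. -/
theorem sz_le_conj {A B K : Subgroup G} (hAK : A ≤ normalizer (K : Set G))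
    (hcop : (Nat.card A).Coprime (Nat.card K)) (hs : Group.IsSolvable A ∨ Group.IsSolvable K)
    (hd : K ⊓ B = ⊥) (hB : B ≤ K ⊔ A) : ∃ k ∈ K, B ≤ MulAut.conj k • A := by
  have hBK : B ≤ normalizer (K : Set G) := hB.trans (sup_le le_normalizer hAK)
  have h1 : K ⊔ (A ⊓ (K ⊔ B)) = K ⊔ B := by
    rw [← dedekind le_sup_left hAK, inf_of_le_right (sup_le le_sup_left hB)]
  obtain ⟨k, hk, h⟩ := sz_conj_internal (A := A ⊓ (K ⊔ B)) (inf_le_left.trans hAK)
    (hcop.coprime_dvd_left (card_dvd_of_le inf_le_left))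
    (hs.imp_left (isSolvable_of_le inf_le_left)) hd h1.symm
  exact ⟨k, hk, h ▸ conj_smul_mono k inf_le_left⟩

omit [Finite G] in
/-- internal form of Schur–Zassenhaus existence. -/
theorem sz_exists_internal {K S : Subgroup G} (hKS : K ≤ S) (hS : S ≤ normalizer (K : Set G))
    (hcop : (Nat.card K).Coprime (K.relIndex S)) :
    ∃ B ≤ S, K ⊓ B = ⊥ ∧ K ⊔ B = S ∧ Nat.card B = K.relIndex S := by
  have hn : (K.subgroupOf S).Normal := (normal_subgroupOf_iff_le_normalizer hKS).2 hS
  obtain ⟨B, hB⟩ := exists_right_complement'_of_coprime (N := K.subgroupOf S)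
    (by rw [card_subgroupOf_of_le hKS]; exact hcop)
  refine ⟨B.map S.subtype, map_subtype_le B, ?_, ?_, ?_⟩
  · have := congrArg (Subgroup.map S.subtype) (IsComplement'.inf_eq_bot hB)
    rwa [map_inf _ _ _ S.subtype_injective, subgroupOf_map_subtype, inf_of_le_left hKS,
      Subgroup.map_bot] at this
  · have := congrArg (Subgroup.map S.subtype) hB.sup_eq_top
    rwa [Subgroup.map_sup, subgroupOf_map_subtype, inf_of_le_left hKS,
      ← MonoidHom.range_eq_map, range_subtype] at this
  · rw [card_subtype, IsComplement'.card_eq_index hB, relIndex]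

omit [Finite G] in
/-- an element of `K` normalising `A` centralises `A` when `A` normalises `K` and `K ⊓ A = 1`. -/
theorem mem_centralizer_of_mem_normalizer {A K : Subgroup G} (hAK : A ≤ normalizer (K : Set G))
    (hd : K ⊓ A = ⊥) {k : G} (hk : k ∈ K) (hkA : k ∈ normalizer (A : Set G)) :
    k ∈ centralizer (A : Set G) := by
  rw [mem_centralizer_iff]
  intro a ha
  have h1 : a * k * a⁻¹ * k⁻¹ ∈ K ⊓ A := by
    refine mem_inf.2 ⟨mul_mem (conj_mem_of_mem_normalizer (hAK ha) hk) (inv_mem hk), ?_⟩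
    have := mul_mem ha (conj_mem_of_mem_normalizer hkA (inv_mem ha))
    simpa [mul_assoc] using this
  rw [hd, mem_bot] at h1
  calc a * k = a * k * a⁻¹ * k⁻¹ * (k * a) := by group
    _ = k * a := by rw [h1, one_mul]

/-- Glauberman's lemma, existence, subgroup form: if `A ≤ K S` then `A` lies in a `K`-conjugate
of `S`. -/
theorem glauberman_exists {A K S : Subgroup G} (hAK : A ≤ normalizer (K : Set G))
    (hcop : (Nat.card A).Coprime (Nat.card K)) (hs : Group.IsSolvable A ∨ Group.IsSolvable K)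
    (h : ∀ a ∈ A, ∃ k ∈ K, k⁻¹ * a ∈ S) : ∃ k ∈ K, A ≤ MulAut.conj k • S := by
  set S' := S ⊓ (K ⊔ A) with hS'
  have hL : K ⊔ A ≤ normalizer (K : Set G) := sup_le le_normalizer hAK
  have h1 : K ⊔ S' = K ⊔ A := by
    apply le_antisymm (sup_le le_sup_left inf_le_right)
    refine sup_le le_sup_left fun a ha => ?_
    obtain ⟨k, hk, hka⟩ := h a ha
    have : a = k * (k⁻¹ * a) := by group
    rw [this]
    exact mul_mem (mem_sup_left hk) (mem_sup_right ⟨hka,
      mul_mem (mem_sup_left (inv_mem hk)) (mem_sup_right ha)⟩)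
  have h2 : (K ⊓ S').relIndex S' = Nat.card A := by
    rw [inf_relIndex_right, ← relIndex_sup_of_le_normalizer (inf_le_right.trans hL), sup_comm, h1,
      sup_comm, relIndex_sup_of_le_normalizer hAK, ← inf_relIndex_right,
      inf_eq_bot_of_coprime' hcop.symm, relIndex_bot_left]
  obtain ⟨B, hBS, hB1, hB2, hB3⟩ := sz_exists_internal (K := K ⊓ S') (S := S') inf_le_right
    (le_normalizer_inf (inf_le_right.trans hL) le_normalizer)
    (by rw [h2]; exact hcop.symm.coprime_dvd_left (card_dvd_of_le inf_le_left))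
  have h3 : K ⊓ B = ⊥ := by
    rw [eq_bot_iff, ← hB1]
    exact le_inf (le_inf inf_le_left (inf_le_right.trans hBS)) inf_le_right
  have h4 : K ⊔ B = K ⊔ A := by
    rw [← h1, ← hB2, ← sup_assoc, sup_of_le_left (inf_le_left : K ⊓ S' ≤ K)]
  obtain ⟨k, hk, hkA⟩ := sz_conj_internal hAK hcop hs h3 h4
  refine ⟨k⁻¹, inv_mem hk, ?_⟩
  rw [← conj_inv_smul_conj_smul k A, hkA]
  exact conj_smul_mono _ (hBS.trans inf_le_left)

/-- Glauberman's lemma, conjugacy, subgroup form: if `A ≤ S` and `A ≤ kSk⁻¹` with `k ∈ K`, then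
`k ∈ C_K(A) S`. -/
theorem glauberman_conj {A K S : Subgroup G} (hAK : A ≤ normalizer (K : Set G))
    (hcop : (Nat.card A).Coprime (Nat.card K)) (hs : Group.IsSolvable A ∨ Group.IsSolvable K)
    (hAS : A ≤ S) {k : G} (hk : k ∈ K) (h : A ≤ MulAut.conj k • S) :
    ∃ c ∈ K ⊓ centralizer (A : Set G), k⁻¹ * c ∈ K ⊓ S := by
  have hB : MulAut.conj k⁻¹ • A ≤ S := by
    rw [← conj_inv_smul_conj_smul k S]; exact conj_smul_mono _ h
  have hKS : A ≤ normalizer ((K ⊓ S : Subgroup G) : Set G) :=
    le_normalizer_inf hAK (hAS.trans le_normalizer)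
  have hcop' : (Nat.card A).Coprime (Nat.card (K ⊓ S : Subgroup G)) :=
    hcop.coprime_dvd_right (card_dvd_of_le inf_le_left)
  have hle : MulAut.conj k⁻¹ • A ≤ (K ⊓ S) ⊔ A := by
    rw [sup_comm, ← dedekind' hAS hAK]
    exact le_inf (conj_smul_le_of_mem le_sup_left (mem_sup_right (inv_mem hk))) hB
  obtain ⟨s, hs', h2⟩ := sz_le_conj hKS hcop' (hs.imp_right (isSolvable_of_le inf_le_left))
    (inf_eq_bot_of_coprime' (by rw [card_conj_smul]; exact hcop'.symm)) hle
  have h3 : MulAut.conj (k * s) • A = A := by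
    symm
    apply eq_of_le_of_card_le
    · rw [← conj_smul_conj_smul]
      conv_lhs => rw [← conj_smul_conj_inv_smul k A]
      exact conj_smul_mono _ h2
    · rw [card_conj_smul]
  refine ⟨k * s, ⟨mul_mem hk hs'.1, mem_centralizer_of_mem_normalizer hAK
    (inf_eq_bot_of_coprime' hcop.symm) (mul_mem hk hs'.1) (conj_smul_eq_self_iff.1 h3)⟩, ?_⟩
  simpa using hs'

end Cfsg.Agent.Solv
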