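import Cfsg.Agent.Lib.Solv.PGrp
import Cfsg.Agent.Lib.Solv.Hall

/-! Structure of Frobenius complements. -/

set_option autoImplicit false
open Pointwise Subgroup commutatorElement

namespace Cfsg.Agent.Solv

variable {G : Type*} [Group G] [Finite G]

theorem isCyclic_of_fpf_of_abelian {K A : Subgroup G} (hn : A ≤ normalizer (K : Set G))
    (hf : ∀ h ∈ A, h ≠ 1 → K ⊓ centralizer {h} = ⊥) (hK : K ≠ ⊥) (hA : IsMulCommutative A) :
    IsCyclic A := by
  by_contra hnc
  exact hK (le_bot_iff.1 (le_of_forall_centralizer_le hA hnc hn (coprime_of_fpf hn hf)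
    fun a ha h1 => (hf a ha h1).le))

theorem isCyclic_or_quaternion_of_fpf {p : ℕ} [Fact p.Prime] {K S : Subgroup G}
    (hn : S ≤ normalizer (K : Set G)) (hf : ∀ h ∈ S, h ≠ 1 → K ⊓ centralizer {h} = ⊥) (hK : K ≠ ⊥)
    (hS : IsPGroup p S) :
    IsCyclic S ∨ (p = 2 ∧ ∃ (a b : G) (m : ℕ), 1 ≤ m ∧ orderOf a = 2 ^ (m + 1) ∧ b ∉ zpowers a ∧
      S = zpowers a ⊔ zpowers b ∧ Nat.card S = 2 ^ (m + 2) ∧ b ^ 2 = a ^ 2 ^ m ∧
      b * a * b⁻¹ = a⁻¹) :=
  isCyclic_or_quaternion hS fun _ hE h1 h2 h3 => not_isCyclic_of_card_sq Fact.out h1 h3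
    (isCyclic_of_fpf_of_abelian (hE.trans hn) (fpf_mono le_rfl hE hf) hK h2)

theorem exists_subgroup_card_prime {A : Subgroup G} {p : ℕ} (hp : p.Prime) (h : p ∣ Nat.card A) :
    ∃ x ∈ A, orderOf x = p := by
  have := Fact.mk hp
  obtain ⟨x, hx⟩ := exists_prime_orderOf_dvd_card' p h
  exact ⟨x, x.2, by rw [orderOf_coe, hx]⟩

theorem exists_orderOf_prime_of_ne_bot {A : Subgroup G} (h : A ≠ ⊥) :
    ∃ x ∈ A, (orderOf x).Prime := by
  obtain ⟨p, hp, hd⟩ := exists_prime_dvd_card h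
  obtain ⟨x, hx, h1⟩ := exists_subgroup_card_prime hp hd
  exact ⟨x, hx, h1 ▸ hp⟩

theorem isCyclic_of_mem_orderOf {A : Subgroup G} {x : G} (hx : x ∈ A)
    (h : orderOf x = Nat.card A) : IsCyclic A :=
  isCyclic_of_orderOf_eq_card (⟨x, hx⟩ : A) (by rw [← h, ← orderOf_coe])

/-- the structure of a noncyclic group of order `p * q`, `p < q`. -/
theorem exists_frobenius_of_card_mul_primes {A : Subgroup G} {p q : ℕ} (hp : p.Prime) (hq : q.Prime)
    (hpq : p < q) (hA : Nat.card A = p * q) (hnc : ¬ IsCyclic A) :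
    ∃ P Q : Subgroup G, Nat.card P = p ∧ Nat.card Q = q ∧ Q ⊔ P = A ∧
      P ≤ normalizer (Q : Set G) ∧ ∀ h ∈ P, h ≠ 1 → Q ⊓ centralizer {h} = ⊥ := by
  obtain ⟨x, hx, hxp⟩ := exists_subgroup_card_prime hp (hA ▸ dvd_mul_right p q)
  obtain ⟨y, hy, hyq⟩ := exists_subgroup_card_prime hq (hA ▸ dvd_mul_left q p)
  have hP : Nat.card (zpowers x) = p := by rw [Nat.card_zpowers, hxp]
  have hQ : Nat.card (zpowers y) = q := by rw [Nat.card_zpowers, hyq]
  have hcop : p.Coprime q := (Nat.coprime_primes hp hq).2 hpq.ne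
  have hi : (zpowers y).relIndex A = p := by
    have := card_mul_relIndex (zpowers_le.2 hy)
    rw [hQ, hA, mul_comm p] at this
    exact Nat.eq_of_mul_eq_mul_left hq.pos this
  have hn : A ≤ normalizer (zpowers y : Set G) := by
    rw [← normal_subgroupOf_iff_le_normalizer (zpowers_le.2 hy)]
    refine normal_of_index_eq_minFac_card (hi.trans ?_)
    rw [hA]
    have h0 := Nat.minFac_prime (n := p * q) (mul_ne_one.2 (.inl hp.ne_one))
    rcases h0.dvd_mul.1 (Nat.minFac_dvd (p * q)) with h | h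
    · exact ((Nat.prime_dvd_prime_iff_eq h0 hp).1 h).symm
    · have := Nat.minFac_le_of_dvd hp.two_le (dvd_mul_right p q)
      rw [(Nat.prime_dvd_prime_iff_eq h0 hq).1 h] at this
      omega
  have hn' : zpowers x ≤ normalizer (zpowers y : Set G) := (zpowers_le.2 hx).trans hn
  refine ⟨zpowers x, zpowers y, hP, hQ, eq_of_le_of_card_le (sup_le (zpowers_le.2 hy) (zpowers_le.2 hx))
    (by rw [sup_comm, card_sup_of_disjoint hn' (inf_eq_bot_of_coprime' (by rwa [hP, hQ])), hP, hQ, hA]),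
    hn', fun h hh h1 => fpf_iff.2 fun k hk hc => ?_⟩
  by_contra hk1
  have := Fact.mk hp
  have := Fact.mk hq
  have e1 : orderOf h = p := orderOf_eq_prime (hP ▸ pow_card_eq_one_of_mem hh) h1
  have e2 : orderOf k = q := orderOf_eq_prime (hQ ▸ pow_card_eq_one_of_mem hk) hk1
  refine hnc (isCyclic_of_mem_orderOf (mul_mem (zpowers_le.2 hx hh) (zpowers_le.2 hy hk)) ?_)
  rw [Commute.orderOf_mul_eq_mul_orderOf_of_coprime hc (by rwa [e1, e2]), e1, e2, hA]

theorem isCyclic_of_fpf_of_card_mul_primes {K A : Subgroup G} (hn : A ≤ normalizer (K : Set G))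
    (hf : ∀ h ∈ A, h ≠ 1 → K ⊓ centralizer {h} = ⊥) (hK : K ≠ ⊥) {p q : ℕ} (hp : p.Prime)
    (hq : q.Prime) (hA : Nat.card A = p * q) : IsCyclic A := by
  wlog hpq : p ≤ q generalizing p q
  · exact this hq hp (by rw [hA, mul_comm]) (by omega)
  rcases hpq.eq_or_lt with rfl | hpq
  · have := Fact.mk hp
    exact isCyclic_of_fpf_of_abelian hn hf hK
      (IsPGroup.isMulCommutative_of_card_eq_prime_sq (by rw [hA, pow_two]))
  by_contra hnc
  obtain ⟨P, Q, hP, hQ, rfl, hPQ, hfp⟩ := exists_frobenius_of_card_mul_primes hp hq hpq hA hnc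
  have := Fact.mk hp
  have := Fact.mk hq
  have hcop := coprime_of_fpf hn hf
  have hs : Group.IsSolvable (Q ⊔ P : Subgroup G) := by
    have h1 := isCyclic_of_prime_card hP
    have h2 := isCyclic_of_prime_card hQ
    rw [sup_comm]
    exact isSolvable_sup hPQ (isSolvable_of_isMulCommutative inferInstance)
      (isSolvable_of_isMulCommutative inferInstance)
  obtain ⟨r, hr, hrK⟩ := exists_prime_dvd_card hK
  have := Fact.mk hr
  obtain ⟨R, hR, hAR⟩ := coprime_exists_sylowIn hn hcop (.inl hs) r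
  have hcop' := hcop.coprime_dvd_right (card_dvd_of_le hR.le)
  have hne : ∀ {B : Subgroup G} {s : ℕ}, s.Prime → Nat.card B = s → B ≤ Q ⊔ P →
      R ⊓ centralizer (B : Set G) = ⊥ := fun {B s} hs hB hle => by
    obtain ⟨x, hx, hx1⟩ := exists_ne_one_of_ne_bot (H := B)
      fun h => by rw [h, card_bot] at hB; exact hs.one_lt.ne hB
    exact eq_bot_iff.2 (hf x (hle hx) hx1 ▸
      inf_le_inf hR.le (centralizer_le (Set.singleton_subset_iff.2 hx)))
  have h1 := frobenius_nilpotent_le_centralizer hPQ hfp hR.isPGroup.isNilpotent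
    (le_sup_left.trans hAR) (le_sup_right.trans hAR)
    (hcop'.coprime_dvd_left (card_dvd_of_le le_sup_left))
    (hcop'.coprime_dvd_left (card_dvd_of_le le_sup_right)) (hne hp hP le_sup_right)
  exact hR.ne_bot hrK (by rw [← hne hq hQ le_sup_left, inf_of_le_left h1])

theorem inverts_of_fpf {K : Subgroup G} {s : G} (hn : s ∈ normalizer (K : Set G))
    (hf : K ⊓ centralizer {s} = ⊥) (hss : s * s = 1) {k : G} (hk : k ∈ K) : s * k * s⁻¹ = k⁻¹ := by
  obtain ⟨x, -, hxk⟩ := exists_conj_eq_mul_of_fpf hn hf hk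
  have h3 : k * s * (k * s) = 1 := by
    rw [← hxk, show x * s * x⁻¹ * (x * s * x⁻¹) = x * (s * s) * x⁻¹ by group, hss]; simp
  rw [inv_eq_of_mul_eq_one_right hss]
  calc s * k * s = k⁻¹ * (k * s * (k * s)) := by group
    _ = k⁻¹ := by rw [h3, mul_one]

omit [Finite G] in
theorem isMulCommutative_of_inverts {K : Subgroup G} {s : G} (h : ∀ k ∈ K, s * k * s⁻¹ = k⁻¹) :
    IsMulCommutative K := Solv.isMulCommutative_iff.2 fun a ha b hb => by
  have h1 := h _ (mul_mem ha hb)
  rw [show s * (a * b) * s⁻¹ = (s * a * s⁻¹) * (s * b * s⁻¹) by group,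
    h a ha, h b hb, ← mul_inv_rev, inv_inj] at h1
  exact h1.symm

theorem invol_unique_of_fpf {K H : Subgroup G} (hn : H ≤ normalizer (K : Set G))
    (hf : ∀ h ∈ H, h ≠ 1 → K ⊓ centralizer {h} = ⊥) (hK : K ≠ ⊥) {s t : G} (hs : s ∈ H)
    (ht : t ∈ H) (hs2 : orderOf s = 2) (ht2 : orderOf t = 2) : t = s := by
  by_contra hne
  apply hK
  rw [← hf (s⁻¹ * t) (mul_mem (inv_mem hs) ht) (fun h => hne (inv_mul_eq_one.1 h).symm),
    eq_comm, inf_eq_left]
  intro k hk
  rw [mem_centralizer_singleton]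
  have h1 := inverts_of_fpf (hn hs) (hf s hs (Transfer.ne_one_of_orderOf hs2))
    (Transfer.mul_self_of_orderOf hs2) hk
  rw [← inverts_of_fpf (hn ht) (hf t ht (Transfer.ne_one_of_orderOf ht2))
    (Transfer.mul_self_of_orderOf ht2) hk] at h1
  calc s⁻¹ * t * k = s⁻¹ * (t * k * t⁻¹) * t := by group
    _ = _ := by rw [← h1]; group

theorem exists_center_of_isZGroup [IsZGroup G] [Nontrivial G]
    (h : ∀ (A : Subgroup G) (p q : ℕ), p.Prime → q.Prime → Nat.card A = p * q → IsCyclic A) :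
    ∃ x ∈ center G, (orderOf x).Prime := by
  obtain ⟨C, hC⟩ := exists_right_complement'_of_coprime (IsZGroup.coprime_commutator_index (G := G))
  have hD := IsZGroup.isCyclic_commutator (G := G)
  have hCc : IsCyclic C := isCyclic_of_surjective
    (show Abelianization G ≃* C from hC.symm.QuotientMulEquiv) (MulEquiv.surjective _)
  have hcop : (Nat.card C).Coprime (Nat.card (commutator G)) := by
    rw [← hC.symm.index_eq_card]; exact (IsZGroup.coprime_commutator_index (G := G)).symm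
  have hC1 : C ≠ ⊥ := fun e => by
    have := hC.sup_eq_top
    rw [e, sup_bot_eq] at this
    exact (Group.IsSolvable.commutator_lt_top_of_nontrivial G).ne this
  obtain ⟨x, hx, hxp⟩ := exists_orderOf_prime_of_ne_bot hC1
  refine ⟨x, ?_, hxp⟩
  have h1 : zpowers x ≤ centralizer (commutator G : Set G) := by
    refine coprime_abelian_le_centralizer inferInstance le_normalizer_of_normal
      (hcop.coprime_dvd_left (card_dvd_of_le (zpowers_le.2 hx))) fun v hv hvp a ha => ?_
    have := normal_of_le_isCyclic hD (zpowers_le.2 hv)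
    have h2 := h (zpowers x ⊔ zpowers v) _ _ hxp hvp (by
      rw [card_sup_of_disjoint le_normalizer_of_normal (inf_eq_bot_of_coprime'
        ((hcop.coprime_dvd_left (card_dvd_of_le (zpowers_le.2 hx))).coprime_dvd_right
          (card_dvd_of_le (zpowers_le.2 hv)))), Nat.card_zpowers, Nat.card_zpowers])
    exact Solv.isMulCommutative_iff.1 inferInstance a (mem_sup_left ha) v
      (mem_sup_right (mem_zpowers v))
  rw [← zpowers_le, ← centralizer_univ, ← coe_top, ← hC.sup_eq_top, le_centralizer_iff]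
  exact sup_le (le_centralizer_iff.1 h1)
    (le_centralizer_iff.1 ((zpowers_le.2 hx).trans (le_centralizer_iff_isMulCommutative.2 inferInstance)))

theorem isZGroup_of_fpf_of_odd {K H : Subgroup G} (hn : H ≤ normalizer (K : Set G))
    (hf : ∀ h ∈ H, h ≠ 1 → K ⊓ centralizer {h} = ⊥) (hK : K ≠ ⊥) (h2 : ¬ 2 ∣ Nat.card H) :
    IsZGroup H := by
  refine ⟨fun p hp P => ?_⟩
  have := Fact.mk hp
  have hle := map_subtype_le (P : Subgroup H)
  rcases isCyclic_or_quaternion_of_fpf (hle.trans hn) (fpf_mono le_rfl hle hf) hK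
    (P.2.map H.subtype) with h | ⟨-, a, b, m, -, -, -, -, h, -⟩
  · exact isCyclic_of_surjective _ (equivMapOfInjective _ _ H.subtype_injective).symm.surjective
  · exact absurd ((dvd_pow_self 2 (by omega)).trans (h ▸ card_dvd_of_le hle)) h2

/-- a Frobenius complement has a central element of prime order. -/
theorem exists_central_of_fpf {K H : Subgroup G} (hn : H ≤ normalizer (K : Set G))
    (hf : ∀ h ∈ H, h ≠ 1 → K ⊓ centralizer {h} = ⊥) (hK : K ≠ ⊥) (hH : H ≠ ⊥) :
    ∃ x ∈ H, (orderOf x).Prime ∧ ∀ h ∈ H, h * x = x * h := by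
  by_cases h2 : 2 ∣ Nat.card H
  · obtain ⟨s, hs, hs2⟩ := exists_subgroup_card_prime Nat.prime_two h2
    refine ⟨s, hs, hs2 ▸ Nat.prime_two, fun h hh => mul_inv_eq_iff_eq_mul.1 ?_⟩
    refine invol_unique_of_fpf hn hf hK hs (mul_mem (mul_mem hh hs) (inv_mem hh)) hs2 ?_
    rw [← hs2]
    exact (SemiconjBy.orderOf_eq h (by simp [SemiconjBy])).symm
  · have := isZGroup_of_fpf_of_odd hn hf hK h2
    have := (nontrivial_iff_ne_bot H).2 hH
    obtain ⟨x, hx, hxp⟩ := exists_center_of_isZGroup (G := H) fun A p q hp hq hA => by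
      have hle := map_subtype_le A
      have := isCyclic_of_fpf_of_card_mul_primes (hle.trans hn) (fpf_mono le_rfl hle hf) hK hp hq
        (by rwa [card_map_of_injective H.subtype_injective])
      exact isCyclic_of_surjective _ (equivMapOfInjective _ _ H.subtype_injective).symm.surjective
    exact ⟨x, x.2, by rwa [orderOf_coe], fun h hh =>
      congrArg Subtype.val (mem_center_iff.1 hx ⟨h, hh⟩)⟩

end Cfsg.Agent.Solv
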