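import Cfsg.Agent.Lib.Solv.Mod
import Cfsg.Agent.Lib.Solv.Fact
import Cfsg.Agent.Lib.Solv.Frob2
import Cfsg.Prelude.Def_SolvableStructure

/-! Supersolvable groups. -/

set_option autoImplicit false
open Pointwise Subgroup commutatorElement

namespace Cfsg.Agent.Solv

universe u
variable {G : Type*} [Group G]

theorem commutator_le_centralizer_of_isCyclic {N : Subgroup G} (hN : IsCyclic N) {L : Subgroup G}
    (hL : L ≤ normalizer (N : Set G)) : ⁅L, L⁆ ≤ centralizer (N : Set G) := by
  rw [commutator_le]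
  intro a ha b hb
  have h1 : (N.normalizerMonoidHom ⁅(⟨a, hL ha⟩ : normalizer (N : Set G)), ⟨b, hL hb⟩⁆) = 1 := by
    rw [map_commutatorElement, commutatorElement_eq_one_iff_mul_comm]
    apply (IsCyclic.mulAutMulEquiv N).injective
    rw [map_mul, map_mul, mul_comm]
  rw [← MonoidHom.mem_ker, normalizerMonoidHom_ker, mem_subgroupOf] at h1
  exact h1

theorem pow_card_mulAut_mem_centralizer {N : Subgroup G} {a : G}
    (ha : a ∈ normalizer (N : Set G)) : a ^ Nat.card (MulAut N) ∈ centralizer (N : Set G) := by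
  have h1 : (N.normalizerMonoidHom ((⟨a, ha⟩ : normalizer (N : Set G)) ^ Nat.card (MulAut N))) = 1 := by
    rw [map_pow, pow_card_eq_one']
  rw [← MonoidHom.mem_ker, normalizerMonoidHom_ker, mem_subgroupOf] at h1
  exact h1

theorem pow_sub_one_mem_centralizer_of_card_prime {p : ℕ} (hp : p.Prime) {N : Subgroup G}
    (hN : Nat.card N = p) {a : G} (ha : a ∈ normalizer (N : Set G)) :
    a ^ (p - 1) ∈ centralizer (N : Set G) := by
  have := Fact.mk hp
  have : Finite N := Nat.finite_of_card_ne_zero (hN ▸ hp.ne_zero)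
  have := isCyclic_of_prime_card hN
  have h := pow_card_mulAut_mem_centralizer ha
  rwa [IsCyclic.card_mulAut, hN, Nat.totient_prime hp] at h

theorem mem_of_pow_mem_of_coprime_orderOf {H : Subgroup G} {y : G} {n : ℕ} (hy : y ^ n ∈ H)
    (h : (orderOf y).Coprime n) : y ∈ H := by
  obtain ⟨m, hm⟩ := exists_pow_eq_self_of_coprime h.symm
  exact hm ▸ pow_mem hy m

theorem le_centralizer_of_card_prime_of_coprime {p : ℕ} (hp : p.Prime) {N A : Subgroup G}
    (hN : Nat.card N = p) (hA : A ≤ normalizer (N : Set G))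
    (h : (Nat.card A).Coprime (p - 1)) : A ≤ centralizer (N : Set G) := fun a ha =>
  mem_of_pow_mem_of_coprime_orderOf (pow_sub_one_mem_centralizer_of_card_prime hp hN (hA ha))
    (h.coprime_dvd_left (orderOf_dvd_card_of_mem ha))

theorem MonoidHom.map_inl' {K : Type*} [Group K] (H : Subgroup G) :
    H.map (MonoidHom.inl G K) = H.prod ⊥ := by
  ext ⟨a, b⟩
  simp only [mem_map, mem_prod, mem_bot, MonoidHom.inl_apply, Prod.mk.injEq]
  exact ⟨fun ⟨x, h1, h2, h3⟩ => ⟨h2 ▸ h1, h3.symm⟩, fun ⟨h1, h2⟩ => ⟨a, h1, rfl, h2.symm⟩⟩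

theorem exists_comap_sup_zpowers {K : Type*} [Group K] (f : K →* G) (H : Subgroup G) [H.Normal]
    (g : G) : ∃ k : K, (H ⊔ zpowers g).comap f = H.comap f ⊔ zpowers k := by
  let φ := (QuotientGroup.mk' H).comp f
  have h1 : IsCyclic (φ.range ⊓ zpowers (g : G ⧸ H) : Subgroup (G ⧸ H)) :=
    Subgroup.isCyclic_of_le inf_le_right
  obtain ⟨a, ⟨⟨k, rfl⟩, ha⟩, h2⟩ := isCyclic_iff_exists_le_zpowers.1 h1
  have h3 : ∀ x, x ∈ (H ⊔ zpowers g).comap f ↔ φ x ∈ zpowers (g : G ⧸ H) := by
    intro x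
    rw [mem_comap, sup_comm, ← comap_map_mk, MonoidHom.map_zpowers]; rfl
  refine ⟨k, le_antisymm (fun x hx => ?_) (sup_le (comap_mono le_sup_left) (zpowers_le.2 ((h3 k).2 ha)))⟩
  obtain ⟨n, hn⟩ := mem_zpowers_iff.1 (h2 (mem_inf.2 ⟨⟨x, rfl⟩, (h3 x).1 hx⟩))
  have h4 : x * (k ^ n)⁻¹ ∈ H.comap f := by
    rw [mem_comap, ← QuotientGroup.eq_one_iff]
    show φ _ = 1
    rw [map_mul, map_inv, map_zpow, hn, mul_inv_cancel]
  simpa using mul_mem (mem_sup_left h4) (mem_sup_right (zpow_mem_zpowers k n))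

theorem ss_of_injective {K : Type*} [Group K] (hG : IsSupersolvable G) {f : K →* G}
    (hf : Function.Injective f) : IsSupersolvable K := by
  obtain ⟨n, H, h0, h1, h2, h3⟩ := hG
  refine ⟨n, fun i => (H i).comap f, by simp [h0, (MonoidHom.ker_eq_bot_iff f).2 hf],
    by simp [h1], fun i => (h2 i).comap f, fun i => ?_⟩
  obtain ⟨g, hg⟩ := h3 i
  have := h2 i.castSucc
  simp only [hg]
  exact exists_comap_sup_zpowers f _ g

theorem ss_of_surjective {K : Type*} [Group K] (hG : IsSupersolvable G) {f : G →* K}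
    (hf : Function.Surjective f) : IsSupersolvable K := by
  obtain ⟨n, H, h0, h1, h2, h3⟩ := hG
  refine ⟨n, fun i => (H i).map f, by simp [h0], by simp only [h1]; exact map_top_of_surjective f hf,
    fun i => (h2 i).map f hf, fun i => ?_⟩
  obtain ⟨g, hg⟩ := h3 i
  exact ⟨f g, by simp only [hg, Subgroup.map_sup, MonoidHom.map_zpowers]⟩

theorem ss_subgroup (hG : IsSupersolvable G) (H : Subgroup G) : IsSupersolvable H :=
  ss_of_injective hG H.subtype_injective

theorem ss_quotient (hG : IsSupersolvable G) (N : Subgroup G) [N.Normal] :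
    IsSupersolvable (G ⧸ N) := ss_of_surjective hG (QuotientGroup.mk'_surjective N)

theorem ss_of_le {H K : Subgroup G} (h : H ≤ K) (hK : IsSupersolvable K) : IsSupersolvable H :=
  ss_of_injective hK (inclusion_injective h)

theorem ss_map {K : Type*} [Group K] (f : G →* K) {H : Subgroup G} (hH : IsSupersolvable H) :
    IsSupersolvable (H.map f) := ss_of_surjective hH (f.subgroupMap_surjective H)

theorem ss_subgroupOf {H : Subgroup G} (hH : IsSupersolvable H) (K : Subgroup G) :
    IsSupersolvable (H.subgroupOf K) :=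
  ss_of_injective hH (f := ((K.subtype.subgroupComap H))) fun _ _ e =>
    Subtype.ext (Subtype.ext (congrArg (Subtype.val : H → G) e))

theorem ss_top_iff : IsSupersolvable (⊤ : Subgroup G) ↔ IsSupersolvable G :=
  ⟨fun h => ss_of_surjective h (f := (⊤ : Subgroup G).subtype) fun x => ⟨⟨x, trivial⟩, rfl⟩,
    fun h => ss_subgroup h _⟩

theorem ss_exists_step (hG : IsSupersolvable G) (N M : Subgroup G) [N.Normal] [M.Normal]
    (h : ¬ N ≤ M) : ∃ g ∈ N, g ∉ M ∧ (M ⊔ zpowers g).Normal := by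
  obtain ⟨n, H, h0, h1, h2, h3⟩ := hG
  by_contra hcon
  have key : ∀ i, H i ⊓ N ≤ M := by
    intro i
    induction i using Fin.induction with
    | zero => simp [h0]
    | succ i ih =>
      obtain ⟨g, hg⟩ := h3 i
      have := h2 i.castSucc
      have := h2 i.succ
      obtain ⟨k, hk⟩ := exists_comap_sup_zpowers N.subtype (H i.castSucc) g
      have h4 := congrArg (Subgroup.map N.subtype) hk
      rw [← hg, Subgroup.map_sup, MonoidHom.map_zpowers, map_comap_eq, map_comap_eq, range_subtype,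
        inf_comm N, inf_comm N] at h4
      have h5 : M ⊔ zpowers (k : G) = M ⊔ H i.succ ⊓ N := by
        rw [h4, ← sup_assoc, sup_eq_left.2 ih]; rfl
      by_cases hk : (k : G) ∈ M
      · rw [h4]; exact sup_le ih (zpowers_le.2 hk)
      · exact absurd ⟨k, k.2, hk, h5 ▸ inferInstance⟩ hcon
  exact h (by simpa [h1] using key (Fin.last n))

theorem exists_chain_of_step [Finite G] {R : Subgroup G → Subgroup G → Prop}
    (h : ∀ N : Subgroup G, N.Normal → N ≠ ⊤ → ∃ K, N < K ∧ K.Normal ∧ R N K) (N : Subgroup G)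
    (hN : N.Normal) : ∃ (n : ℕ) (H : Fin (n + 1) → Subgroup G), H 0 = N ∧ H (Fin.last n) = ⊤ ∧
      (∀ i, (H i).Normal) ∧ (∀ i : Fin n, R (H i.castSucc) (H i.succ)) ∧ StrictMono H := by
  induction N using WellFoundedGT.induction with
  | _ N ih =>
    by_cases h1 : N = ⊤
    · exact ⟨0, fun _ => ⊤, h1.symm, rfl, fun _ => inferInstance, fun i => i.elim0,
        Fin.strictMono_iff_lt_succ.2 fun i => i.elim0⟩
    obtain ⟨K, hK, hKn, hR⟩ := h N hN h1
    obtain ⟨n, H, h0, h2, h3, h4, h5⟩ := ih K hK hKn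
    refine ⟨n + 1, Fin.cons N H, rfl, by rw [← Fin.succ_last, Fin.cons_succ, h2],
      fun i => Fin.cases hN (fun j => h3 j) i, fun i => ?_, ?_⟩
    · refine Fin.cases ?_ (fun j => ?_) i
      · simpa [h0] using hR
      · simpa [← Fin.succ_castSucc] using h4 j
    · rw [Fin.strictMono_iff_lt_succ]
      intro i
      refine Fin.cases ?_ (fun j => ?_) i
      · simpa [h0] using hK
      · simpa [← Fin.succ_castSucc] using h5 (Fin.castSucc_lt_succ (i := j))

theorem ss_of_step [Finite G]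
    (h : ∀ N : Subgroup G, N.Normal → N ≠ ⊤ → ∃ g ∉ N, (N ⊔ zpowers g).Normal) :
    IsSupersolvable G := by
  obtain ⟨n, H, h0, h1, h2, h3, -⟩ := exists_chain_of_step
    (R := fun N K => ∃ g, K = N ⊔ zpowers g) (fun N hN h1 => by
      obtain ⟨g, hg, h2⟩ := h N hN h1
      exact ⟨_, lt_of_le_of_ne le_sup_left fun e => hg (e ▸ mem_sup_right (mem_zpowers g)), h2, g, rfl⟩)
    ⊥ inferInstance
  exact ⟨n, H, h0, h1, h2, h3⟩

theorem ss_of_subsingleton [Subsingleton G] : IsSupersolvable G :=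
  ⟨0, fun _ => ⊥, rfl, Subsingleton.elim _ _, fun _ => inferInstance, fun i => i.elim0⟩

theorem ss_of_quotient_of_step [Finite G] (N : Subgroup G) [N.Normal] (hq : IsSupersolvable (G ⧸ N))
    (h : ∀ M : Subgroup G, M.Normal → ¬ N ≤ M → ∃ g ∉ M, (M ⊔ zpowers g).Normal) :
    IsSupersolvable G := by
  refine ss_of_step fun M hM h1 => ?_
  by_cases h2 : N ≤ M
  · obtain ⟨g, -, h3, h4⟩ := ss_exists_step hq ⊤ (M.map (QuotientGroup.mk' N)) (by
      rw [← map_top_mk, map_mk_le_map_mk_iff, sup_eq_left.2 h2]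
      exact fun e => h1 (top_le_iff.1 e))
    obtain ⟨g, rfl⟩ := QuotientGroup.mk'_surjective N g
    refine ⟨g, fun e => h3 (mem_map_of_mem _ e), ?_⟩
    have := h4.comap (QuotientGroup.mk' N)
    rwa [← MonoidHom.map_zpowers, ← Subgroup.map_sup, comap_map_mk, sup_eq_left.2 (h2.trans le_sup_left)] at this
  · exact h M hM h2

theorem ss_of_isCyclic_of_quotient [Finite G] (N : Subgroup G) [N.Normal] (hN : IsCyclic N)
    (hq : IsSupersolvable (G ⧸ N)) : IsSupersolvable G := by
  obtain ⟨a, ha, h1⟩ := isCyclic_iff_exists_le_zpowers.1 hN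
  have h2 : zpowers a = N := le_antisymm (zpowers_le.2 ha) h1
  exact ss_of_quotient_of_step N hq fun M hM h => ⟨a, fun e => h (h1.trans (zpowers_le.2 e)),
    h2 ▸ inferInstance⟩

theorem ss_prod {K : Type*} [Group K] [Finite G] [Finite K] (hG : IsSupersolvable G)
    (hK : IsSupersolvable K) : IsSupersolvable (G × K) := by
  refine ss_of_quotient_of_step (MonoidHom.snd G K).ker
    (ss_of_injective hK (QuotientGroup.kerLift_injective _)) fun M hM h => ?_
  obtain ⟨g, -, h1, h2⟩ := ss_exists_step hG ⊤ (M.comap (MonoidHom.inl G K)) fun e => h fun x hx => by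
    have : x = (x.1, 1) := Prod.ext rfl hx
    rw [this]; exact e (mem_top x.1)
  refine ⟨(g, 1), h1, ?_⟩
  have h3 : ((M.comap (MonoidHom.inl G K) ⊔ zpowers g).prod (⊥ : Subgroup K)).Normal := inferInstance
  have h4 : M ⊔ zpowers (g, 1) = M ⊔ (M.comap (MonoidHom.inl G K) ⊔ zpowers g).prod ⊥ := by
    rw [← MonoidHom.map_inl', Subgroup.map_sup, MonoidHom.map_zpowers, ← sup_assoc,
      sup_eq_left.2 (map_comap_le _ _)]; rfl
  rw [h4]; infer_instance

theorem ss_of_inf_eq_bot [Finite G] (M N : Subgroup G) [M.Normal] [N.Normal] (h : M ⊓ N = ⊥)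
    (h1 : IsSupersolvable (G ⧸ M)) (h2 : IsSupersolvable (G ⧸ N)) : IsSupersolvable G :=
  ss_of_injective (ss_prod h1 h2) (f := (QuotientGroup.mk' M).prod (QuotientGroup.mk' N)) (by
    rw [← MonoidHom.ker_eq_bot_iff, MonoidHom.ker_prod, QuotientGroup.ker_mk', QuotientGroup.ker_mk', h])

theorem ss_exists_normal_prime [Finite G] (hG : IsSupersolvable G) (N : Subgroup G) [N.Normal]
    (h : N ≠ ⊥) : ∃ K ≤ N, (Nat.card K).Prime ∧ K.Normal := by
  obtain ⟨g, hg, h1, h2⟩ := ss_exists_step hG N ⊥ (fun e => h (le_bot_iff.1 e))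
  rw [bot_sup_eq] at h2
  obtain ⟨x, hx, h3⟩ := exists_orderOf_prime_of_ne_bot (fun e => h1 (mem_bot.2 (zpowers_eq_bot.1 e)))
  exact ⟨zpowers x, (zpowers_le.2 hx).trans (zpowers_le.2 hg), by rwa [Nat.card_zpowers],
    normal_of_le_isCyclic inferInstance (zpowers_le.2 hx)⟩

theorem ss_card_prime_of_minimal [Finite G] (hG : IsSupersolvable G) (N : Subgroup G) [N.Normal]
    (h : N ≠ ⊥) (hmin : ∀ K : Subgroup G, K.Normal → K ≤ N → K ≠ ⊥ → K = N) : (Nat.card N).Prime := by
  obtain ⟨K, h1, h2, h3⟩ := ss_exists_normal_prime hG N h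
  rwa [← hmin K h3 h1 (fun e => by simp [e, Nat.not_prime_one] at h2)]

theorem ne_bot_of_card_prime {K : Subgroup G} (h : (Nat.card K).Prime) : K ≠ ⊥ :=
  fun e => by simp [e, Nat.not_prime_one] at h

theorem isCyclic_of_card_prime {K : Subgroup G} (h : (Nat.card K).Prime) : IsCyclic K :=
  have := Fact.mk h
  isCyclic_of_prime_card (p := Nat.card K) rfl

/-- induction principle for finite supersolvable groups. -/
theorem ss_induction {P : ∀ (G : Type u) [Group G] [Finite G], Prop}
    (h0 : ∀ (G : Type u) [Group G] [Finite G] [Subsingleton G], P G)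
    (h1 : ∀ (G : Type u) [Group G] [Finite G] (N : Subgroup G) [N.Normal], IsSupersolvable G →
      (Nat.card N).Prime → P (G ⧸ N) → P G)
    (G : Type u) [Group G] [Finite G] : IsSupersolvable G → P G := by
  refine card_induction (P := fun G _ _ => IsSupersolvable G → P G) (fun G _ _ ih hG => ?_) G
  rcases subsingleton_or_nontrivial G with h | h
  · exact h0 G
  obtain ⟨N, -, h2, h3⟩ := ss_exists_normal_prime hG ⊤ (top_ne_bot_iff.2 h)
  exact h1 G N hG h2 (ih _ (card_quotient_lt (ne_bot_of_card_prime h2)) (ss_quotient hG N))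

theorem isSolvable_of_ss [Finite G] (hG : IsSupersolvable G) : Group.IsSolvable G := by
  refine ss_induction (P := fun G _ _ => Group.IsSolvable G) (fun G _ _ _ => inferInstance)
    (fun G _ _ N _ _ h1 h2 => ?_) G hG
  have := isCyclic_of_card_prime h1
  exact isSolvable_of_normal_of_quotient N (isSolvable_of_isMulCommutative inferInstance) h2

theorem normal_sup_zpowers_of_central_mod {N : Subgroup G} [hN : N.Normal] {x : G}
    (h : ∀ g, ⁅x, g⁆ ∈ N) : (N ⊔ zpowers x).Normal :=
  normal_iff_top_le_normalizer.2 (le_normalizer_of_commutator_le_of_le (N := N)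
    ((commutator_mono (sup_le (le_centralMod (normal_iff_top_le_normalizer.1 hN)) (zpowers_le.2
      (mem_centralMod.2 ⟨normal_iff_top_le_normalizer.1 hN trivial, fun g _ => h g⟩))) le_rfl).trans
      commutator_centralMod_le) le_sup_left)

theorem ss_of_nilpotent [Finite G] (hG : Group.IsNilpotent G) : IsSupersolvable G := by
  refine ss_of_step fun N hN h => ?_
  obtain ⟨x, -, h1, h2⟩ := exists_central_mod (L := ⊤) (M := ⊤) (N := N)
    (Group.nilpotent_of_mulEquiv topEquiv.symm) le_rfl le_normalizer (fun e => h (top_le_iff.1 e))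
  exact ⟨x, h1, normal_sup_zpowers_of_central_mod fun g => h2 g trivial⟩

theorem isNilpotent_of_map_mk_of_le_centralizer {K N : Subgroup G} [N.Normal]
    (h : K ≤ centralizer (N : Set G)) (h1 : Group.IsNilpotent (K.map (QuotientGroup.mk' N))) :
    Group.IsNilpotent K := by
  refine Subgroup.isNilpotent_of_ker_le_center ((QuotientGroup.mk' N).subgroupMap K) ?_
  intro x hx
  have h2 : (x : G) ∈ N := (QuotientGroup.eq_one_iff _).1 (congrArg Subtype.val hx)
  exact mem_center_iff.2 fun y => Subtype.ext (mem_centralizer_iff.1 (h y.2) x h2).symm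

theorem isNilpotent_commutator_of_ss [Finite G] (hG : IsSupersolvable G) :
    Group.IsNilpotent (commutator G) := by
  refine ss_induction (P := fun G _ _ => Group.IsNilpotent (commutator G)) (fun G _ _ _ => inferInstance)
    (fun G _ _ N hN _ h1 h2 => ?_) G hG
  refine isNilpotent_of_map_mk_of_le_centralizer (N := N) (commutator_le_centralizer_of_isCyclic
    (isCyclic_of_card_prime h1) (normal_iff_top_le_normalizer.1 hN)) ?_
  rwa [_root_.commutator_def, map_commutator, map_top_mk]

theorem inf_eq_bot_of_card_prime {N M : Subgroup G} (h : (Nat.card N).Prime) (h1 : ¬ N ≤ M) :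
    N ⊓ M = ⊥ := by
  have : Finite N := Nat.finite_of_card_ne_zero h.ne_zero
  rcases (Nat.dvd_prime h).1 (card_dvd_of_le (inf_le_left : N ⊓ M ≤ N)) with e | e
  · exact card_eq_one.1 e
  · exact absurd (inf_eq_left.1 (eq_of_le_of_card_ge inf_le_left e.ge)) h1

theorem isCoatom_comap_mk {N : Subgroup G} [N.Normal] {M : Subgroup (G ⧸ N)} (hM : IsCoatom M) :
    IsCoatom (M.comap (QuotientGroup.mk' N)) :=
  isCoatom_comap_of_surjective (QuotientGroup.mk'_surjective N) hM

theorem index_prime_of_ss [Finite G] (hG : IsSupersolvable G) :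
    ∀ M : Subgroup G, IsCoatom M → M.index.Prime := by
  refine ss_induction (P := fun G _ _ => ∀ M : Subgroup G, IsCoatom M → M.index.Prime)
    (fun G _ _ _ M hM => absurd (Subsingleton.elim _ _) hM.1) (fun G _ _ N hN _ h1 h2 M hM => ?_) G hG
  by_cases h : N ≤ M
  · have := h2 _ (isCoatom_map_mk hM h)
    rwa [index_map_mk, sup_eq_left.2 h] at this
  · rwa [← IsComplement'.card_eq_index (isComplement'_of_inf_eq_bot_of_sup_eq_top
      (inf_eq_bot_of_card_prime h1 h) (sup_comm M N ▸ sup_eq_top_of_not_le_coatom hM h)).symm]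

theorem normal_of_isSylowIn_of_le_normalizer [Finite G] {p : ℕ} [Fact p.Prime] {P K : Subgroup G}
    [hK : K.Normal] (hP : IsSylowIn p P K) (h : K ≤ normalizer (P : Set G)) : P.Normal :=
  normal_iff_top_le_normalizer.2 ((normal_iff_top_le_normalizer.1 hK).trans
    (hP.normalizer_le_of_le_normalizer h))

theorem ss_exists_normal_card_max [Finite G] (hG : IsSupersolvable G) : ∀ p : ℕ, p.Prime →
    p ∣ Nat.card G → (∀ q : ℕ, q.Prime → q ∣ Nat.card G → q ≤ p) →
    ∃ K : Subgroup G, K.Normal ∧ Nat.card K = p := by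
  refine ss_induction (P := fun G _ _ => ∀ p : ℕ, p.Prime →
    p ∣ Nat.card G → (∀ q : ℕ, q.Prime → q ∣ Nat.card G → q ≤ p) →
    ∃ K : Subgroup G, K.Normal ∧ Nat.card K = p)
    (fun G _ _ _ p hp h _ => absurd (by simpa using h) hp.ne_one)
    (fun G _ _ N hN _ h1 h2 p hp h3 h4 => ?_) G hG
  by_cases e : Nat.card N = p
  · exact ⟨N, hN, e⟩
  have := Fact.mk hp
  have hc : (Nat.card N).Coprime p := (Nat.coprime_primes h1 hp).2 e
  obtain ⟨K, hK, h5⟩ := h2 p hp (hc.symm.dvd_of_dvd_mul_left (N.card_mul_index ▸ h3))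
    fun q hq h => h4 q hq (h.trans N.index_dvd_card)
  have h6 : Nat.card (K.comap (QuotientGroup.mk' N)) = Nat.card N * p := by
    rw [card_comap_mk, h5, mul_comm]
  obtain ⟨P, hP⟩ := exists_isSylowIn p (K.comap (QuotientGroup.mk' N))
  have h7 : Nat.card P = p := by
    rw [hP.card_eq, h6, Nat.factorization_mul h1.ne_zero hp.ne_zero, Finsupp.add_apply,
      hp.factorization_self, Nat.factorization_eq_zero_of_not_dvd (hp.coprime_iff_not_dvd.1 hc.symm)]
    simp
  have h8 : P ≤ centralizer (N : Set G) := le_centralizer_of_card_prime_of_coprime h1 rfl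
    (le_top.trans (normal_iff_top_le_normalizer.1 hN)) (by
      rw [h7, hp.coprime_iff_not_dvd]
      have := h4 _ h1 (card_subgroup_dvd_card N)
      have := h1.two_le
      exact Nat.not_dvd_of_pos_of_lt (by omega) (by omega))
  have h9 : P ⊔ N = K.comap (QuotientGroup.mk' N) :=
    eq_of_le_of_card_le (sup_le hP.1 (le_comap_mk N K)) (by
      rw [card_sup_of_disjoint (le_top.trans (normal_iff_top_le_normalizer.1 hN))
        (inf_eq_bot_of_coprime' (h7 ▸ hc.symm)), h6, h7, mul_comm])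
  exact ⟨P, normal_of_isSylowIn_of_le_normalizer hP (h9 ▸ sup_le le_normalizer
    ((le_centralizer_iff.1 h8).trans (centralizer_le_normalizer _))), h7⟩

theorem ss_hasSubgroup [Finite G] (hG : IsSupersolvable G) : HasSubgroupOfEveryOrder G := by
  refine ss_induction (P := fun G _ _ => HasSubgroupOfEveryOrder G)
    (fun G _ _ _ d hd => ⟨⊥, by simpa [eq_comm] using hd⟩) (fun G _ _ N hN _ h1 h2 d hd => ?_) G hG
  rw [← N.card_mul_index] at hd
  by_cases h : Nat.card N ∣ d
  · obtain ⟨e, rfl⟩ := h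
    obtain ⟨K, hK⟩ := h2 e (Nat.dvd_of_mul_dvd_mul_left h1.pos hd)
    exact ⟨K.comap (QuotientGroup.mk' N), by rw [card_comap_mk, hK, mul_comm]⟩
  · have hc := (h1.coprime_iff_not_dvd.2 h)
    obtain ⟨K, hK⟩ := h2 d (hc.symm.dvd_of_dvd_mul_left hd)
    have h3 : N.relIndex (K.comap (QuotientGroup.mk' N)) = d := by
      have := card_mul_relIndex (le_comap_mk N K)
      rw [card_comap_mk, hK, mul_comm d] at this
      exact Nat.eq_of_mul_eq_mul_left h1.pos this
    obtain ⟨A, -, -, -, h4⟩ := sz_exists_internal (le_comap_mk N K)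
      (le_top.trans (normal_iff_top_le_normalizer.1 hN)) (h3 ▸ hc)
    exact ⟨A, h4.trans h3⟩

theorem index_modEq_one_of_normalizer_le [Finite G] {p : ℕ} [Fact p.Prime] (P : Sylow p G)
    {M : Subgroup G} (h : normalizer (P : Set G) ≤ M) : M.index ≡ 1 [MOD p] := by
  have h1 := card_sylow_modEq_one p G
  have h2 := card_sylow_modEq_one p M
  rw [P.card_eq_index_normalizer, ← relIndex_mul_index h] at h1
  rw [(P.subtype (le_normalizer.trans h)).card_eq_index_normalizer] at h2
  have h3 : normalizer ((P.subtype (le_normalizer.trans h) : Sylow p M) : Set M) =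
      (normalizer (P : Set G)).subgroupOf M := (subgroupOf_normalizer_eq (le_normalizer.trans h)).symm
  rw [h3] at h2
  have h4 := h2.mul_right M.index
  rw [one_mul] at h4
  exact h4.symm.trans h1

theorem sylow_normal_of_coatom_index_prime [Finite G]
    (h : ∀ M : Subgroup G, IsCoatom M → M.index.Prime) {p : ℕ} [hp : Fact p.Prime]
    (hmax : ∀ q : ℕ, q.Prime → q ∣ Nat.card G → q ≤ p) (P : Sylow p G) : (P : Subgroup G).Normal := by
  by_contra hn
  obtain ⟨M, hM, h1⟩ := exists_coatom_ge (H := normalizer (P : Set G))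
    (fun e => hn (normalizer_eq_top_iff.1 e))
  have h2 := index_modEq_one_of_normalizer_le P h1
  have h3 := hmax _ (h M hM) M.index_dvd_card
  have h4 := (h M hM).two_le
  have h5 := Nat.le_of_dvd (by omega) ((Nat.modEq_iff_dvd' (by omega)).1 h2.symm)
  omega

theorem coatom_index_prime_quotient (h : ∀ M : Subgroup G, IsCoatom M → M.index.Prime)
    (N : Subgroup G) [N.Normal] : ∀ M : Subgroup (G ⧸ N), IsCoatom M → M.index.Prime :=
  fun M hM => index_comap_mk N M ▸ h _ (isCoatom_comap_mk hM)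

theorem exists_max_prime_dvd {n : ℕ} (h0 : n ≠ 0) (h1 : n ≠ 1) :
    ∃ p : ℕ, p.Prime ∧ p ∣ n ∧ ∀ q : ℕ, q.Prime → q ∣ n → q ≤ p := by
  obtain ⟨p, hp, h2⟩ := n.primeFactors.exists_max_image id
    (Nat.nonempty_primeFactors.2 (by omega))
  exact ⟨p, Nat.prime_of_mem_primeFactors hp, Nat.dvd_of_mem_primeFactors hp,
    fun q hq h => h2 q (Nat.mem_primeFactors.2 ⟨hq, h, h0⟩)⟩

theorem isSolvable_of_coatom_index_prime_aux (G : Type u) [Group G] [Finite G] :
    (∀ M : Subgroup G, IsCoatom M → M.index.Prime) → Group.IsSolvable G := by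
  refine card_induction (P := fun G _ _ => (∀ M : Subgroup G, IsCoatom M → M.index.Prime) →
    Group.IsSolvable G) (fun G _ _ ih h => ?_) G
  rcases subsingleton_or_nontrivial G with h1 | h1
  · infer_instance
  obtain ⟨p, hp, h2, h3⟩ := exists_max_prime_dvd (n := Nat.card G) Nat.card_pos.ne' Finite.one_lt_card.ne'
  have := Fact.mk hp
  obtain ⟨P⟩ : Nonempty (Sylow p G) := inferInstance
  have := sylow_normal_of_coatom_index_prime h h3 P
  have := P.2.isNilpotent
  exact isSolvable_of_normal_of_quotient P inferInstance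
    (ih _ (card_quotient_lt (P.ne_bot_of_dvd_card h2)) (coatom_index_prime_quotient h _))

theorem ss_pow_mem_centralizer [Finite G] (hG : IsSupersolvable G) {p : ℕ} [hp : Fact p.Prime] :
    ∀ (P : Subgroup G) [P.Normal], IsPGroup p P → ∀ (a : G) (k : ℕ),
      (orderOf (a ^ ((p - 1) * k))).Coprime p → a ^ ((p - 1) * k) ∈ centralizer (P : Set G) := by
  refine card_induction (P := fun G _ _ => IsSupersolvable G → ∀ (P : Subgroup G) [P.Normal],
    IsPGroup p P → ∀ (a : G) (k : ℕ), (orderOf (a ^ ((p - 1) * k))).Coprime p →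
      a ^ ((p - 1) * k) ∈ centralizer (P : Set G)) (fun G _ _ ih hG P _ hP a k h => ?_) G hG
  by_cases h0 : P = ⊥
  · simp [h0, mem_centralizer_iff]
  obtain ⟨N, h1, h2, h3⟩ := ss_exists_normal_prime hG P h0
  have h4 : Nat.card N = p := eq_of_isPGroup_of_dvd hP h2 (card_dvd_of_le h1)
  have h5 := ih _ (card_quotient_lt (ne_bot_of_card_prime h2)) (ss_quotient hG N)
    (P.map (QuotientGroup.mk' N)) (hP.map _) (QuotientGroup.mk' N a) k (by
      rw [← map_pow]; exact h.coprime_dvd_left (orderOf_map_dvd _ _))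
  rw [← zpowers_le_centralizer_iff]
  refine coprime_le_centralizer_of_commutator_le (N := N) (by rwa [Nat.card_zpowers, h4]) ?_ ?_
  · rw [← map_mk_eq_bot_iff N, map_commutator, commutator_comm, commutator_eq_bot_iff_le_centralizer,
      MonoidHom.map_zpowers, zpowers_le_centralizer_iff, map_pow]
    exact h5
  · rw [zpowers_le_centralizer_iff, pow_mul]
    exact pow_mem (pow_sub_one_mem_centralizer_of_card_prime hp.out h4
      (normal_iff_top_le_normalizer.1 h3 trivial)) k

theorem exists_pow_coprime_orderOf [Finite G] {p : ℕ} (hp : p.Prime) (a : G) :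
    ∃ k, (orderOf (a ^ p ^ k)).Coprime p := by
  obtain ⟨k, m, hm, e⟩ := Nat.exists_eq_pow_mul_and_not_dvd (orderOf_pos a).ne' p hp.ne_one
  refine ⟨k, Nat.Coprime.coprime_dvd_left (orderOf_dvd_of_pow_eq_one (n := m) ?_)
    (hp.coprime_iff_not_dvd.2 hm).symm⟩
  rw [← pow_mul, ← e, pow_orderOf_eq_one]

theorem mem_of_pow_mem_normal_sylow [Finite G] {p : ℕ} [Fact p.Prime] {P : Subgroup G} [hn : P.Normal]
    (hP : IsSylowIn p P ⊤) {a : G} {k : ℕ} (h : a ^ p ^ k ∈ P) : a ∈ P := by
  obtain ⟨m, hm⟩ := isPGroup_iff_forall_mem.1 hP.2 _ h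
  have h1 : IsPGroup p (zpowers a) := IsPGroup.of_card_dvd_pow (n := k + m) (by
    rw [Nat.card_zpowers, orderOf_dvd_iff_pow_eq_one, pow_add, pow_mul, hm])
  exact hP.le_of_le_normalizer' h1 le_top (le_top.trans (normal_iff_top_le_normalizer.1 hn))
    (mem_zpowers a)

theorem ss_of_coatom_index_prime_aux (G : Type u) [Group G] [Finite G] :
    (∀ M : Subgroup G, IsCoatom M → M.index.Prime) → IsSupersolvable G := by
  refine card_induction (P := fun G _ _ => (∀ M : Subgroup G, IsCoatom M → M.index.Prime) →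
    IsSupersolvable G) (fun G _ _ ih h => ?_) G
  rcases subsingleton_or_nontrivial G with h1 | h1
  · exact ss_of_subsingleton
  have hs := isSolvable_of_coatom_index_prime_aux G h
  have hq : ∀ (N : Subgroup G) [N.Normal], N ≠ ⊥ → IsSupersolvable (G ⧸ N) := fun N _ hN =>
    ih _ (card_quotient_lt hN) (coatom_index_prime_quotient h N)
  obtain ⟨p, hp, h2, h3⟩ := exists_max_prime_dvd (n := Nat.card G) Nat.card_pos.ne' Finite.one_lt_card.ne'
  have := Fact.mk hp
  obtain ⟨P⟩ : Nonempty (Sylow p G) := inferInstance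
  have hPn := sylow_normal_of_coatom_index_prime h h3 P
  obtain ⟨N, hNP, hN, hN0, hmin⟩ := exists_minimal_normal_le (P : Subgroup G) (P.ne_bot_of_dvd_card h2)
  by_cases hO : pPrimeCore p G ≠ ⊥
  · exact ss_of_inf_eq_bot N (pPrimeCore p G) (inf_eq_bot_of_coprime' (coprime_card_of_isPGroup'
      (P.2.to_le hNP) (coprime_card_pPrimeCore p)).symm) (hq N hN0) (hq _ hO)
  rw [not_not] at hO
  refine ss_of_isCyclic_of_quotient N (isCyclic_of_card_prime ?_) (hq N hN0)
  obtain ⟨hc, q, hq', he⟩ := minimal_normal_elementary N inferInstance hN0 hmin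
  by_cases hF : N ≤ frattini G
  swap
  · rw [le_frattini_iff] at hF
    push Not at hF
    obtain ⟨M, hM, h4⟩ := hF
    rw [IsComplement'.card_eq_index (isComplement'_of_minimal_normal_of_coatom hc hmin hM h4).symm]
    exact h M hM
  have hFP : fittingSubgroup G = P := by
    rw [fitting_eq_pCore hO]; exact le_antisymm (pCore_le_sylow P) (le_pCore P.2)
  have hF' := fitting_quotient_of_le_frattini hF
  rw [hFP] at hF'
  have hPC : (P : Subgroup G) ≤ centralizer (N : Set G) :=
    hFP ▸ fitting_le_centralizer_of_minimal_normal N hmin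
  obtain rfl : q = p := by
    obtain ⟨x, hx, hx1⟩ := exists_ne_one_of_ne_bot hN0
    have := Fact.mk hq'
    exact eq_of_isPGroup_of_dvd P.2 hq' (orderOf_eq_prime (he x hx) hx1 ▸ orderOf_dvd_card_of_mem (hNP hx))
  rw [card_eq_prime_of_irreducible (p := q) ⟨hc, he⟩ hN0 (normal_iff_top_le_normalizer.1 hN)
    (fun a _ => hPC ?_) (le_trans ?_ hPC)
    (fun U h4 h5 => hmin U (normal_iff_top_le_normalizer.2 h5) h4)]
  · exact hp
  · have h5 := le_fitting (isNilpotent_commutator_of_ss (hq N hN0))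
    rwa [hF', _root_.commutator_def, ← map_top_mk, ← map_commutator, map_mk_le_map_mk_iff,
      sup_eq_left.2 hNP] at h5
  · obtain ⟨k, hk⟩ := exists_pow_coprime_orderOf hp ((QuotientGroup.mk' N a) ^ (q - 1))
    rw [← pow_mul] at hk
    have h5 := ss_pow_mem_centralizer (hq N hN0) _ (P.2.map (QuotientGroup.mk' N)) _ _ hk
    rw [← hF'] at h5
    have h6 := centralizer_fitting_le h5
    rw [hF', ← map_pow, ← mem_comap, comap_map_mk, sup_eq_left.2 hNP, pow_mul] at h6
    exact mem_of_pow_mem_normal_sylow (isSylowIn_top P) h6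

theorem ss_sylow_normal [Finite G] (hG : IsSupersolvable G) {p : ℕ} [hp : Fact p.Prime]
    (hmax : ∀ q : ℕ, q.Prime → q ∣ Nat.card G → q ≤ p) (P : Sylow p G) : (P : Subgroup G).Normal :=
  sylow_normal_of_coatom_index_prime (index_prime_of_ss hG) hmax P

theorem ss_le_normalizer_of_isSylowIn [Finite G] {H P : Subgroup G} (hH : IsSupersolvable H) {p : ℕ}
    [hp : Fact p.Prime] (hmax : ∀ q : ℕ, q.Prime → q ∣ Nat.card H → q ≤ p) (hP : IsSylowIn p P H) :
    H ≤ normalizer (P : Set G) := by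
  obtain ⟨Q, hQ⟩ := hP.exists_sylow
  have := ss_sylow_normal hH hmax Q
  rw [hQ] at this
  exact (normal_subgroupOf_iff_le_normalizer hP.1).1 this

/-- a normal subgroup inside a normal nilpotent subgroup `P` is supersolvably embedded as soon as it
lies in a supersolvable supplement of `P`. -/
theorem ss_step_of_supplement [Finite G] {P L N : Subgroup G} [hPn : P.Normal] [hN : N.Normal]
    (hP : Group.IsNilpotent P) (hPL : P ⊔ L = ⊤) (hNP : N ≤ P) (hNL : N ≤ L) (hL : IsSupersolvable L)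
    (M : Subgroup G) (hM : M.Normal) (h : ¬ N ≤ M) : ∃ g ∉ M, (M ⊔ zpowers g).Normal := by
  obtain ⟨x, hx, hxM, h1⟩ := exists_central_mod (N := M) hP hNP
    (le_top.trans (normal_iff_top_le_normalizer.1 hN)) h
  have hA : (N ⊓ centralMod P M).Normal := ⟨fun y hy g => mem_inf.2 ⟨hN.conj_mem _ hy.1 g,
    mem_centralMod.2 ⟨normal_iff_top_le_normalizer.1 hM trivial, fun z hz => by
      have := hM.conj_mem _ ((mem_centralMod.1 hy.2).2 _ (hPn.conj_mem' z hz g)) g
      convert this using 1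
      simp only [commutatorElement_def]; group⟩⟩⟩
  obtain ⟨g, hg, h2, h3⟩ := ss_exists_step hL ((N ⊓ centralMod P M).subgroupOf L) (M.subgroupOf L)
    fun e => hxM (e (x := ⟨x, hNL hx⟩) (mem_inf.2 ⟨hx, mem_centralMod.2
      ⟨normal_iff_top_le_normalizer.1 hM trivial, h1⟩⟩))
  refine ⟨g, h2, normal_iff_top_le_normalizer.2 (hPL ▸ sup_le ?_ ?_)⟩
  · exact le_normalizer_of_commutator_le_of_le (N := M) ((commutator_mono (sup_le (le_centralMod
      (le_top.trans (normal_iff_top_le_normalizer.1 hM))) (zpowers_le.2 hg.2)) le_rfl).trans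
      commutator_centralMod_le) le_sup_left
  · have h4 : M ⊔ zpowers (g : G) = M ⊔ (M.subgroupOf L ⊔ zpowers g).map L.subtype := by
      rw [Subgroup.map_sup, MonoidHom.map_zpowers, subgroupOf_map_subtype, ← sup_assoc,
        sup_eq_left.2 (inf_le_left : M ⊓ L ≤ M)]; rfl
    rw [h4]
    refine le_normalizer_sup (le_top.trans (normal_iff_top_le_normalizer.1 hM)) ?_
    refine (normal_subgroupOf_iff_le_normalizer (map_subtype_le _)).1 ?_
    rwa [map_subtype_subgroupOf]

end Cfsg.Agent.Solv
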