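import Cfsg.Agent.Lib.Solv.SubCount
import Cfsg.Agent.Lib.BG.Meta
import Cfsg.Agent.Lib.Transfer.PG
import Cfsg.Agent.S0063
import Cfsg.Agent.S0646

/-! `p`-groups of maximal class; the 2-groups of maximal class. -/

namespace Cfsg.Agent.Solv
open Pointwise commutatorElement Subgroup Cfsg.Agent.Transfer

universe u
variable {G : Type u} [Group G] [Finite G] {p : ℕ}

theorem isCyclic_of_quotient_le_frattini {N : Subgroup G} [N.Normal] (hN : N ≤ frattini G)
    (h : IsCyclic (G ⧸ N)) : IsCyclic G := by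
  obtain ⟨x, hx⟩ := isCyclic_iff_exists_zpowers_eq_top.1 h
  obtain ⟨x, rfl⟩ := QuotientGroup.mk_surjective x
  have h1 : zpowers x ⊔ N = ⊤ := by
    rw [← comap_map_mk, MonoidHom.map_zpowers, QuotientGroup.mk'_apply, hx, comap_top]
  exact isCyclic_top_iff.1 (eq_top_of_sup_le_frattini hN h1 ▸ inferInstance)

theorem nilpotencyClass_eq_iff [Group.IsNilpotent G] {c : ℕ} : Group.nilpotencyClass G = c + 1 ↔
    (⊤ : Subgroup G).lowerCentralSeries (c + 1) = ⊥ ∧ (⊤ : Subgroup G).lowerCentralSeries c ≠ ⊥ := by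
  rw [Ne, Subgroup.lowerCentralSeries_eq_bot_iff_nilpotencyClass_le, Subgroup.lowerCentralSeries_eq_bot_iff_nilpotencyClass_le]
  omega

variable [hp : Fact p.Prime]

theorem pow_le_card_lcs (hG : IsPGroup p G) (j : ℕ) : ∀ k, (⊤ : Subgroup G).lowerCentralSeries (k + j) ≠ ⊥ →
    p ^ (j + 1) ≤ Nat.card ((⊤ : Subgroup G).lowerCentralSeries k) := by
  induction j with
  | zero => exact fun k h => by simpa using BG.le_card_of_ne_bot (hG.to_subgroup _) h
  | succ j ih =>
    intro k h
    refine BG.pow_le_card_of_lt (hG.to_subgroup _) (BG.commutator_lt_of_isPGroup (hG.to_subgroup ⊤)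
      (hG.to_subgroup _) le_normalizer_of_normal fun h1 => h ?_) (ih (k + 1) (by rwa [add_right_comm]))
    exact le_bot_iff.1 (h1 ▸ Subgroup.lowerCentralSeries_antitone _ (Nat.le_add_right _ _))

theorem lcs_le_of_index {N : Subgroup G} [N.Normal] {r : ℕ} (hr : 2 ≤ r) (h : N.index = p ^ r) :
    (⊤ : Subgroup G).lowerCentralSeries (r - 1) ≤ N := by
  haveI := (IsPGroup.of_card (G := G ⧸ N) h).isNilpotent
  rw [← map_mk_eq_bot_iff, map_lowerCentralSeries, map_top_mk, Subgroup.lowerCentralSeries_eq_bot_iff_nilpotencyClass_le]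
  exact S0063.result p r h hr

theorem card_mul_index_pow {n r : ℕ} (hG : Nat.card G = p ^ n) {N : Subgroup G} (h : N.index = p ^ r) :
    r ≤ n ∧ Nat.card N = p ^ (n - r) := by
  have h1 : r ≤ n := (Nat.pow_dvd_pow_iff_le_right hp.out.one_lt).1 (h ▸ hG ▸ N.index_dvd_card)
  refine ⟨h1, Nat.eq_of_mul_eq_mul_right (pow_pos hp.out.pos r) ?_⟩
  rw [← pow_add, Nat.sub_add_cancel h1, ← h, card_mul_index, hG]

theorem eq_lcs_of_maxClass {n : ℕ} (hG : Nat.card G = p ^ n) (hc : Group.nilpotencyClass G = n - 1)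
    (N : Subgroup G) [N.Normal] {r : ℕ} (hr : 2 ≤ r) (h : N.index = p ^ r) :
    N = (⊤ : Subgroup G).lowerCentralSeries (r - 1) := by
  have hG' := IsPGroup.of_card hG
  haveI := hG'.isNilpotent
  obtain ⟨h1, h2⟩ := card_mul_index_pow hG h
  refine (Solv.eq_of_le_of_card_le (lcs_le_of_index hr h) ?_).symm
  rw [h2]
  rcases h1.eq_or_lt with rfl | h1
  · rw [Nat.sub_self, pow_zero]; exact Nat.card_pos
  · have := pow_le_card_lcs hG' (n - r - 1) (r - 1) (by
      rw [Ne, Subgroup.lowerCentralSeries_eq_bot_iff_nilpotencyClass_le]; omega)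
    rwa [show n - r - 1 + 1 = n - r by omega] at this

theorem sq_dvd_index_commutator (hG : IsPGroup p G) (h : ¬ IsCyclic G) : p ^ 2 ∣ (_root_.commutator G).index := by
  obtain ⟨k, hk⟩ := hG.index (_root_.commutator G)
  rw [hk]
  refine pow_dvd_pow _ (le_of_not_gt fun h1 => h (isCyclic_of_quotient_le_frattini
    (commutator_le_frattini_of_isPGroup hG) (isCyclic_of_card_dvd_prime (p := p) ?_)))
  rw [← index, hk]
  simpa using pow_dvd_pow p (Nat.le_of_lt_succ h1)

theorem not_comm_of_maxClass {n : ℕ} (hG : Nat.card G = p ^ n) (hc : Group.nilpotencyClass G = n - 1) (hn : 3 ≤ n) :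
    ¬ IsMulCommutative G := fun h => by
  haveI := (IsPGroup.of_card hG).isNilpotent
  have := (Group.IsNilpotent.nilpotencyClass_le_one_iff (G := G)).2 h
  omega

theorem index_commutator_of_maxClass {n : ℕ} (hG : Nat.card G = p ^ n) (hc : Group.nilpotencyClass G = n - 1)
    (hn : 3 ≤ n) : (_root_.commutator G).index = p ^ 2 := by
  have hG' := IsPGroup.of_card hG
  haveI := hG'.isNilpotent
  obtain ⟨k, hk⟩ := hG'.index (_root_.commutator G)
  have h1 := sq_dvd_index_commutator hG' fun h => not_comm_of_maxClass hG hc hn inferInstance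
  rw [hk, Nat.pow_dvd_pow_iff_le_right hp.out.one_lt] at h1
  obtain ⟨h2, h3⟩ := card_mul_index_pow hG hk
  have h4 := pow_le_card_lcs hG' (n - 3) 1 (by rw [Ne, Subgroup.lowerCentralSeries_eq_bot_iff_nilpotencyClass_le]; omega)
  rw [top_lowerCentralSeries_one, h3, Nat.pow_le_pow_iff_right hp.out.one_lt] at h4
  rw [hk, show k = 2 by omega]

theorem card_center_of_maxClass {n : ℕ} (hG : Nat.card G = p ^ n) (hc : Group.nilpotencyClass G = n - 1)
    (hn : 3 ≤ n) : Nat.card (center G) = p := by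
  have hG' := IsPGroup.of_card hG
  haveI := hG'.isNilpotent
  obtain ⟨k, hk⟩ := hG'.index (center G)
  obtain ⟨h2, h3⟩ := card_mul_index_pow hG hk
  have h4 : 1 < k := lt_of_not_ge fun h1 => not_comm_of_maxClass hG hc hn (by
    haveI : IsCyclic (G ⧸ center G) := isCyclic_of_card_dvd_prime (p := p) (by
      rw [← index, hk]; simpa using pow_dvd_pow p h1)
    exact isMulCommutative_of_isCyclic_quotient_center_self G)
  have h5 := S0063.result (G := G ⧸ center G) p k hk h4
  rw [Group.nilpotencyClass_quotient_center] at h5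
  haveI : Nontrivial G := Finite.one_lt_card_iff_nontrivial.1 (hG ▸ Nat.one_lt_pow (by omega) hp.out.one_lt)
  have h6 := BG.le_card_of_ne_bot (hG'.to_subgroup _) (Group.IsNilpotent.center_ne_bot G)
  rw [h3, ← pow_one p, ← pow_mul, one_mul, Nat.pow_le_pow_iff_right hp.out.one_lt] at h6
  rw [h3, show n - k = 1 by omega, pow_one]

theorem card_quotient_center {n : ℕ} (hG : Nat.card G = p ^ (n + 1)) (h : Nat.card (center G) = p) :
    Nat.card (G ⧸ center G) = p ^ n :=
  Nat.eq_of_mul_eq_mul_right hp.out.pos (by rw [← pow_succ, ← hG, card_eq_card_quotient_mul_card_subgroup (center G), h])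

theorem maxClass_of_quotient {n : ℕ} (hG : Nat.card G = p ^ n) (hn : 3 ≤ n)
    (h : Group.nilpotencyClass (G ⧸ center G) = n - 1 - 1) : Group.nilpotencyClass G = n - 1 := by
  rw [Group.nilpotencyClass_quotient_center] at h
  omega

theorem maxClass_of_centralizer (G : Type u) [Group G] [Finite G] : ∀ n, Nat.card G = p ^ n → ∀ A : Subgroup G,
    Nat.card A = p ^ 2 → centralizer (A : Set G) ≤ A → Group.nilpotencyClass G = n - 1 := by
  revert G
  refine card_induction fun G _ _ ih => ?_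
  intro n hG A hA hC
  have hG' := IsPGroup.of_card hG
  haveI := hG'.isNilpotent
  have hA' := hG'.to_subgroup A
  have h1 : 2 ≤ n := (Nat.pow_dvd_pow_iff_le_right hp.out.one_lt).1 (hA ▸ hG ▸ A.card_subgroup_dvd_card)
  haveI : Nontrivial G := Finite.one_lt_card_iff_nontrivial.1 (hG ▸ Nat.one_lt_pow (by omega) hp.out.one_lt)
  rcases h1.eq_or_lt with rfl | h1
  · have h2 := S0063.result p 2 hG one_lt_two
    have h3 : Group.nilpotencyClass G ≠ 0 := fun h =>
      not_subsingleton G (Group.nilpotencyClass_zero_iff_subsingleton.1 h)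
    omega
  obtain ⟨n, rfl⟩ : ∃ m, n = m + 1 := ⟨n - 1, by omega⟩
  have h2 : A ≠ ⊤ := by
    rintro rfl
    rw [card_top, hG] at hA
    have := Nat.pow_right_injective hp.out.two_le hA
    omega
  have h3 : center G ≤ A := (center_le_centralizer _).trans hC
  have h4 : Nat.card (center G) = p := BG.card_eq_of_card_le (hG'.to_subgroup _) (Group.IsNilpotent.center_ne_bot G)
    (by simpa using BG.card_le_pow_of_lt (k := 1) hA' (lt_of_le_of_ne h3 fun h => h2 (top_le_iff.1 (le_trans
      (fun x _ => mem_centralizer_iff.2 fun y hy => (mem_center_iff.1 (h ▸ hy : y ∈ center G) x).symm) hC))) hA.le)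
  have h5 : centralizer (A : Set G) = A :=
    le_antisymm hC (comm_iff_le_centralizer.1 (BG.comm_of_card_le hA' hA.le))
  have h6 := BG.relIndex_Ct_eq (hG'.to_subgroup (normalizer (A : Set G))) hA' le_rfl hA.le fun h =>
    (normalizerCondition_of_isNilpotent A h2.lt_top).not_ge (h.trans hC)
  rw [h5] at h6
  have h7 := card_map_mk (center G) (normalizer (A : Set G))
  rw [inf_eq_right.2 (h3.trans le_normalizer), h4, ← Solv.card_mul_relIndex le_normalizer, h6, hA] at h7
  refine maxClass_of_quotient hG h1 (ih _ (card_quotient_lt (Group.IsNilpotent.center_ne_bot G)) n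
    (card_quotient_center hG h4) _ (Nat.eq_of_mul_eq_mul_right hp.out.pos h7) fun x hx => ?_)
  obtain ⟨x, rfl⟩ := QuotientGroup.mk_surjective x
  refine mem_map_of_mem (QuotientGroup.mk' _) (Solv.mem_normalizer_of_conj_mem fun a ha => ?_)
  have h8 := mem_centralizer_iff.1 hx _ (mem_map_of_mem (QuotientGroup.mk' _) (le_normalizer ha))
  rw [QuotientGroup.mk'_apply, ← QuotientGroup.mk_mul, ← QuotientGroup.mk_mul, eq_comm, QuotientGroup.eq_iff_div_mem] at h8
  convert mul_mem (h3 h8) ha using 1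
  rw [div_eq_mul_inv]; group

theorem maxClass_of_cube {n : ℕ} (hG : Nat.card G = p ^ n) {B : Subgroup G} (hB : Nat.card B = p ^ 3)
    (h : ¬ IsMulCommutative B) (hC : centralizer (B : Set G) ≤ B) : Group.nilpotencyClass G = n - 1 := by
  have hG' := IsPGroup.of_card hG
  haveI := hG'.isNilpotent
  have h1 : 3 ≤ n := (Nat.pow_dvd_pow_iff_le_right hp.out.one_lt).1 (hB ▸ hG ▸ B.card_subgroup_dvd_card)
  haveI : Nontrivial G := Finite.one_lt_card_iff_nontrivial.1 (hG ▸ Nat.one_lt_pow (by omega) hp.out.one_lt)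
  obtain ⟨n, rfl⟩ : ∃ m, n = m + 1 := ⟨n - 1, by omega⟩
  obtain ⟨h2, h3⟩ := BG.center_eq_der_of_card (hG'.to_subgroup B) hB (mt comm_iff_le_centralizer.2 h)
  have h4 : center G ≤ B := (center_le_centralizer _).trans hC
  have h5 : Nat.card (center G) = p := BG.card_eq_of_card_le (hG'.to_subgroup _) (Group.IsNilpotent.center_ne_bot G)
    (by rw [← h3, h2]; exact card_le_of_le (le_inf h4 (center_le_centralizer _)))
  have h6 : center G = B ⊓ centralizer (B : Set G) :=
    Solv.eq_of_le_of_card_le (le_inf h4 (center_le_centralizer _)) (by rw [← h2, h3, h5])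
  have h7 := card_map_mk (center G) B
  rw [inf_eq_right.2 h4, h5, hB, pow_succ] at h7
  refine maxClass_of_quotient hG h1 (maxClass_of_centralizer _ n (card_quotient_center hG h5) _
    (Nat.eq_of_mul_eq_mul_right hp.out.pos h7) ?_)
  let H := (centralizer ((B.map (QuotientGroup.mk' (center G)) : Subgroup _) : Set (G ⧸ center G))).comap
    (QuotientGroup.mk' (center G))
  have h8 : ⁅H, B⁆ ≤ center G := commutator_le.2 fun x hx b hb => by
    rw [← QuotientGroup.eq_one_iff, ← QuotientGroup.mk'_apply, map_commutatorElement, commutatorElement_eq_one_iff_mul_comm]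
    exact (mem_centralizer_iff.1 hx _ (mem_map_of_mem _ hb)).symm
  have h9 : B ≤ H := fun b hb => mem_centralizer_iff.2 (by
    rintro _ ⟨c, hc, rfl⟩
    rw [← commutatorElement_eq_one_iff_mul_comm, ← map_commutatorElement, QuotientGroup.mk'_apply,
      QuotientGroup.eq_one_iff, h6, ← h2]
    exact commutator_mem_commutator hc hb)
  have h10 := le_sup_cc_of_comm h5 B H h9 (center_le_centralizer _) h8 (h6 ▸ center_le_centralizer _)
  rw [← map_comap_mk (center G) (centralizer _)]
  exact map_mono (h10.trans (sup_le le_rfl (inf_le_right.trans hC)))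

omit hp

theorem commutator_le_zpowers {A : Subgroup G} (hA : IsMulCommutative A) (hi : A.index = 2) {a b : G}
    {Z : Subgroup G} (hZ : Z ≤ center G) (h1 : A = zpowers a ⊔ Z) (hb : b ∉ A) :
    _root_.commutator G ≤ zpowers ⁅b, a⁆ := by
  haveI := normal_of_index_eq_two hi
  have ha : a ∈ A := h1 ▸ mem_sup_left (mem_zpowers a)
  have h2 : A ⊔ zpowers b = ⊤ := (isCoatom_of_index_prime (hi ▸ Nat.prime_two)).2 _
    (lt_of_le_of_ne le_sup_left fun h => hb (h ▸ mem_sup_right (mem_zpowers b)))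
  have h3 : b * a * b⁻¹ ∈ A := Normal.conj_mem inferInstance a ha b
  have h4 : ⁅b, a⁆ ∈ A := mul_mem h3 (inv_mem ha)
  have h5 := Solv.isMulCommutative_iff.1 hA
  have h6 : (⊤ : Subgroup G) ≤ normalizer (zpowers ⁅b, a⁆ : Set G) := by
    rw [← h2]
    refine sup_le (fun x hx => Solv.mem_normalizer_zpowers ?_) (zpowers_le.2 (Solv.mem_normalizer_zpowers ?_))
    · rw [h5 x hx _ h4, mul_inv_cancel_right]; exact mem_zpowers _
    · have h7 := h5 _ (sq_mem_of_index_two hi b) a ha
      have h8 := h5 _ h3 _ ha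
      rw [show b * ⁅b, a⁆ * b⁻¹ = b ^ 2 * a * (b ^ 2)⁻¹ * (b * a * b⁻¹)⁻¹ by
        rw [commutatorElement_def, pow_two]; group, h7, mul_inv_cancel_right]
      rw [show a * (b * a * b⁻¹)⁻¹ = ⁅b, a⁆⁻¹ by rw [commutatorElement_def]; group]
      exact inv_mem (mem_zpowers _)
  rw [_root_.commutator_def]
  refine BG.der_le_of_gen2 (Z := Z) (a := a) (b := b) h6 (by rw [sup_comm Z, ← h1, h2]) ?_ ?_
  · exact ((commutator_eq_bot_iff_le_centralizer (H₂ := ⊤)).2 (hZ.trans (center_le_centralizer _))).le.trans bot_le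
  · rw [← commutatorElement_inv b a]; exact inv_mem (mem_zpowers _)

/-- Taussky: a 2-group with `|G : G'| = 4` has a cyclic subgroup of index 2. -/
theorem exists_index_two_of_commutator (G : Type u) [Group G] [Finite G] : IsPGroup 2 G →
    (_root_.commutator G).index = 4 → ∃ a : G, (zpowers a).index = 2 := by
  revert G
  refine card_induction fun G _ _ ih => ?_
  intro hG h4
  haveI := Fact.mk Nat.prime_two
  haveI := hG.isNilpotent
  have key : ∀ a : G, 2 * orderOf a = Nat.card G → (zpowers a).index = 2 := fun a h =>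
    Nat.eq_of_mul_eq_mul_right (orderOf_pos a) (by rw [h, ← Nat.card_zpowers, index_mul_card])
  by_cases h0 : _root_.commutator G = ⊥
  · rw [h0, index_bot] at h4
    obtain ⟨a, ha⟩ := exists_prime_orderOf_dvd_card' (G := G) 2 (by rw [h4]; norm_num)
    exact ⟨a, key a (by rw [ha, h4])⟩
  obtain ⟨Z, h1, h2, h3⟩ := exists_normal_card (L := ⊤) (M := _root_.commutator G ⊓ center G) inferInstance
    (hG.to_subgroup _) le_top le_normalizer_of_normal 1 (by
      rw [pow_one]
      exact BG.le_card_of_ne_bot (hG.to_subgroup _) fun h => inf_centralizer_ne_bot_of_nilpotent (L := ⊤)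
        inferInstance le_top le_normalizer_of_normal h0 (by rwa [coe_top, centralizer_univ]))
  haveI := Solv.normal_iff_top_le_normalizer.2 h3
  have h5 : _root_.commutator (G ⧸ Z) = (_root_.commutator G).map (QuotientGroup.mk' Z) := by
    rw [_root_.commutator_def, _root_.commutator_def, map_commutator, map_top_mk]
  have h6 : (_root_.commutator (G ⧸ Z)).index = 4 := by
    rw [h5, index_map_mk, sup_eq_left.2 (h1.trans inf_le_left), h4]
  obtain ⟨a, ha⟩ := ih (G ⧸ Z) (card_quotient_lt (ne_bot_of_card_prime (by rw [h2]; exact Nat.prime_two)))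
    (hG.to_quotient Z) h6
  obtain ⟨a, rfl⟩ := QuotientGroup.mk_surjective a
  have h7 : (zpowers a ⊔ Z).index = 2 := by
    rw [← index_map_mk, MonoidHom.map_zpowers]; exact ha
  by_cases h8 : Z ≤ zpowers a
  · exact ⟨a, by rwa [sup_eq_left.2 h8] at h7⟩
  have h9 := Solv.card_sup_of_disjoint (H := zpowers a) (N := Z) le_normalizer_of_normal
    (by rw [inf_comm]; exact inf_eq_bot_of_card_prime (by rw [h2]; exact Nat.prime_two) h8)
  have h10 := (zpowers a ⊔ Z).card_mul_index
  have h11 := (_root_.commutator G).card_mul_index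
  rw [h9, h7, h2, Nat.card_zpowers] at h10
  rw [h4] at h11
  have hZ := h1.trans inf_le_right
  have hA : IsMulCommutative (zpowers a ⊔ Z : Subgroup G) := by
    rw [sup_comm]
    exact isMulCommutative_sup_zpowers (comm_iff_le_centralizer.2 (hZ.trans (center_le_centralizer _)))
      (mem_centralizer_iff.2 fun z hz => (mem_center_iff.1 (hZ hz) a).symm)
  obtain ⟨b, -, hb⟩ := SetLike.exists_of_lt (lt_top_iff_ne_top.2 fun h => by rw [h, index_top] at h7; omega :
    zpowers a ⊔ Z < ⊤)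
  have h12 := commutator_le_zpowers hA h7 hZ rfl hb
  haveI := normal_of_index_eq_two h7
  obtain ⟨_, ⟨i, rfl⟩, z, hz, h13⟩ := (Solv.mem_sup_of_le_normalizer le_normalizer_of_normal).1
    (mul_mem (Normal.conj_mem inferInstance a (mem_sup_left (mem_zpowers a)) b) (inv_mem (mem_sup_left (mem_zpowers a))) :
      ⁅b, a⁆ ∈ zpowers a ⊔ Z)
  replace h13 : ⁅b, a⁆ = a ^ i * z := h13
  obtain ⟨k, hk⟩ := hG.exists_orderOf_eq_pow a
  have h14 : Even i := by
    by_contra h14
    have h15 : zpowers (a : G ⧸ Z) ≤ _root_.commutator (G ⧸ Z) := by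
      have h15 : (a : G ⧸ Z) ^ i ∈ _root_.commutator (G ⧸ Z) := by
        have := commutator_mem_commutator (mem_top (b : G ⧸ Z)) (mem_top (a : G ⧸ Z))
        rwa [← QuotientGroup.mk'_apply, ← QuotientGroup.mk'_apply, ← map_commutatorElement, h13, map_mul,
          QuotientGroup.mk'_apply Z z, (QuotientGroup.eq_one_iff z).2 hz, mul_one, map_zpow] at this
      refine zpowers_le.2 (zpowers_le.2 h15 (mem_zpowers_zpow_iff.2 ?_))
      obtain ⟨j, hj⟩ := (hG.to_quotient Z).exists_orderOf_eq_pow (a : G ⧸ Z)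
      rw [hj, Nat.cast_pow, ← Int.isCoprime_iff_gcd_eq_one]
      exact IsCoprime.pow_right (Int.isCoprime_two_right.2 (Int.not_even_iff_odd.1 h14))
    have := index_dvd_of_le h15
    rw [h6, ha] at this
    omega
  have h15 : orderOf a ∣ orderOf ⁅b, a⁆ := by
    rw [← Nat.card_zpowers ⁅b, a⁆, show orderOf a = Nat.card (_root_.commutator G) by omega]
    exact card_dvd_of_le h12
  have hz2 : z ^ 2 = 1 := by simpa [h2] using pow_card_eq_one_of_mem hz
  rcases k with _ | _ | k
  · exact absurd (eq_bot_of_card_eq _ (by omega)) h0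
  · by_contra h16
    haveI : Nontrivial G := Finite.one_lt_card_iff_nontrivial.1 (by omega)
    refine h0 ((commutator_eq_bot_iff_le_centralizer).2 fun x _ => mem_centralizer_iff.2 fun y _ => ?_)
    refine mul_comm_of_exponent_two ?_ y x
    refine (Monoid.exponent_eq_prime_iff Nat.prime_two).2 fun g hg => ?_
    obtain ⟨j, hj, h17⟩ := (Nat.dvd_prime_pow Nat.prime_two).1 (show orderOf g ∣ 2 ^ 3 from
      (_root_.orderOf_dvd_natCard g).trans (dvd_of_eq (by omega)))
    interval_cases j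
    · exact absurd (orderOf_eq_one_iff.1 h17) hg
    · exact h17
    · exact absurd ⟨g, key g (by omega)⟩ h16
    · haveI := isCyclic_of_orderOf_eq_card g (by omega)
      exact absurd ((commutator_eq_bot_iff_le_centralizer).2 fun x _ => mem_centralizer_iff.2 fun y _ =>
        (isCyclic_top_iff.2 this).isMulCommutative.is_comm.comm ⟨y, trivial⟩ ⟨x, trivial⟩ |> congrArg Subtype.val) h0
  · obtain ⟨i, rfl⟩ := h14
    have h16 : ⁅b, a⁆ ^ 2 ^ (k + 1) = 1 := by
      rw [h13, (Commute.symm (mem_center_iff.1 (hZ hz) _).symm).mul_pow, pow_succ' 2 k, pow_mul z, hz2, one_pow,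
        mul_one, ← zpow_natCast, ← zpow_mul, ← orderOf_dvd_iff_zpow_eq_one, hk]
      exact ⟨i, by push_cast; ring⟩
    have := h15.trans (orderOf_dvd_of_pow_eq_one h16)
    rw [hk, Nat.pow_dvd_pow_iff_le_right one_lt_two] at this
    omega

/-- Normal form of a 2-group of maximal class. -/
structure NF2 (a b : G) (m : ℕ) : Prop where
  one_le : 1 ≤ m
  ord : orderOf a = 2 ^ (m + 1)
  card : Nat.card G = 2 ^ (m + 2)
  notMem : b ∉ zpowers a
  rel : (b ^ 2 = 1 ∧ b * a * b⁻¹ = a⁻¹) ∨ (b ^ 2 = a ^ 2 ^ m ∧ b * a * b⁻¹ = a⁻¹) ∨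
    (2 ≤ m ∧ b ^ 2 = 1 ∧ b * a * b⁻¹ = a ^ (2 ^ m - 1))

namespace NF2
variable {a b : G} {m : ℕ}

theorem index (h : NF2 a b m) : (zpowers a).index = 2 :=
  Nat.eq_of_mul_eq_mul_right (pow_pos two_pos (m + 1)) (by
    rw [← pow_succ', ← h.card, ← h.ord, ← Nat.card_zpowers, index_mul_card])

theorem sup (h : NF2 a b m) : zpowers a ⊔ zpowers b = ⊤ :=
  (isCoatom_of_index_prime (h.index ▸ Nat.prime_two)).2 _
    (lt_of_le_of_ne le_sup_left fun h1 => h.notMem (h1 ▸ mem_sup_right (mem_zpowers b)))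

theorem exists_conj (h : NF2 a b m) : ∃ t : ℤ, b * a * b⁻¹ = a ^ (4 * t - 1) := by
  rcases h.rel with h1 | h1 | h1
  · exact ⟨0, by simpa using h1.2⟩
  · exact ⟨0, by simpa using h1.2⟩
  · obtain ⟨k, rfl⟩ := Nat.exists_eq_add_of_le h1.1
    refine ⟨2 ^ k, h1.2.2.trans ?_⟩
    rw [← zpow_natCast, Nat.cast_sub Nat.one_le_two_pow]
    congr 1; push_cast; ring

theorem pow_mem_lcs (h : NF2 a b m) (k : ℕ) : a ^ 2 ^ k ∈ (⊤ : Subgroup G).lowerCentralSeries k := by
  induction k with
  | zero => trivial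
  | succ k ih =>
    obtain ⟨t, ht⟩ := h.exists_conj
    have h1 := commutator_mem_commutator ih (mem_top b)
    rw [show ⁅a ^ 2 ^ k, b⁆ = a ^ 2 ^ k * (b * a ^ 2 ^ k * b⁻¹)⁻¹ by rw [commutatorElement_def]; group,
      ← conj_pow, ht, show a ^ 2 ^ k * ((a ^ (4 * t - 1)) ^ 2 ^ k)⁻¹ = (a ^ 2 ^ (k + 1)) ^ (1 - 2 * t) by
        rw [← zpow_natCast, ← zpow_natCast, ← zpow_natCast, ← zpow_mul, ← zpow_mul, ← zpow_neg, ← zpow_add]
        congr 1; push_cast; ring] at h1
    refine zpowers_le.2 h1 (mem_zpowers_zpow_iff.2 ?_)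
    haveI := Fact.mk Nat.prime_two
    obtain ⟨j, hj⟩ := (IsPGroup.of_card h.card).exists_orderOf_eq_pow (a ^ 2 ^ (k + 1))
    rw [hj, Nat.cast_pow, ← Int.isCoprime_iff_gcd_eq_one]
    exact IsCoprime.pow_right ⟨1, t, by push_cast; ring⟩

theorem pow_ne_one (h : NF2 a b m) : a ^ 2 ^ m ≠ 1 := fun h1 => by
  have := orderOf_dvd_of_pow_eq_one h1
  rw [h.ord, Nat.pow_dvd_pow_iff_le_right one_lt_two] at this
  omega

theorem nilpotencyClass (h : NF2 a b m) : Group.nilpotencyClass G = m + 2 - 1 := by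
  haveI := Fact.mk Nat.prime_two
  haveI := (IsPGroup.of_card h.card).isNilpotent
  refine le_antisymm (S0063.result 2 _ h.card (by omega)) (Nat.succ_le_of_lt (lt_of_not_ge fun h1 => h.pow_ne_one ?_))
  have := h.pow_mem_lcs m
  rwa [Subgroup.lowerCentralSeries_eq_bot_iff_nilpotencyClass_le.2 h1] at this

theorem card_center (h : NF2 a b m) : Nat.card (center G) = 2 :=
  haveI := Fact.mk Nat.prime_two
  card_center_of_maxClass h.card h.nilpotencyClass (by have := h.one_le; omega)

theorem center_eq (h : NF2 a b m) : center G = zpowers (a ^ 2 ^ m) := by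
  have h1 : orderOf (a ^ 2 ^ m) = 2 := by
    rw [orderOf_pow_of_dvd (by positivity) (h.ord ▸ pow_dvd_pow _ (Nat.le_succ m)), h.ord, pow_succ,
      Nat.mul_div_cancel_left _ (by positivity)]
  refine (Solv.eq_of_le_of_card_le (zpowers_le.2 ?_) (by rw [h.card_center, Nat.card_zpowers, h1])).symm
  obtain ⟨t, ht⟩ := h.exists_conj
  rw [← centralizer_univ, ← coe_top, ← h.sup, Comp.centralizer_sup, Solv.centralizer_zpowers,
    Solv.centralizer_zpowers]
  refine ⟨mem_centralizer_singleton.2 (Commute.self_pow a _), mem_centralizer_singleton.2 ?_⟩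
  rw [← mul_inv_eq_iff_eq_mul, ← conj_pow, ht, ← zpow_natCast, ← zpow_mul, ← zpow_natCast, zpow_eq_zpow_iff_modEq,
    h.ord]
  exact Int.modEq_iff_dvd.2 ⟨1 - 2 * t, by push_cast; ring⟩

theorem iso (h : NF2 a b m) : Nonempty (G ≃* DihedralGroup (2 ^ (m + 1))) ∨ Nonempty (G ≃* QuaternionGroup (2 ^ m)) ∨
    (2 ≤ m ∧ orderOf b = 2 ∧ b * a * b⁻¹ = a ^ (2 ^ m - 1)) := by
  rcases h.rel with h1 | h1 | h1
  · obtain ⟨e⟩ := nonempty_dihedral_of_gens h.notMem h.sup.symm h1.1 h1.2
    exact Or.inl ⟨h.ord ▸ topEquiv.symm.trans e⟩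
  · obtain ⟨e⟩ := nonempty_quaternion_of_gens h.ord h.notMem h.sup.symm h1.1 h1.2
    exact Or.inr (Or.inl ⟨topEquiv.symm.trans e⟩)
  · exact Or.inr (Or.inr ⟨h1.1, orderOf_eq_prime h1.2.1 fun h2 => h.notMem (h2 ▸ one_mem _), h1.2.2⟩)

end NF2

theorem nf2_of_commutator (hG : IsPGroup 2 G) (h4 : (_root_.commutator G).index = 4) (hna : ¬ IsMulCommutative G) :
    ∃ a b : G, ∃ m, NF2 a b m := by
  haveI := Fact.mk Nat.prime_two
  obtain ⟨c, hc⟩ := exists_index_two_of_commutator G hG h4
  obtain ⟨n, hn⟩ := hG.exists_card_eq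
  have h1 : 3 ≤ n := by
    by_contra h
    refine hna ⟨⟨fun x y => Solv.isMulCommutative_iff.1 (BG.comm_of_card_le (hG.to_subgroup ⊤) ?_) x trivial y trivial⟩⟩
    rw [card_top, hn]
    exact Nat.pow_le_pow_right two_pos (by omega)
  obtain ⟨a, b, h2, h3, h5⟩ := S0646.result n h1 hn _ inferInstance hc (by
    by_contra h; push Not at h; exact hna ⟨⟨h⟩⟩)
  obtain ⟨m, rfl⟩ : ∃ m, n = m + 2 := ⟨n - 2, by omega⟩
  refine ⟨a, b, m, by omega, h2, hn, h3, ?_⟩
  rcases h5 with h | h | h | h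
  · exact Or.inl h
  · exact Or.inr (Or.inl h)
  · exfalso
    have h6 : (zpowers a).index = 2 := Nat.eq_of_mul_eq_mul_right (pow_pos two_pos (m + 1)) (by
      rw [← pow_succ', ← hn, ← show orderOf a = 2 ^ (m + 1) from h2, ← Nat.card_zpowers, index_mul_card])
    have h7 := card_le_of_le (commutator_le_zpowers (a := a) inferInstance h6 bot_le (sup_bot_eq _).symm h3)
    have h8 : ⁅b, a⁆ ^ 2 = 1 := by
      rw [commutatorElement_def, h.2.2, pow_add, pow_one, (Commute.self_pow a _).eq, mul_inv_cancel_right, ← pow_mul, ← pow_succ]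
      exact h2 ▸ pow_orderOf_eq_one a
    have h9 := Nat.le_of_dvd two_pos (orderOf_dvd_of_pow_eq_one h8)
    have h10 := (_root_.commutator G).card_mul_index
    have h11 := Nat.pow_le_pow_right two_pos h.1
    rw [Nat.card_zpowers] at h7
    rw [h4, hn] at h10
    omega
  · exact Or.inr (Or.inr ⟨by omega, h.2⟩)

theorem nf2_of_maxClass {n : ℕ} (hG : Nat.card G = 2 ^ n) (hc : Group.nilpotencyClass G = n - 1) (hn : 3 ≤ n) :
    ∃ a b : G, NF2 a b (n - 2) := by
  haveI := Fact.mk Nat.prime_two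
  obtain ⟨a, b, m, h⟩ := nf2_of_commutator (IsPGroup.of_card hG) (index_commutator_of_maxClass hG hc hn)
    (not_comm_of_maxClass hG hc hn)
  have := Nat.pow_right_injective le_rfl (hG.symm.trans h.card)
  exact ⟨a, b, by rwa [show n - 2 = m by omega]⟩

end Cfsg.Agent.Solv
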