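import Cfsg.Agent.Lib.Solv.Frob3
import Mathlib.GroupTheory.SemidirectProduct
import Mathlib.NumberTheory.PrimesCongruentOne

/-! Frobenius complements from fixed-point-free actions (semidirect products). -/

namespace Cfsg.Agent.Solv
open Pointwise Subgroup

/-- A group acting fixed-point-freely on a nontrivial finite group is a Frobenius complement. -/
theorem exists_frob_of_fpf_action {H : Type*} [Group H] [Nontrivial H] {V : Type} [Group V] [Finite V]
    [Nontrivial V] (φ : H →* MulAut V) (hf : ∀ h : H, h ≠ 1 → ∀ v, φ h v = v → v = 1) :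
    ∃ (L : Type) (_ : Group L) (_ : Finite L) (C : Subgroup L), IsFrobeniusComplement C ∧
      Nonempty (H ≃* C) ∧ Nat.card (frobeniusKernel C) = Nat.card V := by
  have hinj : Function.Injective φ := by
    rw [injective_iff_map_eq_one]
    intro h hh
    by_contra h1
    obtain ⟨v, hv⟩ := exists_ne (1 : V)
    exact hv (hf h h1 v (by rw [hh]; rfl))
  let L := V ⋊[φ.range.subtype] φ.range
  haveI : Finite L := Finite.of_equiv _ (SemidirectProduct.equivProd (φ := φ.range.subtype)).symm
  let K : Subgroup L := (SemidirectProduct.inl : V →* L).range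
  let C : Subgroup L := (SemidirectProduct.inr : φ.range →* L).range
  haveI : K.Normal := by
    rw [show K = _ from SemidirectProduct.range_inl_eq_ker_rightHom]; infer_instance
  have hs : K ⊔ C = ⊤ := by
    rw [eq_top_iff]
    intro x _
    rw [← SemidirectProduct.inl_left_mul_inr_right x]
    exact mul_mem (mem_sup_left ⟨_, rfl⟩) (mem_sup_right ⟨_, rfl⟩)
  have hfp : ∀ c ∈ C, c ≠ 1 → K ⊓ centralizer {c} = ⊥ := by
    rintro _ ⟨⟨_, h, rfl⟩, rfl⟩ h1
    rw [fpf_iff]
    rintro _ ⟨v, rfl⟩ hc
    have h2 : h ≠ 1 := by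
      rintro rfl
      exact h1 (by rw [← map_one SemidirectProduct.inr]; congr 1; exact Subtype.ext (map_one φ))
    have : 1 * φ h v = v * (1 : MulAut V) 1 := congrArg SemidirectProduct.left hc
    rw [one_mul, map_one, mul_one] at this
    rw [hf h h2 v this, map_one]
  have e : H ≃* C := (MonoidHom.ofInjective hinj).trans
    (MonoidHom.ofInjective SemidirectProduct.inr_injective)
  have e' : V ≃* K := MonoidHom.ofInjective SemidirectProduct.inl_injective
  refine ⟨L, inferInstance, inferInstance, C, isFrobeniusComplement_of_fpf hs ?_ ?_ hfp, ⟨e⟩, ?_⟩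
  · rw [← nontrivial_iff_ne_bot]; exact e'.symm.nontrivial
  · rw [← nontrivial_iff_ne_bot]; exact e.symm.nontrivial
  · rw [frobeniusKernel_eq_of_normal hs hfp]; exact (Nat.card_congr e'.toEquiv).symm

theorem exists_frob_of_fpf_add {H : Type*} [Group H] [Nontrivial H] {V : Type} [AddCommGroup V]
    [Finite V] [Nontrivial V] (f : H → V → V) (h1 : ∀ v, f 1 v = v)
    (h2 : ∀ a b v, f (a * b) v = f a (f b v)) (h3 : ∀ a v w, f a (v + w) = f a v + f a w)
    (hf : ∀ h : H, h ≠ 1 → ∀ v, f h v = v → v = 0) :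
    ∃ (L : Type) (_ : Group L) (_ : Finite L) (C : Subgroup L), IsFrobeniusComplement C ∧
      Nonempty (H ≃* C) ∧ Nat.card (frobeniusKernel C) = Nat.card V := by
  let φ : H →* MulAut (Multiplicative V) := MonoidHom.mk' (fun a =>
    { toFun := fun v => Multiplicative.ofAdd (f a v.toAdd)
      invFun := fun v => Multiplicative.ofAdd (f a⁻¹ v.toAdd)
      left_inv := fun v => by simp [← h2, h1]
      right_inv := fun v => by simp [← h2, h1]
      map_mul' := fun v w => by simp [h3] }) fun a b => by ext v; simp [h2]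
  exact exists_frob_of_fpf_action (V := Multiplicative V) φ fun h hh v hv => hf h hh v.toAdd hv

/-- A prime field containing an element of prescribed order. -/
theorem exists_prime_orderOf (n : ℕ) (hn : n ≠ 0) (N : ℕ) :
    ∃ q : ℕ, q.Prime ∧ N < q ∧ ∃ ζ : (ZMod q)ˣ, orderOf ζ = n := by
  obtain ⟨q, hq, hN, h⟩ := Nat.exists_prime_gt_modEq_one N hn
  haveI := Fact.mk hq
  obtain ⟨g, hg⟩ := IsCyclic.exists_ofOrder_eq_natCard (α := (ZMod q)ˣ)
  rw [Nat.card_eq_fintype_card, ZMod.card_units] at hg
  have hd : n ∣ orderOf g := hg ▸ (Nat.modEq_iff_dvd' hq.one_le).1 h.symm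
  exact ⟨q, hq, hN, g ^ (orderOf g / n), orderOf_pow_orderOf_div (orderOf_pos g).ne' hd⟩

end Cfsg.Agent.Solv
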