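import Cfsg.Agent.Lib.Solv.FrobCount

/-! The number of conjugacy classes of `π`-elements. -/

namespace Cfsg.Agent.Solv
open Pointwise Subgroup Cfsg.Agent.Transfer

theorem cnt_pairs {α β : Type*} [Fintype α] [Finite β] (P : α → β → Prop) :
    Nat.card {z : α × β // P z.1 z.2} = ∑ x, Nat.card {y // P x y} := by
  rw [cnt_eq_sum_fiber _ Prod.fst]
  refine Finset.sum_congr rfl fun x _ => cnt_eq_of_bij Prod.snd ?_ ?_ fun y hy => ⟨(x, y), ⟨hy, rfl⟩, rfl⟩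
  · rintro z ⟨h, rfl⟩; exact h
  · exact fun z w hz hw h => Prod.ext (hz.2.trans hw.2.symm) h

theorem cnt_swap {α β : Type*} (P : α → β → Prop) :
    Nat.card {z : α × β // P z.1 z.2} = Nat.card {z : β × α // P z.2 z.1} :=
  cnt_eq_of_bij Prod.swap (fun _ h => h) (fun _ _ _ _ h => Prod.swap_injective h) fun y h => ⟨y.swap, h, rfl⟩

variable {G : Type*} [Group G] {π : Set ℕ}

/-- Number of classes of `π`-elements. -/
noncomputable def kPi (π : Set ℕ) (G : Type*) [Group G] : ℕ :=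
  Nat.card {C : ConjClasses G // ∀ q : ℕ, q.Prime → (∃ g : G, ConjClasses.mk g = C ∧ q ∣ orderOf g) → q ∈ π}

theorem card_pairs_class [Finite G] (K : Subgroup G) (a : G) :
    Nat.card {z : G × G // (∃ k ∈ K, k * a * k⁻¹ = z.1) ∧ z.2 ∈ K ∧ Commute z.1 z.2} = Nat.card K := by
  rw [← card_class_mul K a]
  refine cnt_eq_mul_of_fiber Prod.fst (fun _ h => h.1) ?_
  rintro _ ⟨k, hk, rfl⟩
  symm
  refine cnt_eq_of_bij (fun y => (k * a * k⁻¹, k * y * k⁻¹)) (fun y hy => ⟨⟨⟨k, hk, rfl⟩,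
    mul_mem (mul_mem hk hy.1) (inv_mem hk), (Commute.symm (mem_centralizer_singleton_iff.1 hy.2)).conj k⟩, rfl⟩)
    (fun _ _ _ _ h => by simpa using h) ?_
  rintro ⟨x, y⟩ ⟨⟨-, h1, h2⟩, rfl⟩
  refine ⟨k⁻¹ * y * k⁻¹⁻¹, mem_inf.2 ⟨mul_mem (mul_mem (inv_mem hk) h1) (inv_mem (inv_mem hk)),
    mem_centralizer_singleton_iff.2 (Commute.symm ?_)⟩, Prod.ext rfl (by simp [mul_assoc])⟩
  convert h2.conj k⁻¹ using 1; group

theorem kPi_mul [Finite G] (π : Set ℕ) :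
    kPi π G * Nat.card G = Nat.card {z : G × G // PiE π z.1 ∧ Commute z.1 z.2} := by
  symm
  refine cnt_eq_mul_of_fiber (fun z => ConjClasses.mk z.1) ?_ fun C hC => ?_
  · rintro z hz q hq ⟨g, h1, h2⟩
    exact hz.1 q hq (IsConj.orderOf_eq' (ConjClasses.mk_eq_mk_iff_isConj.1 h1) ▸ h2)
  · obtain ⟨a, rfl⟩ := ConjClasses.mk_surjective C
    rw [← card_top (G := G), ← card_pairs_class ⊤ a]
    refine cnt_congr fun z => ⟨fun h => ⟨?_, trivial, h.1.2⟩, fun ⟨⟨k, _, hk⟩, _, h⟩ => ⟨⟨?_, h⟩, ?_⟩⟩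
    · obtain ⟨k, hk⟩ := isConj_iff.1 (ConjClasses.mk_eq_mk_iff_isConj.1 h.2.symm)
      exact ⟨k, trivial, hk⟩
    · exact hk ▸ PiE.conj (fun q hq h => hC q hq ⟨a, rfl, h⟩) k
    · exact ConjClasses.mk_eq_mk_iff_isConj.2 (isConj_iff.2 ⟨k, hk⟩).symm

theorem kPi_mul_sub [Finite G] (π : Set ℕ) (K : Subgroup G) : kPi π K * Nat.card K =
    Nat.card {z : G × G // z.1 ∈ K ∧ PiE π z.1 ∧ z.2 ∈ K ∧ Commute z.1 z.2} := by
  rw [kPi_mul]
  refine cnt_eq_of_bij (fun z => ((z.1 : G), (z.2 : G))) (fun z hz => ⟨z.1.2, piE_coe.2 hz.1, z.2.2,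
    congrArg Subtype.val hz.2⟩) (fun z w _ _ h => Prod.ext (Subtype.ext (Prod.ext_iff.1 h).1)
      (Subtype.ext (Prod.ext_iff.1 h).2)) fun z hz =>
    ⟨(⟨z.1, hz.1⟩, ⟨z.2, hz.2.2.1⟩), ⟨piE_coe.1 hz.2.1, Subtype.ext hz.2.2.2⟩, rfl⟩

theorem commute_mul_iff {u v x : G} (hu : PiE π u) (hv : PiE πᶜ v) (hc : Commute u v) :
    Commute (u * v) x ↔ Commute u x ∧ Commute v x := by
  refine ⟨fun h => ?_, fun h => h.1.mul_left h.2⟩
  have := mem_of_mul_mem (K := centralizer {x}) hu hv hc (mem_centralizer_singleton_iff.2 h)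
  exact ⟨mem_centralizer_singleton_iff.1 this.1, mem_centralizer_singleton_iff.1 this.2⟩

theorem pairs_le_mul [Finite G] (s : Finset ℕ) : (∀ q ∈ s, q.Prime) → ∀ (K : Subgroup G) (m : ℕ), m ≠ 0 →
    (∀ q ∈ s, q ^ (Nat.card K).factorization q ∣ m) →
    Nat.card {z : G × G // z.1 ∈ K ∧ PiE s z.1 ∧ z.2 ∈ K ∧ Commute z.1 z.2} ≤ Nat.card K * m := by
  classical
  have := Fintype.ofFinite G
  induction s using Finset.induction_on with
  | empty =>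
    intro _ K m hm _
    refine le_trans (cnt_le_of_injOn Prod.snd (fun z hz => hz.2.2.1) fun z w hz hw h => Prod.ext ?_ h)
      (Nat.le_mul_of_pos_right _ (Nat.pos_of_ne_zero hm))
    rw [hz.2.1.eq_one (fun q _ _ => by simp), hw.2.1.eq_one (fun q _ _ => by simp)]
  | insert p s hps ih =>
    intro h K m hm h1
    have hp := h p (Finset.mem_insert_self _ _)
    haveI := Fact.mk hp
    obtain ⟨a, m, h2, rfl⟩ := Nat.exists_eq_pow_mul_and_not_dvd hm p hp.ne_one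
    obtain ⟨P, hP⟩ := exists_isSylowIn p K
    have h3 : Nat.card P ≤ p ^ a := Nat.le_of_dvd (pow_pos hp.pos _) (by
      rw [hP.card_eq]
      exact (((hp.coprime_iff_not_dvd).2 h2).pow_left _).dvd_of_dvd_mul_right (h1 p (Finset.mem_insert_self _ _)))
    have h4 : Nat.card {z : G × G // (z.1 ∈ K ∧ PiE {p} z.1) ∧ z.2 ∈ K ⊓ centralizer {z.1}} ≤
        Nat.card P * Nat.card K := by
      refine cnt_le_mul (q := (· ∈ P)) (fun z a => ∃ k ∈ K, k * a * k⁻¹ = z.1) (fun z hz => ?_) fun b _ => ?_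
      · obtain ⟨j, hj⟩ := (piE_singleton hp).1 hz.1.2
        obtain ⟨k, hk, h4⟩ := hP.exists_le_conj (isPGroup_zpowers_of_orderOf hj) (zpowers_le.2 hz.1.1)
        exact ⟨_, mem_conj_smul.1 (h4 (mem_zpowers _)), k, hk, by group⟩
      · rw [← card_pairs_class K b]
        exact cnt_mono fun z hz => ⟨hz.2, hz.1.2.1, Commute.symm (mem_centralizer_singleton_iff.1 hz.1.2.2)⟩
    rw [cnt_pairs (fun v y => (v ∈ K ∧ PiE {p} v) ∧ y ∈ K ⊓ centralizer {v})] at h4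
    rw [cnt_piPart₂ s (fun x y => x ∈ K ∧ PiE (insert p s : Finset ℕ) x ∧ y ∈ K ∧ Commute x y)]
    refine le_trans ?_ ((Nat.mul_le_mul_right m (h4.trans (Nat.mul_le_mul_right _ h3))).trans_eq (by ring))
    rw [Finset.sum_mul]
    refine Finset.sum_le_sum fun v _ => ?_
    by_cases hv : v ∈ K ∧ PiE {p} v
    · rw [cnt_congr (p := fun y => (v ∈ K ∧ PiE {p} v) ∧ y ∈ K ⊓ centralizer {v}) (q := (· ∈ K ⊓ centralizer {v}))
        fun y => and_iff_right hv]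
      refine le_trans (cnt_mono fun z hz => ?h1) (ih (fun q hq => h q (Finset.mem_insert_of_mem hq))
        (K ⊓ centralizer {v}) m (right_ne_zero_of_mul hm) fun q hq => ?h2)
      case h1 =>
        obtain ⟨a1, a2, a3, a4, _, a5, a6⟩ := hz
        have := (commute_mul_iff a1 a2 a3).1 a6
        exact ⟨mem_inf.2 ⟨(mem_of_mul_mem a1 a2 a3 a4).1, mem_centralizer_singleton_iff.2 a3⟩, a1,
          mem_inf.2 ⟨a5, mem_centralizer_singleton_iff.2 this.2.symm⟩, this.1⟩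
      case h2 =>
        have hq' := h q (Finset.mem_insert_of_mem hq)
        refine (((Nat.coprime_primes hq' hp).2 fun h5 => hps (h5 ▸ hq)).pow _ a).dvd_of_dvd_mul_left
          (Dvd.dvd.trans (pow_dvd_pow _ ?_) (h1 q (Finset.mem_insert_of_mem hq)))
        exact (Nat.factorization_le_iff_dvd Nat.card_pos.ne' Nat.card_pos.ne').2 (card_dvd_of_le inf_le_left) q
    · rw [cnt_eq_zero]
      · exact Nat.zero_le _
      rintro z ⟨a1, a2, a3, a4, a5, -⟩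
      refine hv ⟨(mem_of_mul_mem a1 a2 a3 a4).2, fun q hq h5 => ?_⟩
      have := a5.of_mem_zpowers (mem_zpowers_mul_of_coprime' a3 (a1.coprime a2)) q hq h5
      exact (Finset.mem_insert.1 this).resolve_right (a2 q hq h5)

open Classical in
theorem eq_of_sum_centralizer [Fintype G] (Q : Subgroup G → G → Prop) (hQ : ∀ K, Q K 1) (f g : Subgroup G → ℕ)
    (h : ∀ K, ∑ v, (if Q K v then f (K ⊓ centralizer {v}) else 0) =
      ∑ v, if Q K v then g (K ⊓ centralizer {v}) else 0) (K : Subgroup G) : f K = g K := by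
  induction K using Comp.subgroup_induction with
  | h K ih =>
  have key : ∀ F : Subgroup G → ℕ, ∑ v, (if Q K v then F (K ⊓ centralizer {v}) else 0) =
      Nat.card {v // Q K v ∧ K ≤ centralizer {v}} * F K +
        ∑ v, (if Q K v ∧ ¬ K ≤ centralizer {v} then F (K ⊓ centralizer {v}) else 0) := fun F => by
    rw [← sum_cnt_eq_mul (f := fun v => if Q K v ∧ K ≤ centralizer {v} then F K else 0)
      (fun v hv => if_pos hv) (fun v hv => if_neg hv), ← Finset.sum_add_distrib]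
    refine Finset.sum_congr rfl fun v _ => ?_
    by_cases h1 : Q K v <;> by_cases h2 : K ≤ centralizer {v} <;> simp [h1, h2, inf_eq_left.2]
  have h1 := h K
  rw [key, key, Finset.sum_congr rfl (g := fun v => if Q K v ∧ ¬ K ≤ centralizer {v} then g (K ⊓ centralizer {v}) else 0)
    fun v _ => by
      split_ifs with h2
      · exact ih _ (inf_lt_left.2 h2.2)
      · rfl] at h1
  exact Nat.eq_of_mul_eq_mul_left (cnt_pos (x := 1) ⟨hQ K, fun x _ => by simp [mem_centralizer_singleton_iff]⟩)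
    (Nat.add_right_cancel h1)

theorem cnt_coset_pairs [Finite G] (N : Subgroup G) [N.Normal] {b : G ⧸ N} (hb : PiE π b) (K : Subgroup G) :
    Nat.card {z : G × G // z.1 ∈ K ∧ (z.1 : G ⧸ N) = b ∧ PiE π z.1 ∧ z.2 ∈ K ∧ z.2 ∈ N ∧ Commute z.1 z.2} =
    Nat.card {z : G × G // z.1 ∈ K ∧ z.1 ∈ N ∧ PiE π z.1 ∧ z.2 ∈ K ∧ (z.2 : G ⧸ N) = b ∧ Commute z.1 z.2} := by
  classical
  have := Fintype.ofFinite G
  refine eq_of_sum_centralizer (fun K v => v ∈ K ∧ v ∈ N ∧ PiE πᶜ v) (fun K => ⟨one_mem _, one_mem _, piE_one⟩)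
    (fun K => Nat.card {z : G × G // z.1 ∈ K ∧ (z.1 : G ⧸ N) = b ∧ PiE π z.1 ∧ z.2 ∈ K ∧ z.2 ∈ N ∧ Commute z.1 z.2})
    (fun K => Nat.card {z : G × G // z.1 ∈ K ∧ z.1 ∈ N ∧ PiE π z.1 ∧ z.2 ∈ K ∧ (z.2 : G ⧸ N) = b ∧ Commute z.1 z.2})
    (fun K => ?_) K
  have h1 := cnt_piPart₂ π (fun x y : G => x ∈ K ∧ (x : G ⧸ N) = b ∧ y ∈ K ∧ y ∈ N ∧ Commute x y)
  have h2 := cnt_piPart₂ π (fun x y : G => x ∈ K ∧ x ∈ N ∧ y ∈ K ∧ (y : G ⧸ N) = b ∧ Commute x y)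
  have h3 := cnt_swap (fun x y : G => x ∈ K ∧ (x : G ⧸ N) = b ∧ y ∈ K ∧ y ∈ N ∧ Commute x y)
  rw [h1, cnt_congr (q := fun z : G × G => z.1 ∈ K ∧ z.1 ∈ N ∧ z.2 ∈ K ∧ (z.2 : G ⧸ N) = b ∧ Commute z.1 z.2)
    (fun z => ⟨fun ⟨a, b, c, d, e⟩ => ⟨c, d, a, b, e.symm⟩, fun ⟨a, b, c, d, e⟩ => ⟨c, d, a, b, e.symm⟩⟩), h2] at h3
  have h4 : ∀ u v : G, PiE π u → PiE πᶜ v → Commute u v → ((u * v : G) : G ⧸ N) = b → (u : G ⧸ N) = b ∧ v ∈ N :=
    fun u v a1 a2 a3 a4 => by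
      have := piPart_unique (a1.map (QuotientGroup.mk' N)) (a2.map (QuotientGroup.mk' N)) (a3.map _) hb piE_one
        (Commute.one_right _) (by rw [← map_mul, mul_one]; exact a4)
      exact ⟨this.1, (QuotientGroup.eq_one_iff _).1 this.2⟩
  convert h3 using 2 with v _ v _
  · split_ifs with hv
    · refine cnt_congr fun z => ⟨fun ⟨a1, a2, a3, a4, a5, a6⟩ => ?_, fun ⟨a1, a2, a3, a4, a5, a6, a7, a8⟩ => ?_⟩
      · have a7 : Commute z.1 v := mem_centralizer_singleton_iff.1 a1.2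
        exact ⟨a3, hv.2.2, a7, mul_mem a1.1 hv.1, by
          rw [QuotientGroup.mk_mul, a2, (QuotientGroup.eq_one_iff _).2 hv.2.1, mul_one], a4.1, a5,
          a6.mul_left (Commute.symm (mem_centralizer_singleton_iff.1 a4.2))⟩
      · have := (commute_mul_iff a1 a2 a3).1 a8
        exact ⟨mem_inf.2 ⟨(mem_of_mul_mem a1 a2 a3 a4).1, mem_centralizer_singleton_iff.2 a3⟩,
          (h4 _ _ a1 a2 a3 a5).1, a1, mem_inf.2 ⟨a6, mem_centralizer_singleton_iff.2 this.2.symm⟩, a7, this.1⟩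
    · exact (cnt_eq_zero fun z ⟨a1, a2, a3, a4, a5, _⟩ =>
        hv ⟨(mem_of_mul_mem a1 a2 a3 a4).2, (h4 _ _ a1 a2 a3 a5).2, a2⟩).symm
  · split_ifs with hv
    · refine cnt_congr fun z => ⟨fun ⟨a1, a2, a3, a4, a5, a6⟩ => ?_, fun ⟨a1, a2, a3, a4, a5, a6, a7, a8⟩ => ?_⟩
      · have a7 : Commute z.1 v := mem_centralizer_singleton_iff.1 a1.2
        exact ⟨a3, hv.2.2, a7, mul_mem a1.1 hv.1, mul_mem a2 hv.2.1, a4.1, a5,
          a6.mul_left (Commute.symm (mem_centralizer_singleton_iff.1 a4.2))⟩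
      · have := (commute_mul_iff a1 a2 a3).1 a8
        exact ⟨mem_inf.2 ⟨(mem_of_mul_mem a1 a2 a3 a4).1, mem_centralizer_singleton_iff.2 a3⟩,
          (mem_of_mul_mem a1 a2 a3 a5).1, a1, mem_inf.2 ⟨a6, mem_centralizer_singleton_iff.2 this.2.symm⟩, a7, this.1⟩
    · exact (cnt_eq_zero fun z ⟨a1, a2, a3, a4, a5, _⟩ =>
        hv ⟨(mem_of_mul_mem a1 a2 a3 a4).2, (mem_of_mul_mem a1 a2 a3 a5).2, a2⟩).symm

theorem cnt_coset_le [Finite G] (N C : Subgroup G) [N.Normal] (b : G ⧸ N) :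
    Nat.card {y : G // (y : G ⧸ N) = b ∧ y ∈ C} ≤ Nat.card {y : G // y ∈ N ∧ y ∈ C} := by
  by_cases h : ∃ y : G, (y : G ⧸ N) = b ∧ y ∈ C
  · obtain ⟨a, rfl, ha⟩ := h
    exact cnt_le_of_injOn (fun y => y⁻¹ * a) (fun y hy => ⟨QuotientGroup.eq.1 hy.1, mul_mem (inv_mem hy.2) ha⟩)
      fun _ _ _ _ h => by simpa using h
  · rw [cnt_eq_zero fun y hy => h ⟨y, hy⟩]; exact Nat.zero_le _

theorem kPi_le_mul [Finite G] (π : Set ℕ) (N : Subgroup G) [N.Normal] : kPi π G ≤ kPi π N * kPi π (G ⧸ N) := by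
  classical
  have := Fintype.ofFinite G
  have := Fintype.ofFinite (G ⧸ N)
  refine Nat.le_of_mul_le_mul_right ?_ (Nat.card_pos (α := G))
  conv_rhs => rw [card_eq_card_quotient_mul_card_subgroup N, mul_comm (Nat.card (G ⧸ N)), mul_mul_mul_comm,
    kPi_mul_sub, kPi_mul, cnt_pairs (fun x y : G ⧸ N => PiE π x ∧ Commute x y), Finset.mul_sum]
  rw [kPi_mul, cnt_eq_sum_fiber _ (fun z : G × G => (z.1 : G ⧸ N))]
  refine Finset.sum_le_sum fun b _ => ?_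
  by_cases hb : PiE π b
  swap
  · rw [cnt_eq_zero]
    · exact Nat.zero_le _
    · exact fun z hz => hb (hz.2 ▸ hz.1.1.map (QuotientGroup.mk' N))
  refine le_trans ?_ (Nat.mul_le_mul_right _ (le_trans (cnt_coset_pairs N hb ⊤).le ?_))
  · rw [cnt_pairs (fun x y : G => (PiE π x ∧ Commute x y) ∧ (x : G ⧸ N) = b),
      cnt_pairs (fun x y : G => x ∈ ⊤ ∧ (x : G ⧸ N) = b ∧ PiE π x ∧ y ∈ ⊤ ∧ y ∈ N ∧ Commute x y), Finset.sum_mul]
    refine Finset.sum_le_sum fun x _ => ?_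
    by_cases hx : PiE π x ∧ (x : G ⧸ N) = b
    swap
    · rw [cnt_eq_zero fun y hy => hx ⟨hy.1.1, hy.2⟩]; exact Nat.zero_le _
    rw [mul_comm]
    refine cnt_le_mul (fun (y : G) c => (y : G ⧸ N) = c) (fun y hy => ⟨y, ⟨hb, hx.2 ▸ hy.1.2.map (QuotientGroup.mk' N)⟩, rfl⟩)
      fun c _ => ?_
    exact (cnt_mono fun y hy => ⟨hy.2, mem_centralizer_singleton_iff.2 hy.1.1.2.symm⟩).trans
      ((cnt_coset_le N (centralizer {x}) c).trans (cnt_mono fun y hy => ⟨trivial, hx.2, hx.1, trivial, hy.1,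
        Commute.symm (mem_centralizer_singleton_iff.1 hy.2)⟩))
  · rw [cnt_pairs (fun x y : G => x ∈ ⊤ ∧ x ∈ N ∧ PiE π x ∧ y ∈ ⊤ ∧ (y : G ⧸ N) = b ∧ Commute x y),
      cnt_pairs (fun x y : G => x ∈ N ∧ PiE π x ∧ y ∈ N ∧ Commute x y)]
    refine Finset.sum_le_sum fun x _ => ?_
    by_cases hx : x ∈ N ∧ PiE π x
    swap
    · rw [cnt_eq_zero fun y hy => hx ⟨hy.2.1, hy.2.2.1⟩]; exact Nat.zero_le _
    exact (cnt_mono fun y hy => ⟨hy.2.2.2.2.1, mem_centralizer_singleton_iff.2 hy.2.2.2.2.2.symm⟩).trans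
      ((cnt_coset_le N (centralizer {x}) b).trans (cnt_mono fun y hy => ⟨hx.1, hx.2, hy.1,
        Commute.symm (mem_centralizer_singleton_iff.1 hy.2)⟩))

end Cfsg.Agent.Solv
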