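import Cfsg.Agent.Lib.Solv.KPi
import Cfsg.Agent.Lib.Solv.PGrp
import Cfsg.Agent.Lib.Solv.Gen
import Mathlib.Algebra.Pointwise.Stabilizer
import Mathlib.Algebra.BigOperators.ModEq

/-! Counting subgroups of prime power order modulo `p` and `p ^ 2` (Wielandt's method). -/

namespace Cfsg.Agent.Solv
open Pointwise Subgroup Cfsg.Agent.Transfer MulAction

theorem card_subsets (α : Type*) [Finite α] (k : ℕ) :
    Nat.card {S : Set α // Nat.card S = k} = (Nat.card α).choose k := by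
  have := Set.ncard_powerset_ncard (Set.toFinite (Set.univ : Set α)) k
  rw [Set.ncard_univ] at this
  rw [← this, ← Nat.card_coe_set_eq]
  exact cnt_congr fun S => by simp [Nat.card_coe_set_eq]

variable {G : Type*} [Group G] [Finite G]

theorem card_inv_subsets (H : Subgroup G) (k : ℕ) :
    Nat.card {S : Set G // Nat.card S = k * Nat.card H ∧ H ≤ stabilizer G S} = H.index.choose k := by
  rw [index, ← card_subsets]
  symm
  let φ : G → G ⧸ H := fun x => ((x⁻¹ : G) : G ⧸ H)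
  have h1 : Function.Surjective φ := fun y => by
    obtain ⟨y, rfl⟩ := QuotientGroup.mk_surjective y
    exact ⟨y⁻¹, by simp [φ]⟩
  have h2 : ∀ x y, φ x = φ y ↔ x * y⁻¹ ∈ H := fun x y => by simp [φ, QuotientGroup.eq]
  have h3 : ∀ T : Set (G ⧸ H), Nat.card (φ ⁻¹' T) = Nat.card T * Nat.card H := fun T => by
    refine cnt_eq_mul_of_fiber (p := (· ∈ φ ⁻¹' T)) (q := (· ∈ T)) φ (fun _ h => h) fun b hb => ?_
    obtain ⟨b, rfl⟩ := h1 b
    exact cnt_eq_of_bij (fun x => x * b⁻¹) (fun x hx => (h2 _ _).1 hx.2) (fun _ _ _ _ h => by simpa using h)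
      fun y hy => by
        have : φ (y * b) = φ b := (h2 _ _).2 (by simpa using hy)
        exact ⟨y * b, ⟨show φ _ ∈ T from this ▸ hb, this⟩, by simp⟩
  refine cnt_eq_of_bij (fun T => φ ⁻¹' T) (fun T hT => ⟨by rw [h3, hT], fun h hh => mem_stabilizer_set.2 fun b => ?_⟩)
    (fun _ _ _ _ h => h1.preimage_injective h) fun S hS => ?_
  · rw [Set.mem_preimage, Set.mem_preimage, (h2 (h • b) b).2 (by simpa using hh)]
  · have h4 : φ ⁻¹' (φ '' S) = S := by
      refine Set.Subset.antisymm ?_ (Set.subset_preimage_image _ _)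
      rintro x ⟨y, hy, h4⟩
      have := (mem_stabilizer_set.1 (hS.2 ((h2 _ _).1 h4.symm)) y).2 hy
      simpa using this
    exact ⟨φ '' S, Nat.eq_of_mul_eq_mul_right Nat.card_pos (by rw [← h3, h4, hS.1]), h4⟩

theorem card_stabilizer_dvd (S : Set G) : Nat.card (stabilizer G S) ∣ Nat.card S :=
  card_dvd_cnt_of_mul (Q := (· ∈ S)) _ fun _ ha x hx => (mem_stabilizer_set.1 ha x).2 hx

theorem dvd_cnt_stab {p a m : ℕ} (hp : p.Prime) (hG : Nat.card G = p ^ a * m) (i : ℕ) (Q : ℕ → Prop)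
    (hQ : ∀ j ≤ a, Q (p ^ j) → j + i ≤ a) :
    p ^ i * m ∣ Nat.card {S : Set G // Nat.card S = p ^ a ∧ Q (Nat.card (stabilizer G S))} := by
  refine dvd_cnt_of_action (⊤ : Subgroup G) (fun g _ S hS => ⟨?_, ?_⟩) fun S hS => ?_
  · rw [Nat.card_coe_set_eq, Set.ncard_smul_set, ← Nat.card_coe_set_eq, hS.1]
  · rw [stabilizer_smul_eq_stabilizer_map_conj, Comp.card_cj]; exact hS.2
  · obtain ⟨j, hj, h1⟩ := (Nat.dvd_prime_pow hp).1 (hS.1 ▸ card_stabilizer_dvd S)
    have h2 := hQ j hj (h1 ▸ hS.2)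
    refine Nat.dvd_of_mul_dvd_mul_left (pow_pos hp.pos j) ?_
    rw [relIndex_top_right, ← h1, card_mul_index, hG, h1, ← mul_assoc, ← pow_add]
    exact Nat.mul_dvd_mul_right (pow_dvd_pow _ h2) _

theorem card_stab_fiber {n m : ℕ} (hG : Nat.card G = n * m) {K : Subgroup G} (hK : Nat.card K = n) :
    Nat.card {S : Set G // Nat.card S = n ∧ stabilizer G S = K} = m := by
  have h0 : 0 < n := hK ▸ Nat.card_pos
  have h1 : K.index = m := Nat.eq_of_mul_eq_mul_left h0 (by rw [← hG, ← hK, card_mul_index])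
  rw [← h1, ← Nat.choose_one_right K.index, ← card_inv_subsets, one_mul, hK]
  exact cnt_congr fun S => ⟨fun h => ⟨h.1, h.2.ge⟩, fun h => ⟨h.1, (Solv.eq_of_le_of_card_le h.2
    (Nat.le_of_dvd Nat.card_pos (by rw [hK, ← h.1]; exact card_stabilizer_dvd S))).symm⟩⟩

theorem card_stab_full {n m : ℕ} (hG : Nat.card G = n * m) :
    Nat.card {S : Set G // Nat.card S = n ∧ Nat.card (stabilizer G S) = n} =
      Nat.card {K : Subgroup G // Nat.card K = n} * m := by
  refine cnt_eq_mul_of_fiber (fun S => stabilizer G S) (fun _ h => h.2) fun K hK => ?_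
  rw [← card_stab_fiber hG hK]
  exact cnt_congr fun S => ⟨fun h => ⟨h.1.1, h.2⟩, fun h => ⟨⟨h.1, h.2 ▸ hK⟩, h.2⟩⟩

theorem choose_modEq_card_subgroups {p a m : ℕ} (hp : p.Prime) (hG : Nat.card G = p ^ a * m) :
    (p ^ a * m).choose (p ^ a) ≡ Nat.card {K : Subgroup G // Nat.card K = p ^ a} * m [MOD p * m] := by
  rw [← hG, ← card_subsets, cnt_split _ (fun S => Nat.card (stabilizer G S) = p ^ a), card_stab_full hG]
  refine ((Nat.modEq_iff_dvd' (Nat.le_add_right _ _)).2 ?_).symm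
  rw [Nat.add_sub_cancel_left]
  simpa using dvd_cnt_stab hp hG 1 (fun k => ¬ k = p ^ a) fun j hj h => lt_of_le_of_ne hj fun h1 => h (h1 ▸ rfl)

theorem card_subgroups_of_isCyclic {K : Subgroup G} (hK : IsCyclic K) {d : ℕ} (hd : d ∣ Nat.card K) :
    Nat.card {H : Subgroup G // Nat.card H = d ∧ H ≤ K} = 1 := by
  obtain ⟨a, ha, h1⟩ := isCyclic_iff_exists_le_zpowers.1 hK
  obtain rfl : K = zpowers a := le_antisymm h1 (zpowers_le.2 ha)
  rw [Nat.card_zpowers] at hd
  have h2 : Nat.card (zpowers (a ^ (orderOf a / d))) = d := by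
    rw [Nat.card_zpowers, orderOf_pow_orderOf_div (orderOf_pos a).ne' hd]
  have h3 : zpowers (a ^ (orderOf a / d)) ≤ zpowers a := zpowers_le.2 (pow_mem ha _)
  rw [← cnt_eq_one (zpowers (a ^ (orderOf a / d)))]
  exact cnt_congr fun H => ⟨fun h => eq_of_isCyclic_of_card_eq hK h.2 h3 (h.1.trans h2.symm), fun h => h ▸ ⟨h2, h3⟩⟩

theorem card_subgroups_of_isCyclic' [hG : IsCyclic G] {d : ℕ} (hd : d ∣ Nat.card G) :
    Nat.card {H : Subgroup G // Nat.card H = d} = 1 := by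
  rw [← card_subgroups_of_isCyclic (isCyclic_top_iff.2 hG) (d := d) (by rwa [card_top])]
  exact cnt_congr fun H => by simp

theorem choose_modEq_self {p a m : ℕ} (hp : p.Prime) (hm : m ≠ 0) :
    (p ^ a * m).choose (p ^ a) ≡ m [MOD p * m] := by
  haveI : NeZero (p ^ a * m) := ⟨mul_ne_zero (pow_ne_zero _ hp.ne_zero) hm⟩
  have h : Nat.card (Multiplicative (ZMod (p ^ a * m))) = p ^ a * m := by simp
  have := choose_modEq_card_subgroups hp h
  rwa [card_subgroups_of_isCyclic' (by rw [h]; exact dvd_mul_right _ _), one_mul] at this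

/-- Frobenius: the number of subgroups of order `p ^ a` is `1` modulo `p`. -/
theorem card_subgroups_modEq_one {p a : ℕ} (hp : p.Prime) (hG : p ^ a ∣ Nat.card G) :
    Nat.card {K : Subgroup G // Nat.card K = p ^ a} ≡ 1 [MOD p] := by
  obtain ⟨m, hm⟩ := hG
  have h0 : m ≠ 0 := by rintro rfl; exact Nat.card_pos.ne' (hm.trans (mul_zero _))
  refine Nat.ModEq.mul_right_cancel' h0 ?_
  rw [one_mul]
  exact (choose_modEq_card_subgroups hp hm).symm.trans (choose_modEq_self hp h0)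

theorem cnt_subgroup_sub (K : Subgroup G) (Q : Subgroup G → Prop) :
    Nat.card {H : Subgroup K // Q (H.map K.subtype)} = Nat.card {H : Subgroup G // Q H ∧ H ≤ K} :=
  cnt_eq_of_bij (fun H => H.map K.subtype) (fun _ h => ⟨h, map_subtype_le _⟩)
    (fun _ _ _ _ h => map_injective K.subtype_injective h) fun H h =>
      ⟨H.subgroupOf K, by rw [subgroupOf_map_subtype_of_le h.2]; exact h.1, subgroupOf_map_subtype_of_le h.2⟩

theorem card_subgroups_sub (K : Subgroup G) (d : ℕ) :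
    Nat.card {H : Subgroup K // Nat.card H = d} = Nat.card {H : Subgroup G // Nat.card H = d ∧ H ≤ K} := by
  rw [← cnt_subgroup_sub K (fun H => Nat.card H = d)]
  exact cnt_congr fun H => by rw [Comp.card_map_subtype]

theorem card_index_prime {p s : ℕ} [hp : Fact p.Prime] (hG : Nat.card G = p ^ (s + 1)) :
    ∃ d, Nat.card {H : Subgroup G // Nat.card H = p ^ s} * (p - 1) + 1 = p ^ d := by
  let C := Multiplicative (ZMod p)
  have hC : Nat.card C = p := by simp [C]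
  haveI : Finite (G →* C) := Finite.of_injective _ DFunLike.coe_injective
  have hG' := IsPGroup.of_card hG
  have h1 : IsPGroup p (G →* C) := fun f => ⟨1, MonoidHom.ext fun x => by
    rw [pow_one, MonoidHom.pow_apply]
    exact orderOf_dvd_iff_pow_eq_one.1 ((_root_.orderOf_dvd_natCard _).trans (dvd_of_eq hC))⟩
  obtain ⟨d, hd⟩ := h1.exists_card_eq
  refine ⟨d, ?_⟩
  rw [← hd, ← cnt_true (α := G →* C), ← cnt_erase (p := fun _ : G →* C => True) (a := 1) trivial]
  congr 1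
  symm
  have h2 : ∀ H : Subgroup G, Nat.card H = p ^ s ↔ H.index = p := fun H => by
    have := H.card_mul_index
    rw [hG, pow_succ] at this
    exact ⟨fun h => Nat.eq_of_mul_eq_mul_left (pow_pos hp.out.pos s) (h ▸ this),
      fun h => Nat.eq_of_mul_eq_mul_right hp.out.pos (h ▸ this)⟩
  refine cnt_eq_mul_of_fiber MonoidHom.ker (fun f hf => (h2 _).2 ?_) fun M hM => ?_
  · rw [index_ker]
    refine ((Nat.dvd_prime hp.out).1 ((card_subgroup_dvd_card _).trans (dvd_of_eq hC))).resolve_left fun h => hf.2 ?_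
    exact MonoidHom.range_eq_bot_iff.1 (eq_bot_of_card_eq _ h)
  · have h3 := (h2 _).1 hM
    have h4 := isCoatom_of_index_prime (h3 ▸ hp.out)
    haveI := hG'.isNilpotent
    haveI := coatom_normal_of_nilpotent h4
    obtain ⟨x, -, hx⟩ := SetLike.exists_of_lt h4.lt_top
    have h5 : M ⊔ zpowers x = ⊤ := h4.2 _ (lt_of_le_of_ne le_sup_left fun h => hx (h ▸ mem_sup_right (mem_zpowers x)))
    let e : G ⧸ M ≃* C := mulEquivOfPrimeCardEq h3 hC
    let f₀ : G →* C := e.toMonoidHom.comp (QuotientGroup.mk' M)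
    have h6 : ∀ y, f₀ y = 1 ↔ y ∈ M := fun y => by simp [f₀]
    have h7 := cnt_erase (p := fun _ : C => True) (a := 1) trivial
    rw [cnt_true, hC] at h7
    refine Eq.trans ?_ (Nat.eq_sub_of_add_eq h7)
    refine cnt_eq_of_bij (fun f => f x) (fun f hf => ⟨trivial, fun h => hx (hf.2 ▸ h)⟩) (fun f g hf hg h => ?_)
      fun c hc => ?_
    · refine MonoidHom.eq_of_eqOn_top fun y hy => ?_
      refine (show (⊤ : Subgroup G) ≤ f.eqLocus g from h5 ▸ sup_le (fun y hy => ?_) (zpowers_le.2 h)) hy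
      exact (show f y = 1 from hf.2.ge hy).trans (show g y = 1 from hg.2.ge hy).symm
    · obtain ⟨k, hk⟩ : ∃ k : ℕ, f₀ x ^ k = c :=
        mem_powers_iff_mem_zpowers.2 (mem_zpowers_of_prime_card hC (fun h => hx ((h6 x).1 h)) (g' := c))
      have h8 : (f₀ ^ k) x ≠ 1 := by rw [MonoidHom.pow_apply, hk]; exact hc.2
      refine ⟨f₀ ^ k, ⟨⟨trivial, fun h => h8 (h ▸ rfl)⟩, (h4.le_iff.1 fun y hy => ?_).resolve_left fun h =>
        h8 (show x ∈ (f₀ ^ k).ker from h ▸ trivial)⟩, hk⟩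
      rw [MonoidHom.mem_ker, MonoidHom.pow_apply, (h6 y).2 hy, one_pow]

theorem card_index_prime_modEq {p s : ℕ} [hp : Fact p.Prime] (hG : Nat.card G = p ^ (s + 1)) (hc : ¬ IsCyclic G) :
    Nat.card {H : Subgroup G // Nat.card H = p ^ s} ≡ 1 + p [MOD p ^ 2] := by
  obtain ⟨d, hd⟩ := card_index_prime hG
  have hG' := IsPGroup.of_card hG
  have h2 : ∀ M : Subgroup G, IsCoatom M → Nat.card M = p ^ s := fun M hM => by
    have := M.card_mul_index
    rw [hG, pow_succ, index_eq_of_coatom_of_isPGroup hG' hM] at this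
    exact Nat.eq_of_mul_eq_mul_right hp.out.pos this
  have h3 : 2 ≤ Nat.card {H : Subgroup G // Nat.card H = p ^ s} := by
    obtain ⟨M, hM, -⟩ := exists_coatom_ge (H := (⊥ : Subgroup G)) fun h => hc
      (isCyclic_top_iff.1 (h ▸ isCyclic_bot'))
    obtain ⟨x, -, hx⟩ := SetLike.exists_of_lt hM.lt_top
    obtain ⟨M', hM', h3⟩ := exists_coatom_ge (H := zpowers x) fun h => hc
      (isCyclic_top_iff.1 (h ▸ inferInstance))
    rw [← cnt_eq_two (p := fun H => H = M ∨ H = M') (a := M) (b := M') (fun h => hx (h ▸ h3 (mem_zpowers x)))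
      fun _ => Iff.rfl]
    exact cnt_mono fun H h => h.elim (· ▸ h2 M hM) (· ▸ h2 M' hM')
  set b := Nat.card {H : Subgroup G // Nat.card H = p ^ s}
  obtain ⟨q, rfl⟩ : ∃ q, p = q + 1 := ⟨p - 1, (Nat.sub_add_cancel hp.out.pos).symm⟩
  have hq : 1 ≤ q := Nat.le_of_lt_succ hp.out.one_lt
  rw [Nat.add_sub_cancel] at hd
  have h4 : 2 ≤ d := by
    by_contra h
    obtain rfl | rfl : d = 0 ∨ d = 1 := by omega
    all_goals simp only [pow_zero, pow_one] at hd; nlinarith
  obtain ⟨d, rfl⟩ := Nat.exists_eq_add_of_le h4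
  refine (Nat.modEq_iff_dvd.2 ⟨(b : ℤ) - (1 + (q + 1)) * (q + 1) ^ d, ?_⟩).symm
  have : ((b * q + 1 : ℕ) : ℤ) = ((q + 1) ^ (2 + d) : ℕ) := by rw [hd]
  push_cast at this ⊢
  linear_combination (-(1 + (q + 1 : ℤ))) * this

theorem wielandt_sq {p s m : ℕ} [hp : Fact p.Prime] (hG : Nat.card G = p ^ (s + 1) * m) :
    (p ^ (s + 1) * m).choose (p ^ (s + 1)) +
      p * Nat.card {K : Subgroup G // Nat.card K = p ^ (s + 1) ∧ ¬ IsCyclic K} * m ≡
      Nat.card {H : Subgroup G // Nat.card H = p ^ s} * (p * m).choose p [MOD p ^ 2 * m] := by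
  classical
  have := Fintype.ofFinite (Subgroup G)
  have hne : p ^ s ≠ p ^ (s + 1) := (Nat.pow_lt_pow_right hp.out.one_lt (Nat.lt_succ_self s)).ne
  have h1 : Nat.card {z : Subgroup G × Set G // Nat.card z.1 = p ^ s ∧ Nat.card z.2 = p ^ (s + 1) ∧
      z.1 ≤ stabilizer G z.2} = Nat.card {H : Subgroup G // Nat.card H = p ^ s} * (p * m).choose p := by
    rw [cnt_pairs (fun (H : Subgroup G) (S : Set G) => Nat.card H = p ^ s ∧ Nat.card S = p ^ (s + 1) ∧ H ≤ stabilizer G S)]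
    refine sum_cnt_eq_mul (fun H hH => ?_) fun H hH => cnt_eq_zero fun S hS => hH hS.1
    have h1 : H.index = p * m := Nat.eq_of_mul_eq_mul_left (pow_pos hp.out.pos s) (by
      rw [← mul_assoc, ← pow_succ, ← hG, ← hH, card_mul_index])
    rw [← h1, ← card_inv_subsets, hH, ← pow_succ']
    exact cnt_congr fun S => and_iff_right rfl
  have h2 : Nat.card {z : Subgroup G × Set G // (Nat.card z.1 = p ^ s ∧ Nat.card z.2 = p ^ (s + 1) ∧
      z.1 ≤ stabilizer G z.2) ∧ Nat.card (stabilizer G z.2) = p ^ (s + 1)} =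
      Nat.card {z : Subgroup G × Subgroup G // Nat.card z.1 = p ^ (s + 1) ∧ Nat.card z.2 = p ^ s ∧ z.2 ≤ z.1} * m := by
    refine cnt_eq_mul_of_fiber (fun z : Subgroup G × Set G => (stabilizer G z.2, z.1))
      (fun z hz => ⟨hz.2, hz.1.1, hz.1.2.2⟩) fun z hz => ?_
    rw [← card_stab_fiber hG hz.1]
    refine cnt_eq_of_bij Prod.snd (fun w hw => ⟨hw.1.1.2.1, congrArg Prod.fst hw.2⟩) (fun w w' hw hw' h =>
      Prod.ext ((congrArg Prod.snd hw.2).trans (congrArg Prod.snd hw'.2).symm) h) fun S hS => ?_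
    refine ⟨(z.2, S), ⟨⟨⟨hz.2.1, hS.1, ?_⟩, ?_⟩, Prod.ext hS.2 rfl⟩, rfl⟩
    · exact hz.2.2.trans hS.2.ge
    · simp only [hS.2, hz.1]
  have h3 : Nat.card {z : Subgroup G × Set G // (Nat.card z.1 = p ^ s ∧ Nat.card z.2 = p ^ (s + 1) ∧
      z.1 ≤ stabilizer G z.2) ∧ ¬ Nat.card (stabilizer G z.2) = p ^ (s + 1)} =
      Nat.card {S : Set G // (Nat.card S = p ^ (s + 1) ∧ ¬ Nat.card (stabilizer G S) = p ^ (s + 1)) ∧
        Nat.card (stabilizer G S) = p ^ s} := by
    have key : ∀ z : Subgroup G × Set G, (Nat.card z.1 = p ^ s ∧ Nat.card z.2 = p ^ (s + 1) ∧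
      z.1 ≤ stabilizer G z.2) ∧ ¬ Nat.card (stabilizer G z.2) = p ^ (s + 1) → z.1 = stabilizer G z.2 := by
      rintro z ⟨⟨a1, a2, a3⟩, a4⟩
      obtain ⟨j, hj, h1⟩ := (Nat.dvd_prime_pow hp.out).1 (a2 ▸ card_stabilizer_dvd z.2)
      refine Solv.eq_of_le_of_card_le a3 ?_
      rw [a1, h1]
      exact Nat.pow_le_pow_right hp.out.pos (Nat.le_of_lt_succ (lt_of_le_of_ne hj fun h => a4 (by rw [h1, h])))
    exact cnt_eq_of_bij Prod.snd (fun z hz => ⟨⟨hz.1.2.1, hz.2⟩, key z hz ▸ hz.1.1⟩)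
      (fun z w hz hw h => Prod.ext (by rw [key z hz, key w hw, h]) h)
      fun S hS => ⟨(stabilizer G S, S), ⟨⟨hS.2, hS.1.1, le_rfl⟩, hS.1.2⟩, rfl⟩
  have h4 : Nat.card {z : Subgroup G × Subgroup G // Nat.card z.1 = p ^ (s + 1) ∧ Nat.card z.2 = p ^ s ∧ z.2 ≤ z.1} ≡
      Nat.card {K : Subgroup G // Nat.card K = p ^ (s + 1)} +
        p * Nat.card {K : Subgroup G // Nat.card K = p ^ (s + 1) ∧ ¬ IsCyclic K} [MOD p ^ 2] := by
    rw [cnt_pairs (fun K H : Subgroup G => Nat.card K = p ^ (s + 1) ∧ Nat.card H = p ^ s ∧ H ≤ K),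
      cnt_eq_sum, cnt_eq_sum (fun K : Subgroup G => Nat.card K = p ^ (s + 1) ∧ ¬ IsCyclic K), Finset.mul_sum,
      ← Finset.sum_add_distrib]
    refine Nat.ModEq.sum fun K _ => ?_
    by_cases hK : Nat.card K = p ^ (s + 1)
    · rw [cnt_congr (q := fun H : Subgroup G => Nat.card H = p ^ s ∧ H ≤ K) fun H => and_iff_right hK]
      by_cases hc : IsCyclic K
      · rw [card_subgroups_of_isCyclic hc (hK ▸ pow_dvd_pow _ (Nat.le_succ s))]
        simp [hK, hc, Nat.ModEq]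
      · rw [← card_subgroups_sub]
        simpa [hK, hc] using card_index_prime_modEq hK hc
    · rw [cnt_eq_zero fun H h => hK h.1]; simp [hK, Nat.ModEq]
  have h5 := dvd_cnt_stab hp.out hG 2 (fun k => ¬ k = p ^ (s + 1) ∧ ¬ k = p ^ s) fun j hj h => by
    have a1 : j ≠ s + 1 := fun h1 => h.1 (h1 ▸ rfl)
    have a2 : j ≠ s := fun h1 => h.2 (h1 ▸ rfl)
    omega
  rw [← h1, cnt_split _ (fun z : Subgroup G × Set G => Nat.card (stabilizer G z.2) = p ^ (s + 1)), h2, h3, ← hG,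
    ← card_subsets, cnt_split _ (fun S : Set G => Nat.card (stabilizer G S) = p ^ (s + 1)), card_stab_full hG,
    cnt_split (fun S : Set G => Nat.card S = p ^ (s + 1) ∧ ¬ Nat.card (stabilizer G S) = p ^ (s + 1))
      (fun S : Set G => Nat.card (stabilizer G S) = p ^ s), cnt_congr (fun S => and_assoc) (q := fun S : Set G =>
        Nat.card S = p ^ (s + 1) ∧ ¬ Nat.card (stabilizer G S) = p ^ (s + 1) ∧ ¬ Nat.card (stabilizer G S) = p ^ s)]
  refine Nat.ModEq.trans ?_ ((h4.mul_right' m).add_right _).symm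
  obtain ⟨t, ht⟩ := h5
  rw [ht]
  exact (Nat.modEq_iff_dvd.2 ⟨t, by push_cast; ring⟩).symm

/-- The number of subgroups of order `p ^ s` modulo `p ^ 2`. -/
theorem card_subgroups_modEq_sq {p s : ℕ} [hp : Fact p.Prime] (hG : p ^ (s + 1) ∣ Nat.card G) :
    Nat.card {H : Subgroup G // Nat.card H = p ^ s} ≡
      1 + p * Nat.card {K : Subgroup G // Nat.card K = p ^ (s + 1) ∧ ¬ IsCyclic K} [MOD p ^ 2] := by
  have h1 := card_subgroups_modEq_one hp.out ((pow_dvd_pow p (Nat.le_succ s)).trans hG)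
  obtain ⟨m, hm⟩ := hG
  have h0 : m ≠ 0 := by rintro rfl; exact Nat.card_pos.ne' (hm.trans (mul_zero _))
  haveI : NeZero (p ^ (s + 1) * m) := ⟨mul_ne_zero (pow_ne_zero _ hp.out.ne_zero) h0⟩
  have h : Nat.card (Multiplicative (ZMod (p ^ (s + 1) * m))) = p ^ (s + 1) * m := by simp
  have h2 := wielandt_sq h
  rw [card_subgroups_of_isCyclic' (by rw [h]; exact (pow_dvd_pow p (Nat.le_succ s)).mul_right _), one_mul,
    cnt_eq_zero (fun K hK => hK.2 inferInstance), mul_zero, zero_mul, add_zero] at h2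
  have h3 := choose_modEq_self (a := 1) hp.out h0
  rw [pow_one] at h3
  obtain ⟨a, ha⟩ := Nat.modEq_iff_dvd.1 h1
  obtain ⟨b, hb⟩ := Nat.modEq_iff_dvd.1 h3
  obtain ⟨c, hc⟩ := Nat.modEq_iff_dvd.1 ((h2.add_right _).symm.trans (wielandt_sq hm))
  refine Nat.modEq_iff_dvd.2 ⟨-c + a * b, mul_left_cancel₀ (show (m : ℤ) ≠ 0 by exact_mod_cast h0) ?_⟩
  push_cast at ha hb hc ⊢
  linear_combination (-1 : ℤ) * hc + (m - ((p * m).choose p : ℤ)) * ha + (p * a) * hb

theorem card_cyclic_mul (n : ℕ) :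
    Nat.card {K : Subgroup G // Nat.card K = n ∧ IsCyclic K} * n.totient = Nat.card {u : G // orderOf u = n} := by
  rw [cnt_eq_cnt_zpowers_mul (P := fun u : G => orderOf u = n) (n := n) (fun _ h => h) fun u w h hu => by
    rw [← Nat.card_zpowers, h, Nat.card_zpowers, hu]]
  congr 1
  refine cnt_congr fun K => ⟨fun h => ?_, ?_⟩
  · obtain ⟨a, ha, h1⟩ := isCyclic_iff_exists_le_zpowers.1 h.2
    have := le_antisymm (zpowers_le.2 ha) h1
    exact ⟨a, by rw [← Nat.card_zpowers, this, h.1], this⟩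
  · rintro ⟨u, hu, rfl⟩
    exact ⟨by rw [Nat.card_zpowers, hu], inferInstance⟩

theorem card_subgroups_modEq_of_dvd {p s : ℕ} [hp : Fact p.Prime] (hG : p ^ (s + 1) ∣ Nat.card G)
    (h : p ^ (s + 1) ∣ Nat.card {u : G // orderOf u = p ^ (s + 1)}) :
    Nat.card {H : Subgroup G // Nat.card H = p ^ s} ≡ 1 + p [MOD p ^ 2] := by
  have h1 := card_subgroups_modEq_one hp.out hG
  rw [cnt_split _ (fun K : Subgroup G => IsCyclic K)] at h1
  rw [← card_cyclic_mul, Nat.totient_prime_pow_succ hp.out, mul_left_comm, pow_succ] at h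
  have h2 := ((Nat.coprime_self_sub_right hp.out.one_le).2 (Nat.coprime_one_right p)).dvd_of_dvd_mul_right
    (Nat.dvd_of_mul_dvd_mul_left (pow_pos hp.out.pos s) h)
  have h3 := (((Nat.modEq_zero_iff_dvd.2 h2).symm.add_right _).trans h1).mul_left' p
  rw [zero_add, mul_one, ← pow_two] at h3
  exact (card_subgroups_modEq_sq hG).trans (h3.add_left 1)

end Cfsg.Agent.Solv
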